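import Cfsg.Agent.H553.OddHall_m3
import Cfsg.Agent.S4112
import Cfsg.Agent.OddOrderLocal.HallPi
import Cfsg.Agent.S0205
import Cfsg.Agent.H170.HL.OmRows_m3
import Cfsg.Agent.H555.Hall.ZStar_m3
import Cfsg.Agent.S2536
import Cfsg.Prelude.Def_HallClasses
import Cfsg.Prelude.Def_LieTypeChar
import Cfsg.Agent.H207.RV.Equi
import Cfsg.Agent.FastGrp
import Cfsg.Agent.Prune
set_option linter.all false

section
prune_inst 0x7fedeefb3bf825dfffff7fffffd4dffdfdbcbfffa4fffdcbffe0ebffbbff6b0ac9e5fba50bf898fe0ff7c23414e87b03f9ffc23fea6bdc7ffffd5ff45ffbff9ffdf7bd0951d788340fbc2ff783f0778e7f3fffffffffffffffffffffffffffbeffbfffffffff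

-- part: H167/RV/Hall
section
set_option linter.all false
open scoped Cfsg.Agent.FastGrp

/-!
# TEAM RV: `FHall` for Hall subgroups of odd order (helper167)

* `fhall_of_family` : from commuting `t`-subgroups `R t`, `t ≠ r`, normalised by a Sylow `r`-subgroup;
* `fhall_of_pairs` : the Sylow `t`-subgroups, `t ≠ r`, are abelian and `PairN t s` holds for all `s ≠ t`;
* `fhall_of_tor` : the `t`-subgroups normalised by an `s`-subgroup `Y` lie in a commutative subgroup.
-/

set_option autoImplicit false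

namespace Cfsg.Agent.H167.RV

open Subgroup Cfsg Cfsg.Agent.H988.CPi Cfsg.Agent.H571.RV Cfsg.Agent.H553.OddHall
open scoped Pointwise

variable {G : Type*} [Group G] [Finite G] {π : Set ℕ}

theorem fhall_of_family {r : ℕ} (hr : r.Prime) {H : Subgroup G} (hH : IsPiHall π H) {S : Subgroup G}
    (hSi : ¬ r ∣ S.relIndex H) (R : ℕ → Subgroup G)
    (hR : ∀ t, t.Prime → t ≠ r → t ∣ Nat.card H → R t ≤ H ∧ IsPGroup t (R t) ∧ ¬ t ∣ (R t).relIndex H ∧
      ∀ x ∈ S, ∀ y ∈ R t, x * y * x⁻¹ ∈ R t)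
    (hc : ∀ t u, t.Prime → t ≠ r → t ∣ Nat.card H → u.Prime → u ≠ r → u ∣ Nat.card H →
      ∀ a ∈ R t, ∀ b ∈ R u, a * b = b * a) : FHall π G := by
  classical
  let I := {t : ℕ // t.Prime ∧ t ≠ r ∧ t ∣ Nat.card H}
  set A : Subgroup G := ⨆ t : I, R t with hA
  have hRA : ∀ t (h1 : t.Prime) (h2 : t ≠ r) (h3 : t ∣ Nat.card H), R t ≤ A := fun t h1 h2 h3 =>
    le_iSup (fun t : I => R t) ⟨t, h1, h2, h3⟩
  have hAH : A ≤ H := iSup_le fun t => (hR t t.2.1 t.2.2.1 t.2.2.2).1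
  have hAA : A ≤ centralizer (A : Set G) := by
    refine iSup_le fun t => ?_
    rw [le_centralizer_iff]
    refine iSup_le fun u => ?_
    intro b hb
    rw [mem_centralizer_iff]
    intro a ha
    exact hc t u t.2.1 t.2.2.1 t.2.2.2 u.2.1 u.2.2.1 u.2.2.2 a ha b hb
  have hcomm : ∀ a ∈ A, ∀ b ∈ A, a * b = b * a := fun a ha b hb => mem_centralizer_iff.1 (hAA hb) a ha
  have hexp : ∀ a ∈ A, a ^ (ordCompl[r] (Nat.card H)) = 1 := by
    let E : Subgroup G :=
      { carrier := {a | a ∈ A ∧ a ^ (ordCompl[r] (Nat.card H)) = 1}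
        one_mem' := ⟨one_mem _, one_pow _⟩
        mul_mem' := by
          rintro a b ⟨ha, ha'⟩ ⟨hb, hb'⟩
          refine ⟨mul_mem ha hb, ?_⟩
          have h1 : Commute a b := hcomm a ha b hb
          rw [h1.mul_pow, ha', hb', one_mul]
        inv_mem' := by
          rintro a ⟨ha, ha'⟩
          exact ⟨inv_mem ha, by rw [inv_pow, ha', inv_one]⟩ }
    have h1 : A ≤ E := by
      refine iSup_le fun t => ?_
      intro a ha
      refine ⟨hRA t t.2.1 t.2.2.1 t.2.2.2 ha, ?_⟩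
      obtain ⟨h2, h3, -, -⟩ := hR t t.2.1 t.2.2.1 t.2.2.2
      obtain ⟨k, hk⟩ := h3 ⟨a, ha⟩
      have hk' : a ^ (t : ℕ) ^ k = 1 := congrArg Subtype.val hk
      have h4 : orderOf a ∣ Nat.card H := by
        have := orderOf_dvd_natCard (⟨a, h2 ha⟩ : H)
        rwa [Subgroup.orderOf_mk] at this
      have h5 : (orderOf a).Coprime r :=
        Nat.Coprime.coprime_dvd_left (orderOf_dvd_of_pow_eq_one hk')
          (Nat.Coprime.pow_left k ((Nat.coprime_primes t.2.1 hr).2 t.2.2.1))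
      rw [← orderOf_dvd_iff_pow_eq_one]
      have h6 : orderOf a ∣ r ^ (Nat.card H).factorization r * ordCompl[r] (Nat.card H) := by
        rw [Nat.ordProj_mul_ordCompl_eq_self]
        exact h4
      exact Nat.Coprime.dvd_of_dvd_mul_left (Nat.Coprime.pow_right _ h5) h6
    exact fun a ha => (h1 ha).2
  have hrA : ¬ r ∣ Nat.card A := by
    intro hd
    have : Fact r.Prime := ⟨hr⟩
    obtain ⟨x, hx⟩ := exists_prime_orderOf_dvd_card' r hd
    have h1 := hexp x x.2
    have h2 : orderOf (x : G) = r := by rw [Subgroup.orderOf_coe]; exact hx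
    have h3 := orderOf_dvd_of_pow_eq_one h1
    rw [h2] at h3
    exact Nat.not_dvd_ordCompl hr Nat.card_pos.ne' h3
  have hidx : ∀ p : ℕ, p.Prime → p ∣ A.relIndex H → p = r := by
    intro p hp hd
    by_contra hne
    have hpH : p ∣ Nat.card H := hd.trans (relIndex_dvd_card _ _)
    exact (hR p hp hne hpH).2.2.1 (hd.trans (relIndex_dvd_of_le_left H (hRA p hp hne hpH)))
  have hSN : S ≤ normalizer (A : Set G) := by
    intro x hx
    have h1 : A ≤ A.comap (MulAut.conj x).toMonoidHom := by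
      refine iSup_le fun t => ?_
      intro y hy
      exact hRA t t.2.1 t.2.2.1 t.2.2.2 ((hR t t.2.1 t.2.2.1 t.2.2.2).2.2.2 x hx y hy)
    exact mem_normalizer_fintype (S := (A : Set G)) fun y hy => h1 hy
  have hAN : A ≤ normalizer (A : Set G) := le_normalizer
  have hHN : H ≤ normalizer (A : Set G) := by
    have h1 : (normalizer (A : Set G)).relIndex H = 1 := by
      by_contra hne
      obtain ⟨p, hp, hd⟩ := Nat.exists_prime_and_dvd hne
      rcases eq_or_ne p r with rfl | hpr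
      · exact hSi (hd.trans (relIndex_dvd_of_le_left H hSN))
      · exact hpr (hidx p hp (hd.trans (relIndex_dvd_of_le_left H hAN)))
    exact relIndex_eq_one.1 h1
  exact ⟨r, hr, H, A, hH, hAH, hHN, hcomm, hrA, hidx⟩

/-- a Sylow subgroup of `H`, as a subgroup of `G` -/
theorem exists_syl {r : ℕ} (hr : r.Prime) (H : Subgroup G) : ∃ S ≤ H, IsPGroup r S ∧ ¬ r ∣ S.relIndex H := by
  have : Fact r.Prime := ⟨hr⟩
  obtain ⟨S⟩ : Nonempty (Sylow r H) := inferInstance
  refine ⟨(S : Subgroup H).map H.subtype, map_subtype_le _, S.2.map _, ?_⟩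
  rw [relIndex, subgroupOf, comap_map_eq_self_of_injective H.subtype_injective]
  exact S.not_dvd_index

omit [Finite G] in
theorem comm_of_normal {t u : ℕ} (ht : t.Prime) (hu : u.Prime) (htu : t ≠ u) {H R T : Subgroup G} (hRH : R ≤ H)
    (hTH : T ≤ H) (hR : IsPGroup t R) (hT : IsPGroup u T) (hRn : ∀ x ∈ H, ∀ y ∈ R, x * y * x⁻¹ ∈ R)
    (hTn : ∀ x ∈ H, ∀ y ∈ T, x * y * x⁻¹ ∈ T) : ∀ a ∈ R, ∀ b ∈ T, a * b = b * a := by
  intro a ha b hb
  have h1 : a * b * a⁻¹ * b⁻¹ ∈ R := by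
    have e : a * b * a⁻¹ * b⁻¹ = a * (b * a⁻¹ * b⁻¹) := by group
    rw [e]
    exact mul_mem ha (hRn b (hTH hb) _ (inv_mem ha))
  have h2 : a * b * a⁻¹ * b⁻¹ ∈ T := mul_mem (hTn a (hRH ha) b hb) (inv_mem hb)
  obtain ⟨i, hi⟩ := hR ⟨_, h1⟩
  obtain ⟨j, hj⟩ := hT ⟨_, h2⟩
  have hi' : (a * b * a⁻¹ * b⁻¹) ^ t ^ i = 1 := congrArg Subtype.val hi
  have hj' : (a * b * a⁻¹ * b⁻¹) ^ u ^ j = 1 := congrArg Subtype.val hj
  have h3 : orderOf (a * b * a⁻¹ * b⁻¹) = 1 := by
    have hc : Nat.Coprime (t ^ i) (u ^ j) := Nat.Coprime.pow _ _ ((Nat.coprime_primes ht hu).2 htu)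
    exact Nat.eq_one_of_dvd_coprimes hc (orderOf_dvd_of_pow_eq_one hi') (orderOf_dvd_of_pow_eq_one hj')
  have h4 := orderOf_eq_one_iff.1 h3
  have e : a * b = (a * b * a⁻¹ * b⁻¹) * (b * a) := by group
  rw [e, h4, one_mul]

/-- **From the pairs.** -/
theorem fhall_of_pairs {r : ℕ} (hr : r.Prime) (h2 : 2 ∉ π) (hE : ∃ H : Subgroup G, IsPiHall π H)
    (h : ∀ t, t.Prime → t ≠ r → t ∈ π → t ∣ Nat.card G →
      (∀ s, s.Prime → s ∈ π → s ≠ t → s ∣ Nat.card G → PairN t s G) ∧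
      ∀ P : Subgroup G, IsPGroup t P → ∀ a ∈ P, ∀ b ∈ P, a * b = b * a) : FHall π G := by
  classical
  obtain ⟨H, hH⟩ := hE
  obtain ⟨S, hSH, hSr, hSi⟩ := exists_syl hr H
  have key : ∀ t, ∃ R : Subgroup G, t.Prime → t ≠ r → t ∣ Nat.card H → R ≤ H ∧ IsPGroup t R ∧ ¬ t ∣ R.relIndex H ∧
      ∀ x ∈ H, ∀ y ∈ R, x * y * x⁻¹ ∈ R := by
    intro t
    by_cases hex : t.Prime ∧ t ≠ r ∧ t ∣ Nat.card H
    · obtain ⟨ht, htr, htH⟩ := hex
      have htπ : t ∈ π := hH.1 t ht htH
      obtain ⟨hp, -⟩ := h t ht htr htπ (htH.trans (card_subgroup_dvd_card H))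
      obtain ⟨T, hTn, hTp, hTi⟩ := ns_of_pairs h2 ht htπ (fun s hs hsπ hst hsd => hp s hs hsπ hst hsd) hH
      refine ⟨T.map H.subtype, fun _ _ _ => ⟨map_subtype_le _, hTp.map _, ?_, ?_⟩⟩
      · rw [relIndex, subgroupOf, comap_map_eq_self_of_injective H.subtype_injective]
        exact hTi
      · rintro x hx _ ⟨y, hy, rfl⟩
        exact ⟨(⟨x, hx⟩ : H) * y * (⟨x, hx⟩ : H)⁻¹, hTn.conj_mem y hy _, rfl⟩
    · exact ⟨⊥, fun h1 h2 h3 => absurd ⟨h1, h2, h3⟩ hex⟩
  choose R hR using key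
  refine fhall_of_family hr hH hSi R (fun t ht htr htH => ?_) (fun t u ht htr htH hu hur huH => ?_)
  · obtain ⟨h1, h3, h4, h5⟩ := hR t ht htr htH
    exact ⟨h1, h3, h4, fun x hx => h5 x (hSH hx)⟩
  · obtain ⟨a1, a2, -, a4⟩ := hR t ht htr htH
    obtain ⟨b1, b2, -, b4⟩ := hR u hu hur huH
    rcases eq_or_ne t u with rfl | htu
    · exact (h t ht htr (hH.1 t ht htH) (htH.trans (card_subgroup_dvd_card H))).2 (R t) a2
    · exact comm_of_normal ht hu htu a1 b1 a2 b2 a4 b4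

/-- a Hall `{s, t}`-subgroup over a given Sylow `s`-subgroup -/
theorem exists_hall_over {s : ℕ} (hs : s.Prime) {t : ℕ} (h2 : 2 ∉ π) {H : Subgroup G} (hH : IsPiHall π H)
    (hsπ : s ∈ π) (htπ : t ∈ π) {S : Subgroup G} (hSH : S ≤ H) (hSp : IsPGroup s S) :
    ∃ X ≤ H, IsPiHall ({s, t} : Set ℕ) X ∧ S ≤ X := by
  have hfs : Fact s.Prime := ⟨hs⟩
  have hsol := solvable_of_pi h2 hH.1
  obtain ⟨X, hX⟩ := exists_isPiHall hsol ({s, t} : Set ℕ)
  -- a Sylow `s`-subgroup of `H` in `X`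
  obtain ⟨Q, hQX, hQp, hQi⟩ := exists_syl hs X
  have hQi' : ¬ s ∣ Q.index := by
    rw [← relIndex_mul_index hQX, hs.dvd_mul, not_or]
    exact ⟨hQi, hX.2 s hs (by simp)⟩
  have hSp' : IsPGroup s (S.subgroupOf H) := hSp.comap_of_injective H.subtype H.subtype_injective
  obtain ⟨P, hP⟩ := hSp'.exists_le_sylow
  obtain ⟨g, hg⟩ := MulAction.exists_smul_eq H (hQp.toSylow hQi' : Sylow s H) P
  have hX2 : IsPiHall ({s, t} : Set ℕ) (MulAut.conj g • X) := H988.CPi.isPiHall_smul hX g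
  refine ⟨(MulAut.conj g • X).map H.subtype, map_subtype_le _, isPiHall_trans (by
    rintro x (rfl | rfl) <;> assumption) hH hX2, ?_⟩
  intro x hx
  refine ⟨⟨x, hSH hx⟩, ?_, rfl⟩
  have h1 : (⟨x, hSH hx⟩ : H) ∈ (P : Subgroup H) := hP (mem_subgroupOf.2 hx)
  rw [← hg] at h1
  have h3 : ((g • (hQp.toSylow hQi' : Sylow s H) : Sylow s H) : Subgroup H) = MulAut.conj g • Q := rfl
  rw [h3] at h1
  exact Subgroup.pointwise_smul_le_pointwise_smul_iff.2 hQX h1

/-- **From a torus.** -/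
theorem fhall_of_tor {s : ℕ} (hs : s.Prime) (h2 : 2 ∉ π) (hsπ : s ∈ π) (hE : ∃ H : Subgroup G, IsPiHall π H)
    (T₀ : Subgroup G) (hT₀ : ∀ a ∈ T₀, ∀ b ∈ T₀, a * b = b * a) (Y : Subgroup G) (hY : IsPGroup s Y)
    (hA : ∀ t, t.Prime → t ∈ π → t ≠ s → t ∣ Nat.card G → ∀ R : Subgroup G, IsPGroup t R →
      (∀ y ∈ Y, ∀ x ∈ R, y * x * y⁻¹ ∈ R) → R ≤ T₀)
    (hp : ∀ t, t.Prime → t ∈ π → t ≠ s → t ∣ Nat.card G → PairN t s G) : FHall π G := by
  classical
  have hfs : Fact s.Prime := ⟨hs⟩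
  -- a Hall subgroup containing `Y`
  obtain ⟨H, hH, hYH⟩ : ∃ H : Subgroup G, IsPiHall π H ∧ Y ≤ H := by
    obtain ⟨H, hH⟩ := hE
    obtain ⟨Q, hQH, hQp, hQi⟩ := exists_syl hs H
    have hQi' : ¬ s ∣ Q.index := by
      rw [← relIndex_mul_index hQH, hs.dvd_mul, not_or]
      exact ⟨hQi, hH.2 s hs hsπ⟩
    obtain ⟨P, hP⟩ := hY.exists_le_sylow
    obtain ⟨g, hg⟩ := MulAction.exists_smul_eq G (hQp.toSylow hQi' : Sylow s G) P
    refine ⟨MulAut.conj g • H, H988.CPi.isPiHall_smul hH g, ?_⟩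
    rw [← hg] at hP
    have h3 : ((g • (hQp.toSylow hQi' : Sylow s G) : Sylow s G) : Subgroup G) = MulAut.conj g • Q := rfl
    rw [h3] at hP
    exact hP.trans (Subgroup.pointwise_smul_le_pointwise_smul_iff.2 hQH)
  obtain ⟨S, hSH, hSp, hSi, hYS⟩ : ∃ S ≤ H, IsPGroup s S ∧ ¬ s ∣ S.relIndex H ∧ Y ≤ S := by
    have hY' : IsPGroup s (Y.subgroupOf H) := hY.comap_of_injective H.subtype H.subtype_injective
    obtain ⟨P, hP⟩ := hY'.exists_le_sylow
    refine ⟨(P : Subgroup H).map H.subtype, map_subtype_le _, P.2.map _, ?_, ?_⟩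
    · rw [relIndex, subgroupOf, comap_map_eq_self_of_injective H.subtype_injective]
      exact P.not_dvd_index
    · intro y hy
      exact ⟨⟨y, hYH hy⟩, hP (mem_subgroupOf.2 hy), rfl⟩
  have key : ∀ t, ∃ R : Subgroup G, t.Prime → t ≠ s → t ∣ Nat.card H → R ≤ H ∧ IsPGroup t R ∧ ¬ t ∣ R.relIndex H ∧
      ∀ x ∈ S, ∀ y ∈ R, x * y * x⁻¹ ∈ R := by
    intro t
    by_cases hex : t.Prime ∧ t ≠ s ∧ t ∣ Nat.card H
    · obtain ⟨ht, hts, htH⟩ := hex
      have htπ : t ∈ π := hH.1 t ht htH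
      have htG := htH.trans (card_subgroup_dvd_card H)
      obtain ⟨X, hXH, hX, hSX⟩ := exists_hall_over hs h2 hH hsπ htπ (t := t) hSH hSp
      obtain ⟨T, hTn, hTp, hTi⟩ := hp t ht htπ hts htG X hX
      refine ⟨T.map X.subtype, fun _ _ _ => ⟨(map_subtype_le _).trans hXH, hTp.map _, ?_, ?_⟩⟩
      · have h1 : (T.map X.subtype).relIndex X = T.index := by
          rw [relIndex, subgroupOf, comap_map_eq_self_of_injective X.subtype_injective]
        rw [← relIndex_mul_relIndex _ _ _ (map_subtype_le T) hXH, h1, ht.dvd_mul, not_or]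
        exact ⟨hTi, fun hd => hX.2 t ht (by simp) (hd.trans (relIndex_dvd_index_of_le hXH))⟩
      · rintro x hx _ ⟨y, hy, rfl⟩
        exact ⟨(⟨x, hSX hx⟩ : X) * y * (⟨x, hSX hx⟩ : X)⁻¹, hTn.conj_mem y hy _, rfl⟩
    · exact ⟨⊥, fun h1 h2 h3 => absurd ⟨h1, h2, h3⟩ hex⟩
  choose R hR using key
  refine fhall_of_family hs hH hSi R (fun t ht hts htH => hR t ht hts htH)
    (fun t u ht hts htH hu hus huH => ?_)
  have hle : ∀ t, t.Prime → t ≠ s → t ∣ Nat.card H → R t ≤ T₀ := by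
    intro t ht hts htH
    obtain ⟨-, a2, -, a4⟩ := hR t ht hts htH
    exact hA t ht (hH.1 t ht htH) hts (htH.trans (card_subgroup_dvd_card H)) (R t) a2 fun y hy => a4 y (hYS hy)
  exact fun a ha b hb => hT₀ a (hle t ht hts htH ha) b (hle u hu hus huH hb)

end Cfsg.Agent.H167.RV
end

-- part: H808/RV/Quot
section
set_option linter.all false
open scoped Cfsg.Agent.FastGrp

/-!
# TEAM RV: quotients (A2)

* `exists_lift` : a `π`-subgroup of the image of a homomorphism is the image of a `π`-subgroup;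
* `dom_quot` : `Dom π G → Dom π (G ⧸ A)`; `dom_surj` : homomorphic images.
-/

set_option autoImplicit false

namespace Cfsg.Agent.H808.RV

open Subgroup Cfsg Cfsg.Agent.H988.CPi Cfsg.Agent.H571.DExt Cfsg.Agent.H571.RV
open scoped Pointwise

variable {π : Set ℕ} {G G' : Type*} [Group G] [Finite G] [Group G']

/-- a `π`-subgroup of the image of a homomorphism is the image of a `π`-subgroup -/
theorem exists_lift (f : G →* G') {K : Subgroup G'} (hKf : K ≤ f.range) (hK : PiN π (Nat.card K)) :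
    ∃ L : Subgroup G, PiN π (Nat.card L) ∧ L.map f = K := by
  set K₀ : Subgroup G := K.comap f with hK₀
  have hmap : K₀.map f = K := by rw [hK₀, Subgroup.map_comap_eq, inf_eq_right.2 hKf]
  have hA : f.ker ≤ K₀ := by
    intro a ha
    show f a ∈ K
    rw [MonoidHom.mem_ker.1 ha]
    exact one_mem K
  obtain ⟨H, hH, hp⟩ := S4112.exists_supplement (f.ker.subgroupOf K₀)
  have hidx : (f.ker.subgroupOf K₀).index = Nat.card K := by
    have h1 : (f.comp K₀.subtype).ker = f.ker.subgroupOf K₀ := rfl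
    have h2 : (f.comp K₀.subtype).range = K := by rw [MonoidHom.range_comp, Subgroup.range_subtype, hmap]
    rw [← h1, Subgroup.index_ker, h2]
  refine ⟨H.map K₀.subtype, ?_, ?_⟩
  · rw [Subgroup.card_subtype]
    intro p hp' hd
    have h1 := hp p hp' hd
    rw [hidx] at h1
    exact hK p hp' h1
  · have h1 : (H.map K₀.subtype) ⊔ f.ker = K₀ := by
      have h2 := congrArg (Subgroup.map K₀.subtype) hH
      rw [Subgroup.map_sup, Subgroup.subgroupOf_map_subtype, ← MonoidHom.range_eq_map, Subgroup.range_subtype,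
        inf_eq_left.2 hA] at h2
      exact h2
    have h2 : f.ker.map f = ⊥ := (Subgroup.map_eq_bot_iff _).2 le_rfl
    have h3 := congrArg (Subgroup.map f) h1
    rw [Subgroup.map_sup, h2, sup_bot_eq, hmap] at h3
    exact h3

theorem map_smul_conj [Finite G'] (f : G →* G') (g : G) (L : Subgroup G) :
    (MulAut.conj g • L).map f = MulAut.conj (f g) • L.map f := by
  rw [← conj_eq, ← conj_eq, Subgroup.map_map, Subgroup.map_map]
  congr 1
  ext x
  simp

/-- **A2** -/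
theorem dom_quot (A : Subgroup G) [A.Normal] (h : Dom π G) : Dom π (G ⧸ A) := by
  obtain ⟨L, hL, hdom⟩ := h
  refine ⟨L.map (QuotientGroup.mk' A), isPiHall_map_mk hL A, fun K hK => ?_⟩
  obtain ⟨M, hM, rfl⟩ := exists_lift (QuotientGroup.mk' A) (K := K)
    (by rw [MonoidHom.range_eq_top.2 (QuotientGroup.mk'_surjective A)]; exact le_top) hK
  obtain ⟨g, hg⟩ := hdom M hM
  refine ⟨QuotientGroup.mk' A g, ?_⟩
  rw [← map_smul_conj]
  exact Subgroup.map_mono hg

end Cfsg.Agent.H808.RV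
end

-- part: H808/RV/Iso
section
set_option linter.all false
open scoped Cfsg.Agent.FastGrp

/-!
# TEAM RV: A8

* isomorphism invariance: `Dom.congr`, `DB.congr`, `RowN.congr`, `RowE.congr`, `FHall.congr`, `cpi_congr`, `PiGrp.congr`,
  `OnePrime.congr`;
* `rowE_of_pi`, `rowE_of_out`, `dom_of_onePrime`, `cpi_of_onePrime`, `fhall_of_onePrime`.
-/

set_option autoImplicit false

namespace Cfsg.Agent.H808.RV

open Subgroup Cfsg Cfsg.Agent.H988.CPi Cfsg.Agent.H571.DExt Cfsg.Agent.H571.RV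
open scoped Pointwise

variable {π : Set ℕ}

section congr

universe u v

variable {S : Type u} {T : Type v} [Group S] [Group T]

theorem isPiHall_map (e : S ≃* T) {H : Subgroup S} : IsPiHall π (H.map e.toMonoidHom) ↔ IsPiHall π H := by
  have h1 : Nat.card (H.map e.toMonoidHom) = Nat.card H :=
    (Nat.card_congr (H.equivMapOfInjective e.toMonoidHom e.injective).toEquiv).symm
  have h2 : (H.map e.toMonoidHom).index = H.index := index_map_equiv H e
  constructor
  · rintro ⟨ha, hb⟩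
    exact ⟨by rwa [h1] at ha, by rwa [h2] at hb⟩
  · rintro ⟨ha, hb⟩
    exact ⟨by rwa [h1], by rwa [h2]⟩

theorem map_symm_map (e : S ≃* T) (K : Subgroup T) : (K.map e.symm.toMonoidHom).map e.toMonoidHom = K := by
  rw [Subgroup.map_map]
  convert Subgroup.map_id K
  ext x
  exact e.apply_symm_apply x

theorem exists_eq_map (e : S ≃* T) (K : Subgroup T) : ∃ H : Subgroup S, K = H.map e.toMonoidHom :=
  ⟨_, (map_symm_map e K).symm⟩

theorem card_map (e : S ≃* T) (H : Subgroup S) : Nat.card (H.map e.toMonoidHom) = Nat.card H :=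
  (Nat.card_congr (H.equivMapOfInjective e.toMonoidHom e.injective).toEquiv).symm

theorem map_mono_iff (e : S ≃* T) {H K : Subgroup S} : H.map e.toMonoidHom ≤ K.map e.toMonoidHom ↔ H ≤ K :=
  Subgroup.map_le_map_iff_of_injective e.injective

theorem PiGrp.congr (e : S ≃* T) (h : PiGrp π S) : PiGrp π T := by
  have h1 : PiN π (Nat.card S) := h
  rw [Nat.card_congr e.toEquiv] at h1
  exact h1

theorem OnePrime.congr (e : S ≃* T) (h : OnePrime π S) : OnePrime π T := by
  intro p q hp hq hpπ hqπ h1 h2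
  rw [← Nat.card_congr e.toEquiv] at h1 h2
  exact h p q hp hq hpπ hqπ h1 h2

theorem cpi_congr (e : S ≃* T) (h : IsCPiGroup π S) : IsCPiGroup π T := by
  obtain ⟨⟨L, hL⟩, hc⟩ := h
  refine ⟨⟨_, (isPiHall_map e).2 hL⟩, fun H K hH hK => ?_⟩
  obtain ⟨H, rfl⟩ := exists_eq_map e H
  obtain ⟨K, rfl⟩ := exists_eq_map e K
  obtain ⟨g, hg⟩ := hc H K ((isPiHall_map e).1 hH) ((isPiHall_map e).1 hK)
  refine ⟨e g, ?_⟩
  rw [hg, Subgroup.map_map, Subgroup.map_map]
  congr 1
  ext x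
  simp only [_root_.MulEquiv.toMonoidHom_eq_coe, _root_.MonoidHom.coe_comp, _root_.MonoidHom.coe_coe, _root_.Function.comp_apply, _root_.MulAut.conj_apply, _root_.map_mul, _root_.map_inv]

theorem dom_congr (e : S ≃* T) (h : Dom π S) : Dom π T := by
  obtain ⟨L, hL, hdom⟩ := h
  refine ⟨_, (isPiHall_map e).2 hL, fun K hK => ?_⟩
  obtain ⟨K, rfl⟩ := exists_eq_map e K
  rw [card_map] at hK
  obtain ⟨g, hg⟩ := hdom K hK
  refine ⟨e g, ?_⟩
  have h1 := Subgroup.map_mono (f := e.toMonoidHom) hg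
  refine h1.trans (le_of_eq ?_)
  have h2 : MulAut.conj g • L = L.map (MulAut.conj g).toMonoidHom := rfl
  have h3 : MulAut.conj (e g) • L.map e.toMonoidHom = (L.map e.toMonoidHom).map (MulAut.conj (e g)).toMonoidHom := rfl
  rw [h2, h3, Subgroup.map_map, Subgroup.map_map]
  congr 1
  ext x
  simp only [_root_.MulEquiv.toMonoidHom_eq_coe, _root_.MonoidHom.coe_comp, _root_.MonoidHom.coe_coe, _root_.Function.comp_apply, _root_.MulAut.conj_apply, _root_.map_mul, _root_.map_inv]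

/-- automorphisms of isomorphic groups -/
theorem congr_map (e : S ≃* T) (α : MulAut S) (H : Subgroup S) :
    (H.map e.toMonoidHom).map (MulAut.congr e α : T ≃* T).toMonoidHom = (H.map (α : S ≃* S).toMonoidHom).map e.toMonoidHom := by
  rw [Subgroup.map_map, Subgroup.map_map]
  congr 1
  ext x
  show e (α (e.symm (e x))) = e (α x)
  rw [e.symm_apply_apply]

theorem mem_stab_congr (e : S ≃* T) {α : MulAut S} {H : Subgroup S} :
    MulAut.congr e α ∈ stab (H.map e.toMonoidHom) ↔ α ∈ stab H := by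
  rw [mem_stab, mem_stab, congr_map]
  exact ⟨fun h => Subgroup.map_injective e.injective h, fun h => by rw [h]⟩

theorem stab_map (e : S ≃* T) (H : Subgroup S) :
    stab (H.map e.toMonoidHom) = (stab H).map (MulAut.congr e).toMonoidHom := by
  ext β
  obtain ⟨α, rfl⟩ := (MulAut.congr e).surjective β
  rw [mem_stab_congr]
  constructor
  · intro h
    exact ⟨α, h, rfl⟩
  · rintro ⟨α', h, h'⟩
    rwa [← (MulAut.congr e).injective h']

theorem inn_map (e : S ≃* T) : inn T = (inn S).map (MulAut.congr e).toMonoidHom := by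
  ext β
  constructor
  · rintro ⟨t, rfl⟩
    refine ⟨MulAut.conj (e.symm t), ⟨_, rfl⟩, ?_⟩
    ext x
    show e (e.symm t * e.symm x * (e.symm t)⁻¹) = t * x * t⁻¹
    simp only [_root_.map_mul, _root_.MulEquiv.apply_symm_apply, _root_.map_inv]
  · rintro ⟨_, ⟨s, rfl⟩, rfl⟩
    refine ⟨e s, ?_⟩
    ext x
    show e s * x * (e s)⁻¹ = e (s * e.symm x * s⁻¹)
    simp only [_root_.map_mul, _root_.MulEquiv.apply_symm_apply, _root_.map_inv]

theorem DB.congr (e : S ≃* T) (h : DB π S) : DB π T := by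
  obtain ⟨𝒜, hi, htr, hidx⟩ := h.out
  refine ⟨fun K hK => ?_, 𝒜.map (MulAut.congr e).toMonoidHom, ?_, fun H K hH hK => ?_, fun H hH => ?_⟩
  · obtain ⟨K, rfl⟩ := exists_eq_map e K
    rw [card_map] at hK
    obtain ⟨H, hH, hKH⟩ := h.dom K hK
    exact ⟨_, (isPiHall_map e).2 hH, Subgroup.map_mono hKH⟩
  · rw [inn_map e]
    exact Subgroup.map_mono hi
  · obtain ⟨H, rfl⟩ := exists_eq_map e H
    obtain ⟨K, rfl⟩ := exists_eq_map e K
    obtain ⟨α, hα, hα'⟩ := htr H K ((isPiHall_map e).1 hH) ((isPiHall_map e).1 hK)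
    exact ⟨MulAut.congr e α, ⟨α, hα, rfl⟩, by rw [congr_map, ← hα']⟩
  · obtain ⟨H, rfl⟩ := exists_eq_map e H
    have h1 := hidx H ((isPiHall_map e).1 hH)
    rw [stab_map, inn_map e, ← Subgroup.map_inf _ _ _ (MulAut.congr e).injective, ← Subgroup.map_sup,
      Subgroup.relIndex_map_map_of_injective _ _ (MulAut.congr e).injective]
    exact h1

theorem RowN.congr (e : S ≃* T) (h : RowN π S) : RowN π T := fun hT => cpi_congr e (h (DB.congr e.symm hT))

theorem RowE.congr (e : S ≃* T) (h : RowE π S) : RowE π T := by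
  intro hT P hP
  obtain ⟨P, rfl⟩ := exists_eq_map (MulAut.congr e) P
  rw [card_map] at hP
  obtain ⟨H, hH, hPH⟩ := h (dom_congr e.symm hT) P hP
  exact ⟨_, (isPiHall_map e).2 hH, by rw [stab_map]; exact Subgroup.map_mono hPH⟩

theorem FHall.congr (e : S ≃* T) (h : FHall π S) : FHall π T := by
  obtain ⟨r, hr, H, A, hH, hAH, hN, hab, hrA, hp⟩ := h
  refine ⟨r, hr, H.map e.toMonoidHom, A.map e.toMonoidHom, (isPiHall_map e).2 hH, Subgroup.map_mono hAH, ?_, ?_, ?_, ?_⟩
  · refine (Subgroup.map_mono hN).trans ?_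
    have h1 := Subgroup.le_normalizer_map (H := A) e.toMonoidHom
    exact h1
  · rintro _ ⟨a, ha, rfl⟩ _ ⟨b, hb, rfl⟩
    rw [← map_mul, ← map_mul, hab a ha b hb]
  · rwa [card_map]
  · intro p hp' hd
    rw [Subgroup.relIndex_map_map_of_injective _ _ e.injective] at hd
    exact hp p hp' hd

theorem FamRow.congr (e : S ≃* T) (h : FamRow π S) : FamRow π T := fun hT =>
  (h (DB.congr e.symm hT)).imp (PiGrp.congr e) fun h' => ⟨cpi_congr e h'.1, FHall.congr e h'.2⟩

end congr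

section rows

universe u

variable {S : Type u} [Group S]

theorem stab_top : stab (⊤ : Subgroup S) = ⊤ := by
  rw [eq_top_iff]
  intro α _
  rw [mem_stab, ← MonoidHom.range_eq_map]
  exact MonoidHom.range_eq_top.2 (α : S ≃* S).surjective

theorem rowE_of_pi (h : PiGrp π S) : RowE π S := fun _ P _ => ⟨⊤, PiGrp.hall h, by rw [stab_top]; exact le_top⟩

variable [Finite S]

/-- a Hall subgroup of prime power order -/
theorem exists_hall_of_onePrime (h : OnePrime π S) : ∃ r : ℕ, r.Prime ∧ ∃ H : Subgroup S, IsPiHall π H ∧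
    IsPGroup r H := by
  by_cases hex : ∃ r : ℕ, r.Prime ∧ r ∈ π ∧ r ∣ Nat.card S
  · obtain ⟨r, hr, hrπ, hrd⟩ := hex
    have := Fact.mk hr
    obtain ⟨P⟩ : Nonempty (Sylow r S) := inferInstance
    refine ⟨r, hr, P, ⟨?_, ?_⟩, P.isPGroup'⟩
    · intro q hq hqd
      obtain ⟨k, hk⟩ := IsPGroup.iff_card.mp P.isPGroup'
      rw [hk] at hqd
      rwa [(Nat.prime_dvd_prime_iff_eq hq hr).mp (hq.dvd_of_dvd_pow hqd)]
    · intro q hq hqπ hqd
      obtain rfl := h q r hq hr hqπ hrπ (hqd.trans (Subgroup.index_dvd_card _)) hrd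
      exact P.not_dvd_index hqd
  · refine ⟨2, Nat.prime_two, ⊥, ⟨?_, ?_⟩, IsPGroup.of_bot⟩
    · intro q hq hqd
      rw [Subgroup.card_bot] at hqd
      exact absurd (Nat.dvd_one.mp hqd) hq.one_lt.ne'
    · intro q hq hqπ hqd
      rw [Subgroup.index_bot] at hqd
      exact hex ⟨q, hq, hqπ, hqd⟩

theorem dom_of_onePrime (h : OnePrime π S) : Dom π S := by
  obtain ⟨r, hr, H, hH, hp⟩ := exists_hall_of_onePrime h
  have := Fact.mk hr
  exact dom_of_nilpotent hH hp.isNilpotent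

theorem cpi_of_onePrime (h : OnePrime π S) : IsCPiGroup π S := (dom_of_onePrime h).cpi

theorem fhall_of_onePrime (h : OnePrime π S) : FHall π S := by
  obtain ⟨r, hr, H, hH, hp⟩ := exists_hall_of_onePrime h
  have := Fact.mk hr
  refine ⟨r, hr, H, ⊥, hH, bot_le, ?_, ?_, ?_, ?_⟩
  · intro h _
    rw [Subgroup.mem_normalizer_iff]
    intro x
    rw [Subgroup.mem_bot, Subgroup.mem_bot]
    constructor
    · rintro rfl
      simp
    · intro h1
      exact conj_eq_one_iff.1 h1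
  · intro a ha b hb
    rw [Subgroup.mem_bot.1 ha, Subgroup.mem_bot.1 hb]
  · rw [Subgroup.card_bot]
    intro hd
    exact hr.one_lt.ne' (Nat.dvd_one.mp hd)
  · intro p hp' hd
    rw [Subgroup.relIndex_bot_left] at hd
    obtain ⟨k, hk⟩ := IsPGroup.iff_card.mp hp
    rw [hk] at hd
    exact (Nat.prime_dvd_prime_iff_eq hp' hr).mp (hp'.dvd_of_dvd_pow hd)

end rows

end Cfsg.Agent.H808.RV
end

-- part: H380/RV/Tr
section
set_option linter.all false
open scoped Cfsg.Agent.FastGrp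

/-!
# TEAM RV, R2: transfer from `GL_n(q)`, `GU_n(q)` to the simple groups (helper380)
-/

set_option autoImplicit false
set_option linter.style.haveILetI false

namespace Cfsg.Agent.H380.RV

open Subgroup Cfsg Cfsg.Agent.H988.CPi Cfsg.Agent.H571.DExt Cfsg.Agent.H571.RV Cfsg.Agent.H808.RV
open Cfsg.Agent.OddOrderLocal Cfsg.Agent.Solvable.SZ
open scoped Pointwise

variable {π : Set ℕ}

theorem isPiHallOf_top {Q : Type*} [Group Q] {H : Subgroup Q} : IsPiHallOf π H ⊤ ↔ IsPiHall π H := by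
  rw [IsPiHallOf, relIndex_top_right]
  exact ⟨fun h => h.2, fun h => ⟨le_top, h⟩⟩

theorem cpi_of_solvable {Q : Type*} [Group Q] [Finite Q] (h : Group.IsSolvable Q) : IsCPiGroup π Q := by
  have h1 : Group.IsSolvable (⊤ : Subgroup Q) := inferInstance
  refine ⟨?_, fun H K hH hK => ?_⟩
  · obtain ⟨K, hK⟩ := HallPi.exists_isPiHallOf h1 π
    exact ⟨K, isPiHallOf_top.1 hK⟩
  · obtain ⟨m, -, hm⟩ := HallPi.conj_of_isPiHallOf h1 (isPiHallOf_top.2 hH) (isPiHallOf_top.2 hK)
    exact ⟨m, hm.symm⟩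

theorem odd_of_piN (h2 : 2 ∉ π) {n : ℕ} (h : PiN π n) : Odd n := by
  rw [← Nat.not_even_iff_odd, even_iff_two_dvd]
  exact fun h1 => h2 (h 2 Nat.prime_two h1)

/-- `D_π` for central extensions -/
theorem dom_of_ker {X S : Type*} [Group X] [Finite X] [Group S] [Finite S] (h2 : 2 ∉ π) (f : X →* S)
    (hf : Function.Surjective f) (hc : f.ker ≤ center X) (hD : Dom π S) : Dom π X := by
  have hcomm : ∀ a b : f.ker, a * b = b * a := fun a b =>
    Subtype.ext ((mem_center_iff.1 (hc b.2) a.1))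
  have hsol : Group.IsSolvable f.ker := by
    letI : CommGroup f.ker := { (inferInstance : Group f.ker) with mul_comm := hcomm }
    infer_instance
  obtain ⟨H, hH⟩ := (cpi_of_solvable (π := π) hsol).1
  have hn : Group.IsNilpotent H := by
    letI : CommGroup H := { (inferInstance : Group H) with
      mul_comm := fun a b => Subtype.ext (hcomm a b) }
    infer_instance
  exact dom_ext_nilpotent f.ker hH hn (dom_congr (QuotientGroup.quotientKerEquivOfSurjective f hf).symm hD) fun Y hY =>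
    S0205.result (odd_of_piN h2 hY)

/-- the conclusion of the abstract theorem -/
def FH {Y : Type*} [Group Y] (H : Subgroup Y) : Prop :=
  ∃ r : ℕ, r.Prime ∧ ∃ A : Subgroup Y, A ≤ H ∧ H ≤ normalizer (A : Set Y) ∧
    (∀ a ∈ A, ∀ b ∈ A, a * b = b * a) ∧ ¬ r ∣ Nat.card A ∧ ∀ p : ℕ, p.Prime → p ∣ A.relIndex H → p = r

/-- every `π`-subgroup of `X` lies in an `X`-conjugate of `H` -/
def DomX (π : Set ℕ) {Y : Type*} [Group Y] (X H : Subgroup Y) : Prop :=
  ∀ K : Subgroup Y, K ≤ X → PiN π (Nat.card K) → ∃ x ∈ X, K ≤ MulAut.conj x • H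

theorem exists_domX {Y : Type*} [Group Y] [Finite Y] (X : Subgroup Y) [X.Normal] (hQ : Group.IsSolvable (Y ⧸ X))
    (hD : Dom π X) : ∃ H : Subgroup Y, IsPiHall π H ∧ DomX π X H := by
  obtain ⟨H, hH⟩ := (cpi_extension X hD.cpi (cpi_of_solvable hQ)).1
  refine ⟨H, hH, fun K hKX hK => ?_⟩
  have hHX : IsPiHall π (H.subgroupOf X) := isPiHall_subgroupOf hH X
  obtain ⟨L, hL, hdom⟩ := hD
  obtain ⟨g, hg⟩ := hdom (K.subgroupOf X) (by rw [card_subgroupOf _ _ hKX]; exact hK)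
  obtain ⟨k, hk⟩ := (Dom.cpi ⟨L, hL, hdom⟩).2 _ _ hHX hL
  rw [hk, conj_eq, ← mul_smul, ← map_mul] at hg
  refine ⟨(g * k : X), (g * k).2, ?_⟩
  have h1 := Subgroup.map_mono (f := X.subtype) hg
  rw [subgroupOf_map_subtype, inf_eq_left.2 hKX, map_smul_conj, subgroupOf_map_subtype] at h1
  exact h1.trans (Subgroup.pointwise_smul_le_pointwise_smul_iff.2 inf_le_left)

theorem relIndex_dvd_of_normalizes {Y : Type*} [Group Y] {A H K : Subgroup Y} (hAH : A ≤ H)
    (hn : H ≤ normalizer (A : Set Y)) (hKH : K ≤ H) : A.relIndex K ∣ A.relIndex H := by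
  have h1 : (A.subgroupOf H).Normal := (normal_subgroupOf_iff_le_normalizer hAH).mpr hn
  rw [← relIndex_subgroupOf hKH]
  exact Subgroup.relIndex_dvd_index_of_normal _ _

theorem FH.fhall {Y S : Type*} [Group Y] [Finite Y] [Group S] [Finite S] (X : Subgroup Y) [X.Normal] (f : X →* S)
    (hf : Function.Surjective f) {H : Subgroup Y} (hH : IsPiHall π H) (h : FH H) : FHall π S := by
  obtain ⟨r, hr, A, hAH, hn, hab, hrA, hidx⟩ := h
  have hHX : IsPiHall π (H.subgroupOf X) := isPiHall_subgroupOf hH X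
  have hAH' : A.subgroupOf X ≤ H.subgroupOf X := Subgroup.comap_mono hAH
  refine ⟨r, hr, (H.subgroupOf X).map f, (A.subgroupOf X).map f, ⟨?_, ?_⟩, Subgroup.map_mono hAH', ?_, ?_, ?_, ?_⟩
  · exact PiN.of_dvd hHX.1 (card_map_dvd _ _)
  · exact PiN'.of_dvd hHX.2 (index_map_dvd _ hf)
  · have h1 : H.subgroupOf X ≤ normalizer ((A.subgroupOf X : Subgroup X) : Set X) := by
      intro x hx
      rw [Subgroup.mem_normalizer_iff]
      intro y
      have h2 := Subgroup.mem_normalizer_iff.1 (hn hx) y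
      exact h2
    exact (Subgroup.map_mono h1).trans (Subgroup.le_normalizer_map _)
  · rintro _ ⟨a, ha, rfl⟩ _ ⟨b, hb, rfl⟩
    rw [← map_mul, ← map_mul]
    exact congrArg f (Subtype.ext (hab a ha b hb))
  · intro h1
    apply hrA
    refine h1.trans ((card_map_dvd _ _).trans ?_)
    exact Subgroup.card_comap_dvd_of_injective _ _ X.subtype_injective
  · intro p hp hd
    refine hidx p hp (hd.trans ?_)
    rw [← Subgroup.relIndex_comap]
    refine (Subgroup.relIndex_dvd_of_le_left _ (Subgroup.le_comap_map f _)).trans ?_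
    rw [Subgroup.subgroupOf, Subgroup.relIndex_comap, Subgroup.subgroupOf_map_subtype]
    exact relIndex_dvd_of_normalizes hAH hn inf_le_left

/-- **Transfer.** -/
theorem fhall_transfer {Y S A : Type*} [Group Y] [Finite Y] [Group S] [Finite S] [CommGroup A] (h2 : 2 ∉ π)
    (δ : Y →* A) (f : δ.ker →* S) (hf : Function.Surjective f) (hc : f.ker ≤ center δ.ker)
    (habs : ∀ H : Subgroup Y, IsPiHall π H → DomX π δ.ker H → FH H) (hD : Dom π S) : FHall π S := by
  have hQ : Group.IsSolvable (Y ⧸ δ.ker) := by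
    letI : CommGroup (Y ⧸ δ.ker) := { (inferInstance : Group (Y ⧸ δ.ker)) with
      mul_comm := fun a b => QuotientGroup.kerLift_injective δ (by rw [map_mul, map_mul, mul_comm]) }
    infer_instance
  obtain ⟨H, hH, hdom⟩ := exists_domX δ.ker hQ (dom_of_ker h2 f hf hc hD)
  exact (habs H hH hdom).fhall δ.ker f hf hH

/-- The same, with `δ.ker` given as an injective image. -/
theorem fhall_transfer' {Y S A K : Type*} [Group Y] [Finite Y] [Group S] [Finite S] [CommGroup A] [Group K] (h2 : 2 ∉ π)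
    (δ : Y →* A) (j : K →* Y) (hj : Function.Injective j) (hjδ : j.range = δ.ker) (f : K →* S)
    (hf : Function.Surjective f) (hc : f.ker ≤ center K)
    (habs : ∀ H : Subgroup Y, IsPiHall π H → DomX π δ.ker H → FH H) (hD : Dom π S) : FHall π S := by
  let e : K ≃* δ.ker := (MonoidHom.ofInjective hj).trans (MulEquiv.subgroupCongr hjδ)
  refine fhall_transfer h2 δ (f.comp e.symm.toMonoidHom) (hf.comp e.symm.surjective) ?_ habs hD
  intro x hx
  have h1 : e.symm x ∈ center K := hc hx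
  rw [mem_center_iff] at h1 ⊢
  intro y
  have h3 := h1 (e.symm y)
  rw [← map_mul, ← map_mul] at h3
  exact e.symm.injective h3

end Cfsg.Agent.H380.RV

private theorem dce_02f0a9c7408b : _root_.True := by
  try have : _root_.True := by simp only [_root_.Cfsg.IsPiHallOf.eq_1]
  exact _root_.True.intro
end

-- part: H571/RV/FHallB
section
set_option linter.all false
open scoped Cfsg.Agent.FastGrp

-- part: H571/RV/FHall
section
/-!
# `RowE` from `FHall` (helper571)

`DF π r X` : relative form of `FHall` together with domination. `inter_hall_of_DF` : `X` normal in `G`, `DF π r X`, `P` a maximal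
`π`-subgroup of `G` with `PX/X` solvable: `P ∩ X` is a Hall subgroup of `X`.
-/

set_option autoImplicit false

namespace Cfsg.Agent.H571.RV

open Subgroup Cfsg Cfsg.Agent.H988.CPi Cfsg.Agent.H571.DExt Cfsg.Agent.Solvable.SZ
open scoped Pointwise

universe u

variable {π : Set ℕ} {r : ℕ} {G : Type u} [Group G]

/-- relative form of `FHall` with domination, with witnesses -/
structure DFw (π : Set ℕ) (r : ℕ) (X H A : Subgroup G) : Prop where
  le : H ≤ X
  pi : PiN π (Nat.card H)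
  ale : A ≤ H
  nor : H ≤ normalizer (A : Set G)
  ab : ∀ a ∈ A, ∀ b ∈ A, a * b = b * a
  rA : ¬ r ∣ Nat.card A
  idx : ∀ p : ℕ, p.Prime → p ∣ A.relIndex H → p = r
  dom : ∀ K ≤ X, PiN π (Nat.card K) → ∃ x ∈ X, K ≤ MulAut.conj x • H

variable [Finite G]

theorem DFw.conj {X H A : Subgroup G} (h : DFw π r X H A) {x : G} (hx : x ∈ X) :
    DFw π r X (MulAut.conj x • H) (MulAut.conj x • A) where
  le := by
    rintro _ ⟨y, hy, rfl⟩
    exact X.mul_mem (X.mul_mem hx (h.le hy)) (X.inv_mem hx)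
  pi := by rw [card_conj_smul]; exact h.pi
  ale := smul_mono_right _ h.ale
  nor := by
    rw [le_normalizer_iff]
    rintro _ ⟨y, hy, rfl⟩ _ ⟨a, ha, rfl⟩
    refine ⟨y * a * y⁻¹, (le_normalizer_iff.mp h.nor) y hy a ha, ?_⟩
    simp
  ab := by
    rintro _ ⟨a, ha, rfl⟩ _ ⟨b, hb, rfl⟩
    show MulAut.conj x a * MulAut.conj x b = MulAut.conj x b * MulAut.conj x a
    rw [← map_mul, ← map_mul, h.ab a ha b hb]
  rA := by rw [card_conj_smul]; exact h.rA
  idx := by
    intro p hp hd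
    rw [← conj_eq, ← conj_eq, relIndex_map_map_of_injective _ _ (MulAut.conj x).injective] at hd
    exact h.idx p hp hd
  dom := by
    intro K hK hπ
    obtain ⟨y, hy, hKy⟩ := h.dom K hK hπ
    refine ⟨y * x⁻¹, X.mul_mem hy (X.inv_mem hx), ?_⟩
    rwa [← mul_smul, ← map_mul, inv_mul_cancel_right]

omit [Finite G] in
/-- `K ≤ H` of order prime to `r` lies in `A` -/
theorem DFw.le_A {X H A : Subgroup G} (h : DFw π r X H A) {K : Subgroup G} (hK : K ≤ H) (hr : ¬ r ∣ Nat.card K) :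
    K ≤ A := by
  rw [← relIndex_eq_one]
  by_contra hne
  obtain ⟨p, hp, hd⟩ := Nat.exists_prime_and_dvd hne
  have h1 : A.relIndex K ∣ A.relIndex H := by
    have hn : (A.subgroupOf H).Normal := (normal_subgroupOf_iff_le_normalizer h.ale).mpr h.nor
    have h2 := relIndex_dvd_index_of_normal (A.subgroupOf H) (K.subgroupOf H)
    rwa [relIndex_subgroupOf hK] at h2
  have h2 : p = r := h.idx p hp (hd.trans h1)
  have h3 : p ∣ Nat.card K := hd.trans (relIndex_dvd_card A K)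
  rw [h2] at h3
  exact hr h3

/-- `H` is a Hall subgroup of `X` -/
theorem DFw.hall {X H A : Subgroup G} (h : DFw π r X H A) : PiN' π (H.relIndex X) := by
  intro p hp hpπ hd
  have := Fact.mk hp
  obtain ⟨P⟩ : Nonempty (Sylow p X) := inferInstance
  have hPc : Nat.card ((P : Subgroup X).map X.subtype) = Nat.card (P : Subgroup X) :=
    card_map_of_injective X.subtype_injective
  have hPπ : PiN π (Nat.card ((P : Subgroup X).map X.subtype)) := by
    intro q hq hqd
    rw [hPc] at hqd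
    obtain ⟨k, hk⟩ := IsPGroup.iff_card.mp P.isPGroup'
    rw [hk] at hqd
    rwa [(Nat.prime_dvd_prime_iff_eq hq hp).mp (hq.dvd_of_dvd_pow hqd)]
  obtain ⟨x, hx, hle⟩ := h.dom _ (map_subtype_le _) hPπ
  have h1 : Nat.card (P : Subgroup X) ∣ Nat.card H := by
    rw [← hPc]
    have h0 := card_dvd_of_le hle
    rwa [card_conj_smul] at h0
  have h2 : Nat.card H * H.relIndex X = Nat.card X := by
    rw [← card_subgroupOf _ _ h.le]; exact card_mul_index _
  have h3 : Nat.card (P : Subgroup X) * (P : Subgroup X).index = Nat.card X := card_mul_index _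
  obtain ⟨m, hm⟩ := h1
  rw [hm, mul_assoc] at h2
  have h4 := Nat.eq_of_mul_eq_mul_left Nat.card_pos (h2.trans h3.symm)
  exact P.not_dvd_index (h4 ▸ hd.mul_left m)

theorem DFw.of_FHall {S : Type u} [Group S] [Finite S] (hD : Dom π S) (h : FHall π S) :
    ∃ r : ℕ, r.Prime ∧ ∃ H A : Subgroup S, DFw π r ⊤ H A := by
  obtain ⟨r, hr, H, A, hH, hA, hn, hab, hrA, hidx⟩ := h
  refine ⟨r, hr, H, A, le_top, hH.1, hA, hn, hab, hrA, hidx, fun K _ hK => ?_⟩
  have hC := hD.cpi
  obtain ⟨L, hL, hdom⟩ := hD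
  obtain ⟨g, hg⟩ := hdom K hK
  obtain ⟨x, hx⟩ := hC.2 H L hH hL
  refine ⟨g * x, mem_top _, ?_⟩
  rw [map_mul, mul_smul, ← conj_eq x H, ← hx]
  exact hg

end Cfsg.Agent.H571.RV
end

-- part: H571/RV/FHallB
section
/-!
# `DFw` for normalisers (helper571)
-/

set_option autoImplicit false

namespace Cfsg.Agent.H571.RV

open Subgroup Cfsg Cfsg.Agent.H988.CPi Cfsg.Agent.H571.DExt Cfsg.Agent.Solvable.SZ
open scoped Pointwise

universe u

variable {π : Set ℕ} {r : ℕ} {G : Type u} [Group G] [Finite G]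

theorem DFw.idx_le {X H A : Subgroup G} (h : DFw π r X H A) {Y : Subgroup G} (hAY : A ≤ Y) (hYX : Y ≤ X) {p : ℕ}
    (hp : p.Prime) (hpπ : p ∈ π) (hd : p ∣ A.relIndex Y) : p = r := by
  have h1 : A.relIndex Y ∣ A.relIndex X := ⟨_, (relIndex_mul_relIndex A Y X hAY hYX).symm⟩
  rw [← relIndex_mul_relIndex A H X h.ale h.le] at h1
  rcases hp.dvd_mul.mp (hd.trans h1) with h2 | h2
  · exact h.idx p hp h2
  · exact absurd h2 (h.hall p hp hpπ)

/-- Hall subgroup of `N_Y(A)` -/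
theorem DFw.norm_aux {X H A : Subgroup G} (h : DFw π r X H A) (hr : r.Prime) {N : Subgroup G} (hAN : A ≤ N)
    (hNX : N ≤ X) (hN : N ≤ normalizer (A : Set G)) :
    ∃ H' : Subgroup G, H' ≤ N ∧ A ≤ H' ∧ PiN π (Nat.card H') ∧ (∀ p : ℕ, p.Prime → p ∣ A.relIndex H' → p = r) ∧
      ∀ K ≤ N, PiN π (Nat.card K) → ∃ n ∈ N, K ≤ MulAut.conj n • H' := by
  classical
  have := Fact.mk hr
  set A' := A.subgroupOf N with hA'
  have hn : A'.Normal := (normal_subgroupOf_iff_le_normalizer hAN).mpr hN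
  have hcA : Nat.card A' = Nat.card A := card_subgroupOf _ _ hAN
  have hq : ∀ p : ℕ, p.Prime → p ∈ π → p ∣ Nat.card (N ⧸ A') → p = r := fun p hp hpπ hd =>
    h.idx_le hAN hNX hp hpπ hd
  have hAπ : PiN π (Nat.card A) := h.pi.of_dvd (card_dvd_of_le h.ale)
  -- `π`-subgroups of the quotient are `r`-groups
  have hrq : ∀ K : Subgroup N, PiN π (Nat.card K) → ∀ p : ℕ, p.Prime →
      p ∣ Nat.card (K.map (QuotientGroup.mk' A')) → p = r ∧ r ∈ π := by
    intro K hK p hp hd
    have h1 : p ∈ π := hK p hp (hd.trans (card_map_dvd _ _))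
    have h2 : p = r := hq p hp h1 (hd.trans (card_subgroup_dvd_card _))
    exact ⟨h2, h2 ▸ h1⟩
  obtain ⟨S⟩ : Nonempty (Sylow r (N ⧸ A')) := inferInstance
  by_cases hrπ : r ∈ π
  · set H₁ := (S : Subgroup (N ⧸ A')).comap (QuotientGroup.mk' A') with hH₁
    have hc1 : Nat.card H₁ = Nat.card A' * Nat.card (S : Subgroup (N ⧸ A')) := card_comap_mk A' _
    have hSr : ∀ p : ℕ, p.Prime → p ∣ Nat.card (S : Subgroup (N ⧸ A')) → p = r := by
      intro p hp hd
      obtain ⟨k, hk⟩ := IsPGroup.iff_card.mp S.isPGroup'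
      rw [hk] at hd
      exact (Nat.prime_dvd_prime_iff_eq hp hr).mp (hp.dvd_of_dvd_pow hd)
    have hle1 : A' ≤ H₁ := by
      intro x hx
      show (QuotientGroup.mk' A') x ∈ S
      rw [show (QuotientGroup.mk' A') x = 1 from (QuotientGroup.eq_one_iff x).mpr hx]
      exact one_mem _
    have hAH : A ≤ H₁.map N.subtype := by
      intro x hx
      exact ⟨⟨x, hAN hx⟩, hle1 hx, rfl⟩
    have hcH : Nat.card (H₁.map N.subtype) = Nat.card H₁ := card_map_of_injective N.subtype_injective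
    refine ⟨H₁.map N.subtype, map_subtype_le _, hAH, ?_, ?_, ?_⟩
    · rw [hcH, hc1, hcA]
      exact hAπ.mul fun p hp hd => hSr p hp hd ▸ hrπ
    · intro p hp hd
      have h2 : Nat.card A * A.relIndex (H₁.map N.subtype) = Nat.card (H₁.map N.subtype) := by
        rw [← card_subgroupOf _ _ hAH]; exact card_mul_index _
      rw [hcH, hc1, hcA] at h2
      have h3 := Nat.eq_of_mul_eq_mul_left Nat.card_pos h2
      rw [h3] at hd
      exact hSr p hp hd
    · intro K hKN hK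
      have hK' : PiN π (Nat.card (K.subgroupOf N)) := by rw [card_subgroupOf _ _ hKN]; exact hK
      have hKr : IsPGroup r ((K.subgroupOf N).map (QuotientGroup.mk' A')) := by
        rw [IsPGroup.iff_card]
        obtain ⟨k, hk⟩ : ∃ k, Nat.card ((K.subgroupOf N).map (QuotientGroup.mk' A')) = r ^ k := by
          refine ⟨_, Nat.eq_prime_pow_of_unique_prime_dvd Nat.card_pos.ne' fun {d} hd hdd => ?_⟩
          exact (hrq _ hK' d hd hdd).1
        exact ⟨k, hk⟩
      obtain ⟨T, hT⟩ := hKr.exists_le_sylow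
      obtain ⟨g, hg⟩ := MulAction.exists_smul_eq (N ⧸ A') S T
      obtain ⟨n, rfl⟩ := QuotientGroup.mk_surjective g
      refine ⟨n, n.2, fun x hx => ?_⟩
      have h1 : (QuotientGroup.mk' A') ⟨x, hKN hx⟩ ∈ (T : Subgroup (N ⧸ A')) := hT ⟨⟨x, hKN hx⟩, hx, rfl⟩
      rw [← hg] at h1
      obtain ⟨y, hy, hy'⟩ := h1
      have hy2 : (QuotientGroup.mk n : N ⧸ A') * y * (QuotientGroup.mk n)⁻¹ = (QuotientGroup.mk' A') ⟨x, hKN hx⟩ := hy'
      have h2 : (QuotientGroup.mk' A') (n⁻¹ * ⟨x, hKN hx⟩ * n) = y := by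
        rw [map_mul, map_mul, ← hy2, map_inv]
        show (QuotientGroup.mk n : N ⧸ A')⁻¹ * (QuotientGroup.mk n * y * (QuotientGroup.mk n)⁻¹) * QuotientGroup.mk n = y
        group
      refine ⟨(n : G)⁻¹ * x * n, ⟨n⁻¹ * ⟨x, hKN hx⟩ * n, ?_, rfl⟩, ?_⟩
      · show (QuotientGroup.mk' A') (n⁻¹ * ⟨x, hKN hx⟩ * n) ∈ S
        rw [h2]; exact hy
      · show (n : G) * ((n : G)⁻¹ * x * n) * (n : G)⁻¹ = x
        group
  · refine ⟨A, hAN, le_rfl, hAπ, ?_, ?_⟩
    · intro p hp hd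
      rw [relIndex_self] at hd
      exact absurd (Nat.dvd_one.mp hd) hp.one_lt.ne'
    · intro K hKN hK
      have hK' : PiN π (Nat.card (K.subgroupOf N)) := by rw [card_subgroupOf _ _ hKN]; exact hK
      have h1 : Nat.card ((K.subgroupOf N).map (QuotientGroup.mk' A')) = 1 := by
        by_contra hne
        obtain ⟨p, hp, hd⟩ := Nat.exists_prime_and_dvd hne
        exact hrπ (hrq _ hK' p hp hd).2
      have h2 := eq_bot_of_card_eq _ h1
      refine ⟨1, N.one_mem, ?_⟩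
      rw [map_one, one_smul]
      intro x hx
      have h3 : (QuotientGroup.mk' A') ⟨x, hKN hx⟩ ∈ (K.subgroupOf N).map (QuotientGroup.mk' A') :=
        ⟨⟨x, hKN hx⟩, hx, rfl⟩
      rw [h2, mem_bot] at h3
      exact (QuotientGroup.eq_one_iff (⟨x, hKN hx⟩ : N)).mp h3

/-- `N_X(B)`, `B ≤ A` -/
theorem DFw.norm {X H A B : Subgroup G} (h : DFw π r X H A) (hr : r.Prime) (hB : B ≤ A) :
    A ≤ normalizer (B : Set G) ⊓ X ∧ ∃ H' : Subgroup G, DFw π r (normalizer (B : Set G) ⊓ X) H' A := by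
  set Y := normalizer (B : Set G) ⊓ X with hY
  have key : ∀ A₁ : Subgroup G, A₁ ≤ X → (∀ a ∈ A₁, ∀ b ∈ A₁, a * b = b * a) → B ≤ A₁ → A₁ ≤ Y := by
    intro A₁ h1 h2 h3
    refine le_inf ?_ h1
    rw [le_normalizer_iff]
    intro a ha b hb
    rw [h2 a ha b (h3 hb), mul_inv_cancel_right]
    exact hb
  have hAY : A ≤ Y := key A (h.ale.trans h.le) h.ab hB
  refine ⟨hAY, ?_⟩
  set N := normalizer (A : Set G) ⊓ Y with hN
  obtain ⟨H', hH'N, hAH', hH'π, hidx, hdomN⟩ := h.norm_aux hr (N := N) (le_inf le_normalizer hAY)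
    (inf_le_right.trans inf_le_right) inf_le_left
  have hrB : ¬ r ∣ Nat.card B := fun hd => h.rA (hd.trans (card_dvd_of_le hB))
  have hBπ : PiN π (Nat.card B) := h.pi.of_dvd (card_dvd_of_le (hB.trans h.ale))
  refine ⟨H', hH'N.trans inf_le_right, hH'π, hAH', hH'N.trans inf_le_left, h.ab, h.rA, hidx, ?_⟩
  intro K hKY hK
  have hKB : K ⊔ B ≤ X := sup_le (hKY.trans inf_le_right) (hB.trans (h.ale.trans h.le))
  obtain ⟨x, hx, hle⟩ := h.dom (K ⊔ B) hKB (piN_sup (hKY.trans inf_le_left) hK hBπ)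
  have h' := h.conj hx
  have hBA : B ≤ MulAut.conj x • A := h'.le_A (le_sup_right.trans hle) hrB
  have hA'Y : MulAut.conj x • A ≤ Y := key _ (h'.ale.trans h'.le) h'.ab hBA
  -- Wielandt in `Y`
  have hnil : Group.IsNilpotent (A.subgroupOf Y) := by
    have hcomm : ∀ a b : A.subgroupOf Y, a * b = b * a := fun a b =>
      Subtype.ext (Subtype.ext (h.ab _ a.2 _ b.2))
    let inst : CommGroup (A.subgroupOf Y) := { (inferInstance : Group (A.subgroupOf Y)) with mul_comm := hcomm }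
    exact CommGroup.isNilpotent
  have hcop : (Nat.card (A.subgroupOf Y)).Coprime (A.subgroupOf Y).index := by
    rw [card_subgroupOf _ _ hAY]
    refine Nat.coprime_of_dvd fun p hp h1 h2 => ?_
    have h3 : p = r := h.idx_le hAY inf_le_right hp (h.pi p hp (h1.trans (card_dvd_of_le h.ale))) h2
    exact h.rA (h3 ▸ h1)
  obtain ⟨y, hy⟩ := Cfsg.Agent.S0581.result (A.subgroupOf Y) ((MulAut.conj x • A).subgroupOf Y) hnil hcop (by
    intro p hp hd
    rw [card_subgroupOf _ _ hA'Y, card_conj_smul] at hd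
    rwa [card_subgroupOf _ _ hAY])
  have h1 : MulAut.conj x • A = MulAut.conj (y : G) • A := by
    apply eq_of_le_of_card_ge
    · intro a ha
      obtain ⟨b, hb, hb'⟩ := hy (show (⟨a, hA'Y ha⟩ : Y) ∈ (MulAut.conj x • A).subgroupOf Y from ha)
      exact ⟨b, hb, congrArg Subtype.val hb'⟩
    · rw [card_conj_smul, card_conj_smul]
  have h2 : MulAut.conj (y : G)⁻¹ • K ≤ N := by
    rintro _ ⟨k, hk, rfl⟩
    have hk1 : k ∈ normalizer ((MulAut.conj x • A : Subgroup G) : Set G) := h'.nor (hle (mem_sup_left hk))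
    refine ⟨?_, Y.mul_mem (Y.mul_mem (Y.inv_mem y.2) (hKY hk)) (Y.inv_mem (Y.inv_mem y.2))⟩
    rw [h1] at hk1
    have h3 : ∀ z ∈ normalizer ((MulAut.conj (y : G) • A : Subgroup G) : Set G),
        ∀ a ∈ A, (MulAut.conj (y : G)⁻¹ z) * a * (MulAut.conj (y : G)⁻¹ z)⁻¹ ∈ A := by
      intro z hz a ha
      have h4 := (mem_normalizer_iff.mp hz (MulAut.conj (y : G) a)).mp ⟨a, ha, rfl⟩
      obtain ⟨b, hb, hb'⟩ := h4
      have h5 : MulAut.conj (y : G) b = z * (MulAut.conj (y : G) a) * z⁻¹ := hb'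
      have h6 : b = (MulAut.conj (y : G)⁻¹ z) * a * (MulAut.conj (y : G)⁻¹ z)⁻¹ := by
        have h7 := congrArg (MulAut.conj (y : G)⁻¹) h5
        simp only [MulAut.conj_apply, inv_inv] at h7 ⊢
        have h8 : (y : G)⁻¹ * ((y : G) * b * (y : G)⁻¹) * y = b := by group
        rw [h8] at h7
        rw [h7]; group
      rw [← h6]; exact hb
    show MulAut.conj (y : G)⁻¹ k ∈ normalizer (A : Set G)
    have hsub : Subgroup.zpowers (MulAut.conj (y : G)⁻¹ k) ≤ normalizer (A : Set G) := by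
      rw [le_normalizer_iff]
      rintro _ ⟨m, rfl⟩ a ha
      have h9 := h3 (k ^ m) (Subgroup.zpow_mem _ hk1 m) a ha
      rwa [map_zpow] at h9
    exact hsub (mem_zpowers _)
  obtain ⟨n, hn, hle2⟩ := hdomN _ h2 (by rw [card_conj_smul]; exact hK)
  refine ⟨(y : G) * n, Y.mul_mem y.2 hn.2, ?_⟩
  rw [map_mul, mul_smul]
  have h10 := smul_mono_right (MulAut.conj (y : G)) hle2
  rwa [← mul_smul, ← map_mul, mul_inv_cancel, map_one, one_smul] at h10

end Cfsg.Agent.H571.RV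
end
end

-- part: H572/RV/Cen
section
prune_inst 0x201008406d80000000000000800000202000010000030000004004000909004000000600022005000010008000040060039000000210000000000000000000000000000080480000000000000080000000000000000000000000000000000000000000000
set_option linter.all false
open scoped Cfsg.Agent.FastGrp

-- part: H572/RV/Weight
section
/-!
# Weights of an abelian subgroup which is normalised but not centralised by a `t`-element (helper572)

`2 * t ≤ dim [V, D]` in the presence of a form, `t ≤ dim [V, D]` in general.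
-/

set_option autoImplicit false
set_option linter.unusedSectionVars false

namespace Cfsg.Agent.H572.RV

open Module Cfsg.Agent.H167.OP Cfsg.Agent.H170.HL

section closed

variable {L : Type*} [Field L] {V : Type*} [AddCommGroup V] [Module L V] {G : Type*} [Group G]

/-- the weight space -/
def Wt (ρ : Representation L G V) (D : Subgroup G) (χ : D → L) : Submodule L V where
  carrier := {v | ∀ d : D, ρ d v = χ d • v}
  zero_mem' := fun d => by rw [map_zero, smul_zero]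
  add_mem' := fun {a b} ha hb d => by rw [map_add, ha d, hb d, smul_add]
  smul_mem' := fun c a ha d => by rw [map_smul, ha d, smul_comm]

theorem mem_Wt {ρ : Representation L G V} {D : Subgroup G} {χ : D → L} {v : V} :
    v ∈ Wt ρ D χ ↔ ∀ d : D, ρ d v = χ d • v := Iff.rfl

theorem pow_ap {ρ : Representation L G V} {d : G} {v : V} {c : L} (h : ρ d v = c • v) (n : ℕ) :
    ρ (d ^ n) v = c ^ n • v := by
  induction n with
  | zero => rw [pow_zero, one_ap, pow_zero, one_smul]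
  | succ n ih => rw [pow_succ', mul_ap, ih, map_smul, h, smul_smul, pow_succ]

theorem pow_card_eq [Finite G] {ρ : Representation L G V} {D : Subgroup G} {χ : D → L} {v : V}
    (hv : v ∈ Wt ρ D χ) (hv0 : v ≠ 0) (d : D) : χ d ^ Nat.card D = 1 := by
  have h1 := pow_ap (hv d) (Nat.card D)
  have h2 : (d : G) ^ Nat.card D = 1 := by
    have := pow_card_eq_one' (x := d)
    exact congrArg Subtype.val this
  rw [h2, one_ap] at h1
  have h3 : (χ d ^ Nat.card D - 1) • v = 0 := by rw [sub_smul, one_smul, ← h1, sub_self]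
  rcases smul_eq_zero.mp h3 with h | h
  · exact sub_eq_zero.mp h
  · exact absurd h hv0

theorem isSemisimple_of_pow {T : End L V} {n : ℕ} (hn : (n : L) ≠ 0) (h : T ^ n = 1) :
    T.IsSemisimple := by
  refine Module.End.isSemisimple_of_squarefree_aeval_eq_zero (p := Polynomial.X ^ n - 1)
    ((Polynomial.X_pow_sub_one_separable_iff.mpr hn).squarefree) ?_
  rw [map_sub, map_pow, Polynomial.aeval_X, map_one, h, sub_self]

theorem Wt_eq [Finite G] [FiniteDimensional L V] (ρ : Representation L G V) {D : Subgroup G}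
    (hD : (Nat.card D : L) ≠ 0) (χ : D → L) :
    Wt ρ D χ = ⨅ d : D, Module.End.maxGenEigenspace (ρ d) (χ d) := by
  have h1 : ∀ d : D, Module.End.maxGenEigenspace (ρ d) (χ d) = Module.End.eigenspace (ρ d) (χ d) := by
    intro d
    refine Module.End.IsFinitelySemisimple.maxGenEigenspace_eq_eigenspace ?_ _
    have h2 : (ρ d) ^ Nat.card D = 1 := by
      rw [← map_pow]
      have := pow_card_eq_one' (x := d)
      have h3 : (d : G) ^ Nat.card D = 1 := congrArg Subtype.val this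
      rw [h3, map_one]
    exact (isSemisimple_of_pow hD h2).isFinitelySemisimple
  simp only [h1]
  ext v
  rw [Submodule.mem_iInf, mem_Wt]
  exact forall_congr' fun d => Module.End.mem_eigenspace_iff.symm

theorem comm_ρ (ρ : Representation L G V) {D : Subgroup G} (hab : ∀ a ∈ D, ∀ b ∈ D, a * b = b * a)
    (a b : D) : Commute (ρ a) (ρ b) := by
  show ρ a * ρ b = ρ b * ρ a
  rw [← map_mul, ← map_mul, hab a a.2 b b.2]

theorem iSup_Wt [Finite G] [FiniteDimensional L V] [IsAlgClosed L] (ρ : Representation L G V)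
    {D : Subgroup G} (hD : (Nat.card D : L) ≠ 0) (hab : ∀ a ∈ D, ∀ b ∈ D, a * b = b * a) :
    ⨆ χ : D → L, Wt ρ D χ = ⊤ := by
  simp only [Wt_eq ρ hD]
  refine Module.End.iSup_iInf_maxGenEigenspace_eq_top_of_iSup_maxGenEigenspace_eq_top_of_commute
    (fun d : D => ρ d) (fun a b _ => comm_ρ ρ hab a b) fun d => ?_
  exact Module.End.iSup_maxGenEigenspace_eq_top (ρ d)

theorem indep_Wt [Finite G] [FiniteDimensional L V] (ρ : Representation L G V)
    {D : Subgroup G} (hD : (Nat.card D : L) ≠ 0) (hab : ∀ a ∈ D, ∀ b ∈ D, a * b = b * a) :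
    iSupIndep fun χ : D → L => Wt ρ D χ := by
  simp only [Wt_eq ρ hD]
  exact Module.End.independent_iInf_maxGenEigenspace_of_forall_mapsTo (fun d : D => ρ d)
    fun a b φ => Module.End.mapsTo_maxGenEigenspace_of_comm (comm_ρ ρ hab b a) φ

/-- a weight vector for a nontrivial weight lies in `[V, D]` -/
theorem mem_CV_of_Wt {ρ : Representation L G V} {D : Subgroup G} {χ : D → L} {v : V}
    (hv : v ∈ Wt ρ D χ) (hχ : χ ≠ 1) : v ∈ CV ρ D := by
  obtain ⟨d, hd⟩ := Function.ne_iff.mp hχ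
  rw [Pi.one_apply] at hd
  have h1 := sub_mem_CV ρ d.2 v
  rw [hv d] at h1
  have h2 : χ d • v - v = (χ d - 1) • v := by rw [sub_smul, one_smul]
  rw [h2] at h1
  have h3 := (CV ρ D).smul_mem (χ d - 1)⁻¹ h1
  rwa [smul_smul, inv_mul_cancel₀ (sub_ne_zero.mpr hd), one_smul] at h3

/-- a family of distinct nontrivial weights -/
theorem card_le_finrank [Finite G] [FiniteDimensional L V] (ρ : Representation L G V)
    {D : Subgroup G} (hD : (Nat.card D : L) ≠ 0) (hab : ∀ a ∈ D, ∀ b ∈ D, a * b = b * a)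
    {ι : Type*} [Fintype ι] (χ : ι → D → L) (hinj : Function.Injective χ) (hne : ∀ i, χ i ≠ 1)
    (hW : ∀ i, ∃ v ∈ Wt ρ D (χ i), v ≠ 0) : Fintype.card ι ≤ finrank L (CV ρ D) := by
  classical
  choose v hv hv0 using hW
  have h1 : iSupIndep fun i : ι => Wt ρ D (χ i) := (indep_Wt ρ hD hab).comp hinj
  have h2 : LinearIndependent L v := h1.linearIndependent _ hv hv0
  have h3 : LinearIndependent L (fun i => (⟨v i, mem_CV_of_Wt (hv i) (hne i)⟩ : CV ρ D)) := by
    apply LinearIndependent.of_comp (CV ρ D).subtype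
    exact h2
  exact h3.fintype_card_le_finrank

variable {t : ℕ} {y : G} {D : Subgroup G}

/-- conjugation of the weights by `y` -/
def tw [Finite G] (hn : Nrm y D) (χ : D → L) : D → L := fun d => χ ⟨y⁻¹ * d * y, nrm_inv hn d.2⟩

theorem tw_mem [Finite G] (ρ : Representation L G V) (hn : Nrm y D) {χ : D → L} {v : V}
    (hv : v ∈ Wt ρ D χ) : ρ y v ∈ Wt ρ D (tw hn χ) := by
  intro d
  have h1 : (d : G) * y = y * (y⁻¹ * d * y) := by group
  rw [← mul_ap, h1, mul_ap, hv ⟨y⁻¹ * d * y, nrm_inv hn d.2⟩, map_smul]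
  rfl

theorem tw_iter [Finite G] (hn : Nrm y D) (χ : D → L) (i : ℕ) (d : D)
    (hd : (y ^ i)⁻¹ * (d : G) * y ^ i ∈ D) :
    (tw hn)^[i] χ d = χ ⟨(y ^ i)⁻¹ * d * y ^ i, hd⟩ := by
  induction i generalizing χ with
  | zero =>
    show χ d = χ _
    congr 1
    apply Subtype.ext
    simp
  | succ i ih =>
    have hd' : (y ^ i)⁻¹ * (d : G) * y ^ i ∈ D := nrm_inv (nrm_pow hn i) d.2
    rw [Function.iterate_succ_apply, ih _ hd']
    unfold tw
    congr 1
    apply Subtype.ext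
    show y⁻¹ * ((y ^ i)⁻¹ * (d : G) * y ^ i) * y = (y ^ (i + 1))⁻¹ * d * y ^ (i + 1)
    rw [pow_succ]
    group

theorem tw_periodic [Finite G] (hn : Nrm y D) {n : ℕ} (hy : y ^ n = 1) (χ : D → L) :
    (tw hn)^[n] χ = χ := by
  funext d
  rw [tw_iter hn χ n d (by rw [hy]; simp)]
  congr 1
  apply Subtype.ext
  simp [hy]

theorem tw_inv [Finite G] (hn : Nrm y D) (χ : D → L) (i : ℕ) :
    (tw hn)^[i] χ⁻¹ = ((tw hn)^[i] χ)⁻¹ := by
  induction i generalizing χ with
  | zero => rfl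
  | succ i ih => rw [Function.iterate_succ_apply, Function.iterate_succ_apply, ← ih]; rfl

theorem tw_one [Finite G] (hn : Nrm y D) (i : ℕ) : (tw hn)^[i] (1 : D → L) = 1 := by
  induction i with
  | zero => rfl
  | succ i ih => rw [Function.iterate_succ_apply]; exact ih

theorem iter_mem [Finite G] (ρ : Representation L G V) (hn : Nrm y D) {χ : D → L} {v : V}
    (hv : v ∈ Wt ρ D χ) (i : ℕ) : ρ (y ^ i) v ∈ Wt ρ D ((tw hn)^[i] χ) := by
  induction i with
  | zero => simpa using hv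
  | succ i ih =>
    rw [pow_succ', mul_ap, Function.iterate_succ_apply']
    exact tw_mem ρ hn ih

theorem ap_ne_zero (ρ : Representation L G V) {v : V} (hv : v ≠ 0) (g : G) : ρ g v ≠ 0 := by
  intro h
  apply hv
  rw [← inv_ap ρ g v, h, map_zero]

/-- there is a weight moved by `y` -/
theorem exists_moved [Finite G] [FiniteDimensional L V] [IsAlgClosed L] (ρ : Representation L G V)
    (hD : (Nat.card D : L) ≠ 0) (hab : ∀ a ∈ D, ∀ b ∈ D, a * b = b * a) (hn : Nrm y D)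
    (hc : ∃ d ∈ D, ρ (y * d) ≠ ρ (d * y)) :
    ∃ χ : D → L, tw hn χ ≠ χ ∧ ∃ v ∈ Wt ρ D χ, v ≠ 0 := by
  by_contra hcon
  push Not at hcon
  obtain ⟨d, hd, hne⟩ := hc
  apply hne
  apply LinearMap.ext
  intro v
  have h1 : (⊤ : Submodule L V) ≤ LinearMap.eqLocus (ρ (y * d)) (ρ (d * y)) := by
    rw [← iSup_Wt ρ hD hab, iSup_le_iff]
    intro χ v hv
    rw [LinearMap.mem_eqLocus]
    by_cases hχ : tw hn χ = χ
    · rw [mul_ap, mul_ap, hv ⟨d, hd⟩, map_smul]
      have h2 := tw_mem ρ hn hv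
      rw [hχ] at h2
      exact (h2 ⟨d, hd⟩).symm
    · have := hcon χ hχ v hv
      rw [this, map_zero, map_zero]
  exact h1 (x := v) trivial

/-- injectivity of the orbit -/
theorem iter_inj [Finite G] (hn : Nrm y D) (ht : t.Prime) {k : ℕ} (hy : y ^ t ^ k = 1)
    {χ : D → L} (hχ : tw hn χ ≠ χ) :
    ∀ i < t, ∀ j < t, (tw hn)^[i] χ = (tw hn)^[j] χ → i = j := by
  have h1 : Function.minimalPeriod (tw hn) χ ∣ t ^ k :=
    Function.IsPeriodicPt.minimalPeriod_dvd (tw_periodic hn hy χ)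
  obtain ⟨m, -, hm⟩ := (Nat.dvd_prime_pow ht).mp h1
  have hm0 : m ≠ 0 := by
    rintro rfl
    rw [pow_zero] at hm
    exact hχ (Function.minimalPeriod_eq_one_iff_isFixedPt.mp hm)
  have h2 : t ≤ Function.minimalPeriod (tw hn) χ := by
    rw [hm]
    exact Nat.le_self_pow hm0 t
  intro i hi j hj hij
  exact Function.iterate_injOn_Iio_minimalPeriod (f := tw hn) (x := χ)
    (Set.mem_Iio.mpr (lt_of_lt_of_le hi h2)) (Set.mem_Iio.mpr (lt_of_lt_of_le hj h2)) hij

theorem iter_ne_one [Finite G] (hn : Nrm y D) {k : ℕ} (ht : t.Prime) (hy : y ^ t ^ k = 1)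
    {χ : D → L} (hχ : tw hn χ ≠ χ) (i : ℕ) : (tw hn)^[i] χ ≠ 1 := by
  intro h
  have h1 : (tw hn)^[t ^ k * i - i] ((tw hn)^[i] χ) = χ := by
    rw [← Function.iterate_add_apply, Nat.sub_add_cancel (Nat.le_mul_of_pos_left i (pow_pos ht.pos k))]
    exact tw_periodic hn (by rw [pow_mul, hy, one_pow]) χ
  rw [h, tw_one] at h1
  apply hχ
  rw [← h1]
  exact tw_one hn 1

/-- **the weight bound without a form** -/
theorem weights_closed [Finite G] [FiniteDimensional L V] [IsAlgClosed L]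
    (ρ : Representation L G V) (ht : t.Prime) {k : ℕ} (hy : y ^ t ^ k = 1)
    (hD : (Nat.card D : L) ≠ 0) (hab : ∀ a ∈ D, ∀ b ∈ D, a * b = b * a) (hn : Nrm y D)
    (hc : ∃ d ∈ D, ρ (y * d) ≠ ρ (d * y)) : t ≤ finrank L (CV ρ D) := by
  obtain ⟨χ, hχ, v, hv, hv0⟩ := exists_moved ρ hD hab hn hc
  have h1 := card_le_finrank ρ hD hab (fun i : Fin t => (tw hn)^[(i : ℕ)] χ)
    (fun i j hij => Fin.ext (iter_inj hn ht hy hχ i i.2 j j.2 hij))
    (fun i => iter_ne_one hn ht hy hχ i)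
    (fun i => ⟨_, iter_mem ρ hn hv i, ap_ne_zero ρ hv0 _⟩)
  rwa [Fintype.card_fin] at h1

/-- the inverse weight -/
theorem inv_weight [Finite G] [FiniteDimensional L V] [IsAlgClosed L]
    (ρ : Representation L G V) (hD : (Nat.card D : L) ≠ 0)
    (hab : ∀ a ∈ D, ∀ b ∈ D, a * b = b * a) (f : V →ₗ[L] V →ₗ[L] L)
    (hf : ∀ g u v, f (ρ g u) (ρ g v) = f u v) (hnd : ∀ x, (∀ y, f y x = 0) → x = 0)
    {χ : D → L} {v : V} (hv : v ∈ Wt ρ D χ) (hv0 : v ≠ 0) : ∃ w ∈ Wt ρ D χ⁻¹, w ≠ 0 := by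
  by_contra hcon
  push Not at hcon
  apply hv0
  apply hnd
  intro w
  have h1 : (⊤ : Submodule L V) ≤ LinearMap.ker (f.flip v) := by
    rw [← iSup_Wt ρ hD hab, iSup_le_iff]
    intro ψ w hw
    rw [LinearMap.mem_ker, LinearMap.flip_apply]
    by_cases hψ : ψ = χ⁻¹
    · rw [hψ] at hw
      rw [hcon w hw, map_zero, LinearMap.zero_apply]
    · obtain ⟨d, hd⟩ := Function.ne_iff.mp hψ
      have h2 := hf d w v
      rw [hw d, hv d, map_smul, map_smul, LinearMap.smul_apply, smul_eq_mul, smul_eq_mul] at h2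
      by_contra h3
      apply hd
      have h4 : χ d * ψ d = 1 := by
        have h5 : (χ d * ψ d) * f w v = 1 * f w v := by rw [one_mul, mul_assoc]; exact h2
        exact mul_right_cancel₀ h3 h5
      rw [Pi.inv_apply]
      exact eq_inv_of_mul_eq_one_right h4
  have h2 := h1 (x := w) trivial
  rwa [LinearMap.mem_ker, LinearMap.flip_apply] at h2

theorem eq_one_of_sq {c : L} {n : ℕ} (hn : Odd n) (h1 : c ^ n = 1) (h2 : c * c = 1) : c = 1 := by
  obtain ⟨m, rfl⟩ := hn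
  rwa [pow_succ, pow_mul, pow_two, h2, one_pow, one_mul] at h1

/-- **the weight bound with a form** -/
theorem weights_closed_form [Finite G] [FiniteDimensional L V] [IsAlgClosed L]
    (ρ : Representation L G V) (ht : t.Prime) (hto : Odd t) {k : ℕ} (hy : y ^ t ^ k = 1)
    (hDo : Odd (Nat.card D)) (hD : (Nat.card D : L) ≠ 0)
    (hab : ∀ a ∈ D, ∀ b ∈ D, a * b = b * a) (hn : Nrm y D)
    (hc : ∃ d ∈ D, ρ (y * d) ≠ ρ (d * y)) (f : V →ₗ[L] V →ₗ[L] L)
    (hf : ∀ g u v, f (ρ g u) (ρ g v) = f u v) (hnd : ∀ x, (∀ y, f y x = 0) → x = 0) :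
    2 * t ≤ finrank L (CV ρ D) := by
  obtain ⟨χ, hχ, v, hv, hv0⟩ := exists_moved ρ hD hab hn hc
  have hkey : ∀ i j : ℕ, (tw hn)^[i] χ ≠ ((tw hn)^[j] χ)⁻¹ := by
    intro i j hij
    set ψ := (tw hn)^[j] χ with hψ
    have hψw : ρ (y ^ j) v ∈ Wt ρ D ψ := iter_mem ρ hn hv j
    have hψ0 := ap_ne_zero ρ hv0 (y ^ j)
    -- `a` with `tw^[a] ψ = ψ⁻¹`
    have ha : (tw hn)^[i + (t ^ k * j - j)] ψ = ψ⁻¹ := by
      rw [hψ, ← Function.iterate_add_apply, ← hψ, ← hij]
      have h1 : i + (t ^ k * j - j) + j = i + t ^ k * j := by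
        have := Nat.le_mul_of_pos_left j (pow_pos ht.pos k)
        omega
      rw [h1, Function.iterate_add_apply]
      congr 1
      exact tw_periodic hn (by rw [pow_mul, hy, one_pow]) χ
    set a := i + (t ^ k * j - j)
    have h2 : (tw hn)^[2 * a] ψ = ψ := by
      rw [two_mul, Function.iterate_add_apply, ha, tw_inv, ha, inv_inv]
    have h3 : Function.minimalPeriod (tw hn) ψ ∣ 2 * a := Function.IsPeriodicPt.minimalPeriod_dvd h2
    have h4 : Function.minimalPeriod (tw hn) ψ ∣ t ^ k :=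
      Function.IsPeriodicPt.minimalPeriod_dvd (tw_periodic hn hy ψ)
    have h5 : Nat.Coprime (Function.minimalPeriod (tw hn) ψ) 2 :=
      Nat.Coprime.coprime_dvd_left h4 (Nat.Coprime.pow_left _ (Nat.coprime_two_right.mpr hto))
    have h6 : (tw hn)^[a] ψ = ψ :=
      Function.isPeriodicPt_iff_minimalPeriod_dvd.mpr (h5.dvd_of_dvd_mul_left h3)
    have h7 : ψ = ψ⁻¹ := h6.symm.trans ha
    have h8 : ψ = 1 := by
      funext d
      have h9 := congrFun h7 d
      rw [Pi.inv_apply] at h9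
      have h10 := pow_card_eq hψw hψ0 d
      have h0 : ψ d ≠ 0 := by
        intro h0
        rw [h0, zero_pow Nat.card_pos.ne'] at h10
        exact zero_ne_one h10
      refine eq_one_of_sq hDo h10 ?_
      nth_rewrite 2 [h9]
      exact mul_inv_cancel₀ h0
    exact iter_ne_one hn ht hy hχ j h8
  obtain ⟨w, hw, hw0⟩ := inv_weight ρ hD hab f hf hnd hv hv0
  have hχi : tw hn χ⁻¹ ≠ χ⁻¹ := by
    intro h
    apply hχ
    have h1 := tw_inv hn χ 1
    rw [Function.iterate_one] at h1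
    rw [h] at h1
    rw [← inv_inj]
    exact h1.symm
  have h1 := card_le_finrank ρ hD hab
    (Sum.elim (fun i : Fin t => (tw hn)^[(i : ℕ)] χ) (fun i : Fin t => (tw hn)^[(i : ℕ)] χ⁻¹))
    ?_ ?_ ?_
  · rw [Fintype.card_sum, Fintype.card_fin] at h1
    omega
  · rintro (i | i) (j | j) hij
    · exact congrArg Sum.inl (Fin.ext (iter_inj hn ht hy hχ i i.2 j j.2 hij))
    · exfalso
      have h2 : (tw hn)^[(i : ℕ)] χ = (tw hn)^[(j : ℕ)] χ⁻¹ := hij
      rw [tw_inv] at h2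
      exact hkey _ _ h2
    · exfalso
      have h2 : (tw hn)^[(i : ℕ)] χ⁻¹ = (tw hn)^[(j : ℕ)] χ := hij
      rw [tw_inv] at h2
      exact hkey _ _ h2.symm
    · exact congrArg Sum.inr (Fin.ext (iter_inj hn ht hy hχi i i.2 j j.2 hij))
  · rintro (i | i)
    · exact iter_ne_one hn ht hy hχ i
    · exact iter_ne_one hn ht hy hχi i
  · rintro (i | i)
    · exact ⟨_, iter_mem ρ hn hv i, ap_ne_zero ρ hv0 _⟩
    · exact ⟨_, iter_mem ρ hn hw i, ap_ne_zero ρ hw0 _⟩

end closed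

section gen

variable {F : Type*} [Field F] {V : Type*} [AddCommGroup V] [Module F V]
  [FiniteDimensional F V] {G : Type*} [Group G] [Finite G] {t : ℕ} {y : G} {D : Subgroup G}

omit [FiniteDimensional F V] [Finite G] in
theorem bc_tmul (K : Type*) [Field K] [Algebra F K] (ρ : Representation F G V) (g : G) (c : K) (v : V) :
    bc K ρ g (c ⊗ₜ[F] v) = c ⊗ₜ[F] ρ g v := LinearMap.baseChange_tmul _ _ _

theorem bc_ne_one (K : Type*) [Field K] [Algebra F K] (ρ : Representation F G V) {g : G}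
    (hne : ρ g ≠ 1) : bc K ρ g ≠ 1 := by
  intro h0
  apply hne
  have h2 := finrank_range_bc K ρ g
  have h0' : bc K ρ g - 1 = 0 := sub_eq_zero.mpr h0
  rw [h0', LinearMap.range_zero, finrank_bot] at h2
  have h3 := Submodule.finrank_eq_zero.mp h2.symm
  rw [LinearMap.range_eq_bot, sub_eq_zero] at h3
  exact h3

theorem bc_ne (K : Type*) [Field K] [Algebra F K] (ρ : Representation F G V) {g h : G}
    (hne : ρ g ≠ ρ h) : bc K ρ g ≠ bc K ρ h := by
  intro h0
  have h1 : ρ (h⁻¹ * g) ≠ 1 := by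
    intro h1
    apply hne
    have h2 : ρ h * ρ (h⁻¹ * g) = ρ g := by rw [← map_mul, mul_inv_cancel_left]
    rw [← h2, h1, mul_one]
  apply bc_ne_one K ρ h1
  rw [map_mul, h0, ← map_mul, inv_mul_cancel, map_one]

theorem finrank_CV_bc (K : Type*) [Field K] [Algebra F K] (ρ : Representation F G V) (D : Subgroup G) :
    finrank K (CV (bc K ρ) D) ≤ finrank F (CV ρ D) := by
  have h1 : CV (bc K ρ) D ≤ (CV ρ D).baseChange K := by
    refine CV_le fun d hd => ?_
    rintro _ ⟨x, rfl⟩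
    induction x using TensorProduct.induction_on with
    | zero => rw [map_zero]; exact Submodule.zero_mem _
    | tmul c v =>
      have h2 : (bc K ρ d - 1) (c ⊗ₜ[F] v) = c ⊗ₜ[F] (ρ d v - v) := by
        show bc K ρ d (c ⊗ₜ[F] v) - c ⊗ₜ[F] v = _
        rw [bc_tmul, TensorProduct.tmul_sub]
      rw [h2]
      exact Submodule.tmul_mem_baseChange_of_mem c (sub_mem_CV ρ hd v)
    | add x y hx hy => rw [map_add]; exact Submodule.add_mem _ hx hy
  refine (Submodule.finrank_mono h1).trans ?_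
  have h2 : (CV ρ D).baseChange K = LinearMap.range ((CV ρ D).subtype.baseChange K) := rfl
  rw [h2]
  refine (LinearMap.finrank_range_le _).trans ?_
  rw [Module.finrank_baseChange]

theorem card_cast_bc (K : Type*) [Field K] [Algebra F K] {n : ℕ} (h : (n : F) ≠ 0) : (n : K) ≠ 0 := by
  rw [← map_natCast (algebraMap F K)]
  exact (map_ne_zero_iff _ (algebraMap F K).injective).mpr h

/-- base change of a bilinear form -/
theorem exists_form_bc (K : Type*) [Field K] [Algebra F K] (ρ : Representation F G V)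
    (f : V →ₗ[F] V →ₗ[F] F) (hf : ∀ g u v, f (ρ g u) (ρ g v) = f u v)
    (hnd : ∀ x, (∀ y, f y x = 0) → x = 0) :
    ∃ f' : TensorProduct F K V →ₗ[K] TensorProduct F K V →ₗ[K] K,
      (∀ g u v, f' (bc K ρ g u) (bc K ρ g v) = f' u v) ∧ (∀ x, (∀ y, f' y x = 0) → x = 0) := by
  classical
  let B : LinearMap.BilinForm F V := f
  refine ⟨B.baseChange K, ?_, ?_⟩
  · intro g u v
    induction u using TensorProduct.induction_on with
    | zero => rw [map_zero, map_zero, LinearMap.zero_apply, LinearMap.zero_apply]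
    | tmul c u =>
      induction v using TensorProduct.induction_on with
      | zero => rw [map_zero, map_zero, map_zero]
      | tmul c' v =>
        rw [bc_tmul, bc_tmul, LinearMap.BilinForm.baseChange_tmul, LinearMap.BilinForm.baseChange_tmul]
        congr 1
        exact hf g u v
      | add x y hx hy => rw [map_add, map_add, map_add, hx, hy]
    | add x y hx hy => rw [map_add, map_add, map_add, LinearMap.add_apply, LinearMap.add_apply, hx, hy]
  · have h1 : B.Nondegenerate := LinearMap.BilinForm.Nondegenerate.ofSeparatingRight fun x hx => hnd x hx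
    obtain ⟨b⟩ : Nonempty (Basis (Fin (finrank F V)) F V) := ⟨finBasis F V⟩
    have h2 := (LinearMap.BilinForm.nondegenerate_iff_det_ne_zero b).mp h1
    have h3 : LinearMap.BilinForm.toMatrix (b.baseChange K) (B.baseChange K) =
        (LinearMap.BilinForm.toMatrix b B).map (algebraMap F K) := by
      ext i j
      rw [LinearMap.BilinForm.toMatrix_apply, Matrix.map_apply, LinearMap.BilinForm.toMatrix_apply,
        Module.Basis.baseChange_apply, Module.Basis.baseChange_apply, LinearMap.BilinForm.baseChange_tmul,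
        mul_one, Algebra.smul_def, mul_one]
    have h4 : (LinearMap.BilinForm.toMatrix (b.baseChange K) (B.baseChange K)).det ≠ 0 := by
      rw [h3]
      have h5 := RingHom.map_det (algebraMap F K) (LinearMap.BilinForm.toMatrix b B)
      rw [RingHom.mapMatrix_apply] at h5
      rw [← h5]
      exact (map_ne_zero_iff _ (algebraMap F K).injective).mpr h2
    have h5 := (LinearMap.BilinForm.nondegenerate_iff_det_ne_zero (b.baseChange K)).mpr h4
    exact h5.2

/-- **the weight bound without a form** -/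
theorem weights (ρ : Representation F G V) (ht : t.Prime) (hy : ∃ k : ℕ, y ^ t ^ k = 1)
    (hD : (Nat.card D : F) ≠ 0) (hab : ∀ a ∈ D, ∀ b ∈ D, a * b = b * a) (hn : Nrm y D)
    (hc : ∃ d ∈ D, ρ (y * d) ≠ ρ (d * y)) : t ≤ finrank F (CV ρ D) := by
  obtain ⟨k, hy⟩ := hy
  refine le_trans ?_ (finrank_CV_bc (AlgebraicClosure F) ρ D)
  obtain ⟨d, hd, hne⟩ := hc
  exact weights_closed _ ht hy (card_cast_bc _ hD) hab hn ⟨d, hd, bc_ne _ ρ hne⟩

/-- **the weight bound with a form** -/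
theorem weights_form (ρ : Representation F G V) (ht : t.Prime) (hto : Odd t)
    (hy : ∃ k : ℕ, y ^ t ^ k = 1) (hDo : Odd (Nat.card D))
    (hD : (Nat.card D : F) ≠ 0) (hab : ∀ a ∈ D, ∀ b ∈ D, a * b = b * a) (hn : Nrm y D)
    (hc : ∃ d ∈ D, ρ (y * d) ≠ ρ (d * y)) (f : V →ₗ[F] V →ₗ[F] F)
    (hf : ∀ g u v, f (ρ g u) (ρ g v) = f u v) (hnd : ∀ x, (∀ y, f y x = 0) → x = 0) :
    2 * t ≤ finrank F (CV ρ D) := by
  obtain ⟨k, hy⟩ := hy
  refine le_trans ?_ (finrank_CV_bc (AlgebraicClosure F) ρ D)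
  obtain ⟨d, hd, hne⟩ := hc
  obtain ⟨f', hf', hnd'⟩ := exists_form_bc (AlgebraicClosure F) ρ f hf hnd
  exact weights_closed_form _ ht hto hy hDo (card_cast_bc _ hD) hab hn ⟨d, hd, bc_ne _ ρ hne⟩ f' hf' hnd'

end gen

end Cfsg.Agent.H572.RV
end

-- part: H572/RV/Cen
section
/-!
# Small `t`-elements of a group preserving a form (helper572)

`z` is small if `dim [V, z] ≤ t - 1`. The small `t`-elements of a `π`-group (`2 ∉ π`, `char F ∉ π`) lie in all Sylow
`t`-subgroups and commute with each other.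
-/

set_option autoImplicit false
set_option linter.unusedSectionVars false

namespace Cfsg.Agent.H572.RV

open Module Cfsg.Agent.H167.OP Cfsg.Agent.H170.HL Cfsg.Agent.H988.CPi Cfsg.Agent.H560.HallKey
  Cfsg.Agent.H553.OddHall

/-- an abelian subgroup which is normalised but not centralised -/
theorem exists_abelian_moved {K : Type*} [Group K] [Finite K] {L : Subgroup K} (hnil : Group.IsNilpotent L)
    (hL : ¬ ∀ a ∈ L, ∀ b ∈ L, a * b = b * a) :
    ∃ D ≤ L, (∀ a ∈ D, ∀ b ∈ D, a * b = b * a) ∧ ∃ y ∈ L, Nrm y D ∧ ∃ d ∈ D, y * d ≠ d * y := by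
  classical
  let S : Set (Subgroup L) := {D | ∀ a ∈ D, ∀ b ∈ D, a * b = b * a}
  have hS : S.Nonempty := ⟨⊥, fun a ha b hb => by
    rw [Subgroup.mem_bot] at ha hb
    rw [ha, hb]⟩
  obtain ⟨D, hDS, hDmax⟩ := (Set.toFinite S).exists_maximal hS
  have hDne : D ≠ ⊤ := by
    intro h
    apply hL
    intro a ha b hb
    have h1 := hDS ⟨a, ha⟩ (by rw [h]; trivial) ⟨b, hb⟩ (by rw [h]; trivial)
    exact congrArg Subtype.val h1
  have hlt := Group.normalizerCondition_of_isNilpotent (G := L) D (lt_top_iff_ne_top.mpr hDne)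
  obtain ⟨y, hyN, hyD⟩ := SetLike.exists_of_lt hlt
  have hnc : ∃ d ∈ D, y * d ≠ d * y := by
    by_contra hcon
    push Not at hcon
    -- `D ⊔ ⟨y⟩` is abelian
    have h1 : (Subgroup.closure ((D : Set L) ∪ {y})) ∈ S := by
      have hcl : ∀ a ∈ Subgroup.closure ((D : Set L) ∪ {y}), ∀ b ∈ Subgroup.closure ((D : Set L) ∪ {y}),
          a * b = b * a := by
        intro a ha b hb
        have h3 : Subgroup.closure ((D : Set L) ∪ {y}) ≤
            Subgroup.centralizer ((D : Set L) ∪ {y}) := by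
          rw [Subgroup.closure_le]
          rintro u (hu | hu)
          · rw [SetLike.mem_coe, Subgroup.mem_centralizer_iff]
            rintro v (hv | hv)
            · exact hDS v hv u hu
            · rw [Set.mem_singleton_iff.mp hv]
              exact hcon u hu
          · rw [Set.mem_singleton_iff.mp hu, SetLike.mem_coe, Subgroup.mem_centralizer_iff]
            rintro v (hv | hv)
            · exact (hcon v hv).symm
            · rw [Set.mem_singleton_iff.mp hv]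
        have h4 : Subgroup.closure ((D : Set L) ∪ {y}) ≤
            Subgroup.centralizer (Subgroup.closure ((D : Set L) ∪ {y}) : Set L) := by
          rw [Subgroup.closure_le]
          intro u hu
          rw [SetLike.mem_coe, Subgroup.mem_centralizer_iff]
          intro v hv
          exact (Subgroup.mem_centralizer_iff.mp (h3 hv) u hu).symm
        exact (Subgroup.mem_centralizer_iff.mp (h4 ha) b hb).symm
      exact hcl
    have h2 : D ≤ Subgroup.closure ((D : Set L) ∪ {y}) := fun d hd => Subgroup.subset_closure (Or.inl hd)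
    have h3 := hDmax h1 h2
    exact hyD (h3 (Subgroup.subset_closure (Or.inr rfl)))
  obtain ⟨d, hd, hne⟩ := hnc
  refine ⟨D.map L.subtype, Subgroup.map_subtype_le _, ?_, y, y.2, ?_, d, ⟨d, hd, rfl⟩, ?_⟩
  · rintro _ ⟨a, ha, rfl⟩ _ ⟨b, hb, rfl⟩
    exact congrArg Subtype.val (hDS a ha b hb)
  · rintro _ ⟨a, ha, rfl⟩
    exact ⟨y * a * y⁻¹, (Subgroup.mem_normalizer_iff.mp hyN a).mp ha, rfl⟩
  · intro h
    exact hne (Subtype.ext h)

variable {F : Type*} [Field F] {V : Type*} [AddCommGroup V] [Module F V] [FiniteDimensional F V]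
  {K : Type*} [Group K] [Finite K] {t : ℕ}

/-- small `t`-elements -/
def Small (ρ : Representation F K V) (t : ℕ) (z : K) : Prop := (∃ k : ℕ, z ^ t ^ k = 1) ∧ rk ρ z ≤ t - 1

/-- the primes under consideration -/
def Pi0 (F : Type*) [Field F] : Set ℕ := {r | Odd r ∧ (r : F) ≠ 0}

theorem two_notMem_Pi0 : 2 ∉ Pi0 F := fun h => absurd h.1 (by decide)

theorem piN_Pi0 {n : ℕ} (hn : n ≠ 0) (h : PiN (Pi0 F) n) : Odd n ∧ (n : F) ≠ 0 := by
  induction n using Nat.recOnMul with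
  | zero => exact absurd rfl hn
  | one => exact ⟨odd_one, by simp⟩
  | prime p hp => exact h p hp dvd_rfl
  | mul a b ha hb =>
    have ha0 : a ≠ 0 := by rintro rfl; simp at hn
    have hb0 : b ≠ 0 := by rintro rfl; simp at hn
    obtain ⟨h1, h2⟩ := ha ha0 (h.of_dvd (dvd_mul_right a b))
    obtain ⟨h3, h4⟩ := hb hb0 (h.of_dvd (dvd_mul_left b a))
    exact ⟨h1.mul h3, by rw [Nat.cast_mul]; exact mul_ne_zero h2 h4⟩

theorem piN_of_pgroup {t : ℕ} (ht : t.Prime) (hto : Odd t) (htF : (t : F) ≠ 0) {L : Subgroup K}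
    (h : IsPGroup t L) : PiN (Pi0 F) (Nat.card L) := by
  have := Fact.mk ht
  obtain ⟨n, hn⟩ := IsPGroup.iff_card.mp h
  intro r hr hd
  rw [hn] at hd
  have := (Nat.prime_dvd_prime_iff_eq hr ht).mp (hr.dvd_of_dvd_pow hd)
  rw [this]
  exact ⟨hto, htF⟩

/-- a representation preserving a nondegenerate form -/
structure FRep (ρ : Representation F K V) (f : V →ₗ[F] V →ₗ[F] F) : Prop where
  inj : Function.Injective ρ
  iso : ∀ g u v, f (ρ g u) (ρ g v) = f u v
  nd : ∀ x, (∀ y, f y x = 0) → x = 0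

variable {ρ : Representation F K V} {f : V →ₗ[F] V →ₗ[F] F}

/-- `t`-groups with a small commutator space are abelian -/
theorem FRep.comm (h : FRep ρ f) (ht : t.Prime) (hto : Odd t) (htF : (t : F) ≠ 0) {L : Subgroup K}
    (hL : IsPGroup t L) (hb : finrank F (CV ρ L) < 2 * t) : ∀ a ∈ L, ∀ b ∈ L, a * b = b * a := by
  have htf := Fact.mk ht
  by_contra hcon
  obtain ⟨D, hDL, hab, y, hy, hn, d, hd, hne⟩ := exists_abelian_moved hL.isNilpotent hcon
  have hD := piN_Pi0 Nat.card_pos.ne' (piN_of_pgroup (F := F) ht hto htF (hL.to_le hDL))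
  have hy' : ∃ k : ℕ, y ^ t ^ k = 1 := by
    obtain ⟨k, hk⟩ := hL ⟨y, hy⟩
    exact ⟨k, congrArg Subtype.val hk⟩
  have h1 := weights_form ρ ht hto hy' hD.1 hD.2 hab hn ⟨d, hd, fun h0 => hne (h.inj h0)⟩ f h.iso h.nd
  have h2 := Submodule.finrank_mono (CV_mono ρ hDL)
  omega

/-- `t`-elements of `L` centralise the `r`-subgroups which they normalise -/
theorem FRep.cenH (h : FRep ρ f) (ht : t.Prime) (hto : Odd t) {L : Subgroup K}
    (hb : finrank F (CV ρ L) ≤ 2 * (t - 1)) (hL : PiN (Pi0 F) (Nat.card L)) : CenH t L := by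
  classical
  intro y hy r hrp hrt R hR hn
  by_contra hc
  have hrf : Fact r.Prime := ⟨hrp⟩
  let B : Subgroup K := R.map L.subtype
  have hB : ∀ d ∈ B, ∃ k : ℕ, d ^ r ^ k = 1 := by
    rintro _ ⟨x, hx, rfl⟩
    obtain ⟨k, hk⟩ := hR ⟨x, hx⟩
    exact ⟨k, congrArg (fun z : R => ((z : L) : K)) hk⟩
  have hy' : ∃ k : ℕ, (y : K) ^ t ^ k = 1 := by
    obtain ⟨k, hk⟩ := hy
    exact ⟨k, congrArg Subtype.val hk⟩
  have hn' : Nrm (y : K) B := by
    rintro _ ⟨x, hx, rfl⟩
    exact ⟨_, hn x hx, rfl⟩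
  have hc' : ¬ Cen (y : K) B := by
    intro h
    apply hc
    intro d hd
    exact Subtype.ext (h d ⟨d, hd, rfl⟩)
  obtain ⟨D, hDB, hD⟩ := exists_minD hrp ht hrt hB hy' hn' hc'
  have hDL : D ≤ L := hDB.trans (Subgroup.map_subtype_le _)
  have hDb : finrank F (CV ρ D) ≤ 2 * (t - 1) :=
    (Submodule.finrank_mono (CV_mono ρ hDL)).trans hb
  have ht2 := ht.two_le
  have hDπ : PiN (Pi0 F) (Nat.card D) := hL.of_dvd (Subgroup.card_dvd_of_le hDL)
  have hDo := piN_Pi0 Nat.card_pos.ne' hDπ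
  have hDr : r ∈ Pi0 F := by
    refine hDπ r hrp ?_
    have h1 : IsPGroup r D := hD.isPGroup
    obtain ⟨n, hn⟩ := IsPGroup.iff_card.mp h1
    rw [hn]
    refine dvd_pow_self r ?_
    rintro rfl
    rw [pow_zero, Subgroup.card_eq_one] at hn
    apply hD.ncen
    intro d hd
    rw [hn, Subgroup.mem_bot] at hd
    rw [hd, mul_one, one_mul]
  by_cases hab : ∀ a ∈ D, ∀ b ∈ D, a * b = b * a
  · obtain ⟨d, hd, hne⟩ : ∃ d ∈ D, (y : K) * d ≠ d * y := by
      by_contra hcon
      push Not at hcon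
      exact hD.ncen hcon
    have h1 := weights_form ρ ht hto hy' hDo.1 hDo.2 hab hD.nrm
      ⟨d, hd, fun h0 => hne (h.inj h0)⟩ f h.iso h.nd
    omega
  · push Not at hab
    have h1 : r ≠ 2 := by
      rintro rfl
      exact absurd hDr.1 (by decide)
    have h2 : t ≠ 2 := by
      rintro rfl
      exact absurd hto (by decide)
    have := Cfsg.Agent.H167.OP.beta ρ h.inj hD h1 h2 hDr.2 hab
    change 2 * t - 1 ≤ finrank F (CV ρ D) at this
    omega

theorem finrank_CV_two (ρ : Representation F K V) (x z : K) :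
    finrank F (CV ρ (Subgroup.closure {x, z})) ≤ rk ρ x + rk ρ z := by
  have h1 : CV ρ (Subgroup.closure {x, z}) ≤
      LinearMap.range (ρ x - 1) ⊔ LinearMap.range (ρ z - 1) := by
    refine CV_closure_le ?_
    rintro s (rfl | hs)
    · exact le_sup_left
    · rw [Set.mem_singleton_iff] at hs
      rw [hs]
      exact le_sup_right
  exact (Submodule.finrank_mono h1).trans (Submodule.finrank_add_le_finrank_add_finrank _ _)

/-- **the group generated by two small `t`-elements** -/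
theorem FRep.isPGroup_pair (h : FRep ρ f) (ht : t.Prime) (hto : Odd t) {x z : K} (hx : Small ρ t x)
    (hz : Small ρ t z) (hL : PiN (Pi0 F) (Nat.card (Subgroup.closure {x, z} : Subgroup K))) :
    IsPGroup t (Subgroup.closure {x, z} : Subgroup K) := by
  classical
  have htf : Fact t.Prime := ⟨ht⟩
  set L : Subgroup K := Subgroup.closure {x, z} with hLdef
  have hC : CenH t L := by
    refine h.cenH ht hto ?_ hL
    refine (finrank_CV_two ρ x z).trans ?_
    have := hx.2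
    have := hz.2
    omega
  have hsolL : Group.IsSolvable L := solvable_of_pi two_notMem_Pi0 hL
  have hgen : Subgroup.closure {x : L | ∃ k : ℕ, x ^ t ^ k = 1} = ⊤ := by
    rw [eq_top_iff, ← Subgroup.closure_closure_coe_preimage (k := ({x, z} : Set K))]
    apply Subgroup.closure_mono
    rintro ⟨w, hw⟩ hwm
    rcases hwm with h | h
    · obtain ⟨k, hk⟩ := hx.1
      have h' : w = x := h
      exact ⟨k, Subtype.ext (show w ^ t ^ k = 1 by rw [h', hk])⟩
    · obtain ⟨k, hk⟩ := hz.1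
      have h' : w = z := h
      exact ⟨k, Subtype.ext (show w ^ t ^ k = 1 by rw [h', hk])⟩
  exact isPGroup_of_cenH hsolL hC hgen

theorem Small.conj {z : K} (hz : Small ρ t z) (g : K) : Small ρ t (g * z * g⁻¹) := by
  obtain ⟨⟨k, hk⟩, h2⟩ := hz
  exact ⟨⟨k, by rw [conj_pow, hk, mul_one, mul_inv_cancel]⟩, (rk_conj_le ρ g z).trans h2⟩

/-- small elements of a `π`-group commute -/
theorem FRep.comm_small (h : FRep ρ f) (ht : t.Prime) (hto : Odd t) (htF : (t : F) ≠ 0) {H : Subgroup K}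
    (hH : PiN (Pi0 F) (Nat.card H)) {x z : K} (hx : Small ρ t x) (hxH : x ∈ H) (hz : Small ρ t z)
    (hzH : z ∈ H) : x * z = z * x := by
  have hle : (Subgroup.closure {x, z} : Subgroup K) ≤ H := by
    rw [Subgroup.closure_le]
    rintro s (rfl | hs)
    · exact hxH
    · rw [Set.mem_singleton_iff] at hs
      rw [hs]
      exact hzH
  have h1 := h.isPGroup_pair ht hto hx hz (hH.of_dvd (Subgroup.card_dvd_of_le hle))
  refine h.comm ht hto htF h1 ?_ x (Subgroup.subset_closure (Or.inl rfl)) z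
    (Subgroup.subset_closure (Or.inr rfl))
  have h2 := finrank_CV_two ρ x z
  have h3 := hx.2
  have h4 := hz.2
  have := ht.two_le
  omega

end Cfsg.Agent.H572.RV
end

private theorem dce_1e7bbb333395 : _root_.True := by
  try have : _root_.True := by simp only [_root_.Cfsg.Agent.H572.RV.tw.congr_simp]
  exact _root_.True.intro
end

-- part: H572/RV/Rows
section
prune_inst 0x121000800018000000000000290000020040004200000000000000000000140602000a80004001100020080010005000000cc0010000000000000000000000020800042020340a104040087800000000000000000000000000000000000000000000000000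
set_option linter.all false
open scoped Cfsg.Agent.FastGrp

-- part: H572/RV/Parts
section
/-!
# Full isometry groups: gluing of isometries; parts of small elements (helper572)
-/

set_option autoImplicit false
set_option linter.unusedSectionVars false

namespace Cfsg.Agent.H572.RV

open Module Cfsg.Agent.H167.OP Cfsg.Agent.H170.HL Cfsg.Agent.H988.CPi Cfsg.Agent.H560.HallKey
  Cfsg.Agent.H553.OddHall

/-- commuting `t`-elements generate a `t`-group -/
theorem isPGroup_closure {K : Type*} [Group K] {t : ℕ} {S : Set K}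
    (hcomm : ∀ a ∈ S, ∀ b ∈ S, a * b = b * a) (hS : ∀ a ∈ S, ∃ k : ℕ, a ^ t ^ k = 1) :
    (∀ a ∈ Subgroup.closure S, ∀ b ∈ Subgroup.closure S, a * b = b * a) ∧
      IsPGroup t (Subgroup.closure S) := by
  have h1 : Subgroup.closure S ≤ Subgroup.centralizer S := by
    rw [Subgroup.closure_le]
    intro a ha
    rw [SetLike.mem_coe, Subgroup.mem_centralizer_iff]
    exact fun b hb => hcomm b hb a ha
  have h2 : Subgroup.closure S ≤ Subgroup.centralizer (Subgroup.closure S : Set K) := by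
    rw [Subgroup.closure_le]
    intro a ha
    rw [SetLike.mem_coe, Subgroup.mem_centralizer_iff]
    intro b hb
    exact (Subgroup.mem_centralizer_iff.mp (h1 hb) a ha).symm
  have h3 : ∀ a ∈ Subgroup.closure S, ∀ b ∈ Subgroup.closure S, a * b = b * a := fun a ha b hb =>
    (Subgroup.mem_centralizer_iff.mp (h2 ha) b hb).symm
  refine ⟨h3, ?_⟩
  rintro ⟨x, hx⟩
  suffices h : ∃ k : ℕ, x ^ t ^ k = 1 by
    obtain ⟨k, hk⟩ := h
    exact ⟨k, Subtype.ext hk⟩
  induction hx using Subgroup.closure_induction with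
  | mem x hx => exact hS x hx
  | one => exact ⟨0, by simp⟩
  | mul a b ha hb iha ihb =>
    obtain ⟨i, hi⟩ := iha
    obtain ⟨j, hj⟩ := ihb
    refine ⟨i + j, ?_⟩
    have hc : Commute a b := h3 a ha b hb
    rw [hc.mul_pow, pow_add, pow_mul, hi, one_pow, one_mul, mul_comm, pow_mul, hj, one_pow]
  | inv a _ ih =>
    obtain ⟨k, hk⟩ := ih
    exact ⟨k, by rw [inv_pow, hk, inv_one]⟩

variable {F : Type*} [Field F] [Finite F] {V : Type*} [AddCommGroup V] [Module F V] [Finite V]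
  [FiniteDimensional F V] {K : Type*} [Group K] [Finite K] {t : ℕ}

/-- a full isometry group -/
structure IsoG (ρ : Representation F K V) (f : V →ₗ[F] V →ₗ[F] F) (Q : V → F) : Prop extends
    FRep ρ f where
  isoQ : ∀ g v, Q (ρ g v) = Q v
  sym : ∃ ε : F, ε * ε = 1 ∧ ∀ x y, f x y = ε * f y x
  addQ : ∀ x y, f x y = 0 → Q (x + y) = Q x + Q y
  full : ∀ A : Module.End F V, (∀ u v, f (A u) (A v) = f u v) → (∀ v, Q (A v) = Q v) → ∃ k, ρ k = A

/-- nondegenerate subspaces -/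
def ND (f : V →ₗ[F] V →ₗ[F] F) (U : Submodule F V) : Prop := ∀ u ∈ U, (∀ x ∈ U, f x u = 0) → u = 0

variable {ρ : Representation F K V} {f : V →ₗ[F] V →ₗ[F] F} {Q : V → F} {U U₁ U₂ : Submodule F V}

theorem IsoG.refl (h : IsoG ρ f Q) (x y : V) (hxy : f x y = 0) : f y x = 0 := by
  obtain ⟨ε, -, h1⟩ := h.sym
  rw [h1, hxy, mul_zero]

theorem decomp (hU : ND f U) (v : V) : ∃ u ∈ U, ∃ w ∈ Orth f U, v = u + w := by
  have : v ∈ U ⊔ Orth f U := by rw [(isCompl_Orth f U hU).sup_eq_top]; trivial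
  rw [Submodule.mem_sup] at this
  obtain ⟨u, hu, w, hw, rfl⟩ := this
  exact ⟨u, hu, w, hw, rfl⟩

/-- **gluing three isometries** -/
theorem IsoG.glue3 (h : IsoG ρ f Q) (hU₁ : ND f U₁) (hU₂ : ND f U₂)
    (h12 : ∀ u ∈ U₁, ∀ v ∈ U₂, f u v = 0) (g₁ g₂ g₃ : K)
    (o12 : ∀ u ∈ U₁, ∀ v ∈ U₂, f (ρ g₁ u) (ρ g₂ v) = 0)
    (o13 : ∀ u ∈ U₁, ∀ w ∈ Orth f U₁ ⊓ Orth f U₂, f (ρ g₁ u) (ρ g₃ w) = 0)
    (o23 : ∀ u ∈ U₂, ∀ w ∈ Orth f U₁ ⊓ Orth f U₂, f (ρ g₂ u) (ρ g₃ w) = 0) :
    ∃ k : K, (∀ u ∈ U₁, ρ k u = ρ g₁ u) ∧ (∀ u ∈ U₂, ρ k u = ρ g₂ u) ∧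
      ∀ w ∈ Orth f U₁ ⊓ Orth f U₂, ρ k w = ρ g₃ w := by
  have hc1 := isCompl_Orth f U₁ hU₁
  have hc2 := isCompl_Orth f U₂ hU₂
  let B : Module.End F V := LinearMap.ofIsCompl hc2 (ρ g₂ ∘ₗ U₂.subtype) (ρ g₃ ∘ₗ (Orth f U₂).subtype)
  have hB1 : ∀ u ∈ U₂, B u = ρ g₂ u := fun u hu => LinearMap.ofIsCompl_apply_left hc2 ⟨u, hu⟩
  have hB2 : ∀ w ∈ Orth f U₂, B w = ρ g₃ w := fun u hu => LinearMap.ofIsCompl_apply_right hc2 ⟨u, hu⟩
  let A : Module.End F V := LinearMap.ofIsCompl hc1 (ρ g₁ ∘ₗ U₁.subtype) (B ∘ₗ (Orth f U₁).subtype)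
  have hA1 : ∀ u ∈ U₁, A u = ρ g₁ u := fun u hu => LinearMap.ofIsCompl_apply_left hc1 ⟨u, hu⟩
  have hA2 : ∀ w ∈ Orth f U₁, A w = B w := fun u hu => LinearMap.ofIsCompl_apply_right hc1 ⟨u, hu⟩
  have hU2 : ∀ u ∈ U₂, u ∈ Orth f U₁ := fun u hu x hx => h12 x hx u hu
  have hdec : ∀ v, ∃ a ∈ U₁, ∃ b ∈ U₂, ∃ c ∈ Orth f U₁ ⊓ Orth f U₂, v = a + (b + c) := by
    intro v
    obtain ⟨a, ha, w, hw, rfl⟩ := decomp hU₁ v
    obtain ⟨b, hb, c, hc, rfl⟩ := decomp hU₂ w
    refine ⟨a, ha, b, hb, c, ⟨?_, hc⟩, rfl⟩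
    have := (Orth f U₁).sub_mem hw (hU2 b hb)
    rwa [add_sub_cancel_left] at this
  have hA : ∀ a ∈ U₁, ∀ b ∈ U₂, ∀ c ∈ Orth f U₁ ⊓ Orth f U₂,
      A (a + (b + c)) = ρ g₁ a + (ρ g₂ b + ρ g₃ c) := by
    intro a ha b hb c hc
    rw [map_add, map_add, hA1 a ha, hA2 b (hU2 b hb), hB1 b hb, hA2 c hc.1, hB2 c hc.2]
  have hAf : ∀ u v, f (A u) (A v) = f u v := by
    intro u v
    obtain ⟨a, ha, b, hb, c, hc, rfl⟩ := hdec u
    obtain ⟨a', ha', b', hb', c', hc', rfl⟩ := hdec v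
    rw [hA a ha b hb c hc, hA a' ha' b' hb' c' hc']
    simp only [map_add, LinearMap.add_apply]
    rw [h.iso, h.iso, h.iso, o12 a ha b' hb', o13 a ha c' hc', h.refl _ _ (o12 a' ha' b hb),
      o23 b hb c' hc', h.refl _ _ (o13 a' ha' c hc), h.refl _ _ (o23 b' hb' c hc),
      h12 a ha b' hb', hc'.1 a ha, h.refl _ _ (h12 a' ha' b hb), hc'.2 b hb,
      h.refl _ _ (hc.1 a' ha'), h.refl _ _ (hc.2 b' hb')]
  have hAQ : ∀ v, Q (A v) = Q v := by
    intro v
    obtain ⟨a, ha, b, hb, c, hc, rfl⟩ := hdec v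
    have e1 : f (ρ g₁ a) (ρ g₂ b + ρ g₃ c) = 0 := by rw [map_add, o12 a ha b hb, o13 a ha c hc, add_zero]
    have e2 : f a (b + c) = 0 := by rw [map_add, h12 a ha b hb, hc.1 a ha, add_zero]
    rw [hA a ha b hb c hc, h.addQ _ _ e1, h.addQ _ _ e2, h.addQ _ _ (o23 b hb c hc), h.addQ _ _ (hc.2 b hb),
      h.isoQ, h.isoQ, h.isoQ]
  obtain ⟨k, hk⟩ := h.full A hAf hAQ
  refine ⟨k, fun u hu => by rw [hk, hA1 u hu], fun u hu => by rw [hk, hA2 u (hU2 u hu), hB1 u hu],
    fun w hw => by rw [hk, hA2 w hw.1, hB2 w hw.2]⟩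

/-- `k` is the part of `x` on `U` -/
def IsPart (ρ : Representation F K V) (f : V →ₗ[F] V →ₗ[F] F) (U : Submodule F V) (x k : K) : Prop :=
  (∀ u ∈ U, ρ k u = ρ x u) ∧ ∀ w ∈ Orth f U, ρ k w = w

theorem IsoG.exists_part (h : IsoG ρ f Q) (hU : ND f U) {x : K} (hx : ∀ u ∈ U, ρ x u ∈ U) :
    ∃ k, IsPart ρ f U x k := by
  have hbot : ND f (⊥ : Submodule F V) := fun u hu _ => by rwa [Submodule.mem_bot] at hu
  have hO : Orth f (⊥ : Submodule F V) = ⊤ := by
    rw [eq_top_iff]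
    intro v _ u hu
    rw [Submodule.mem_bot] at hu
    rw [hu, map_zero, LinearMap.zero_apply]
  obtain ⟨k, h1, -, h3⟩ := h.glue3 hU hbot (fun u _ v hv => by
      rw [Submodule.mem_bot] at hv
      rw [hv, map_zero]) x 1 1 (fun u _ v hv => by
      rw [Submodule.mem_bot] at hv
      rw [hv, map_zero, map_zero]) (fun u hu w hw => by
      rw [one_ap]
      exact hw.1 _ (hx u hu)) (fun u hu w _ => by
      rw [Submodule.mem_bot] at hu
      rw [hu, map_zero, map_zero, LinearMap.zero_apply])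
  refine ⟨k, h1, fun w hw => ?_⟩
  rw [h3 w ⟨hw, by rw [hO]; trivial⟩, one_ap]

theorem eq_of_parts (hinj : Function.Injective ρ) (hU : ND f U) {k k' : K}
    (h1 : ∀ u ∈ U, ρ k u = ρ k' u) (h2 : ∀ w ∈ Orth f U, ρ k w = ρ k' w) : k = k' := by
  apply hinj
  apply LinearMap.ext
  intro v
  obtain ⟨u, hu, w, hw, rfl⟩ := decomp hU v
  rw [map_add, map_add, h1 u hu, h2 w hw]

theorem IsPart.unique (hinj : Function.Injective ρ) (hU : ND f U) {x k k' : K} (hk : IsPart ρ f U x k)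
    (hk' : IsPart ρ f U x k') : k = k' :=
  eq_of_parts hinj hU (fun u hu => by rw [hk.1 u hu, hk'.1 u hu]) (fun w hw => by rw [hk.2 w hw, hk'.2 w hw])

theorem Orth_map (h : IsoG ρ f Q) (g : K) (U : Submodule F V) :
    Orth f (U.map (ρ g)) = (Orth f U).map (ρ g) := by
  ext w
  constructor
  · intro hw
    refine ⟨ρ g⁻¹ w, fun u hu => ?_, ap_inv ρ g w⟩
    have h1 := hw (ρ g u) ⟨u, hu, rfl⟩
    have h2 := h.iso g u (ρ g⁻¹ w)
    rw [ap_inv] at h2
    rw [← h2, h1]
  · rintro ⟨w, hw, rfl⟩ _ ⟨u, hu, rfl⟩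
    rw [h.iso]
    exact hw u hu

theorem IsPart.conj (h : IsoG ρ f Q) {x k : K} (hk : IsPart ρ f U x k) (g : K) :
    IsPart ρ f (U.map (ρ g)) (g * x * g⁻¹) (g * k * g⁻¹) := by
  constructor
  · rintro _ ⟨u, hu, rfl⟩
    have e : ∀ y : K, ρ (g * y * g⁻¹) (ρ g u) = ρ g (ρ y u) := by
      intro y
      rw [mul_ap, mul_ap, inv_ap]
    rw [e, e, hk.1 u hu]
  · rw [Orth_map h]
    rintro _ ⟨u, hu, rfl⟩
    rw [mul_ap, mul_ap, inv_ap, hk.2 u hu]

theorem IsPart.mul {x k x' k' : K} (hk : IsPart ρ f U x k) (hk' : IsPart ρ f U x' k')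
    (hx' : ∀ u ∈ U, ρ x' u ∈ U) : IsPart ρ f U (x * x') (k * k') := by
  constructor
  · intro u hu
    rw [mul_ap, mul_ap, hk'.1 u hu, hk.1 _ (hx' u hu)]
  · intro w hw
    rw [mul_ap, hk'.2 w hw, hk.2 w hw]

theorem IsPart.one : IsPart ρ f U 1 1 := ⟨fun _ _ => rfl, fun w _ => one_ap ρ w⟩

theorem IsPart.pow {x k : K} (hk : IsPart ρ f U x k) (hx : ∀ u ∈ U, ρ x u ∈ U) (n : ℕ) :
    IsPart ρ f U (x ^ n) (k ^ n) := by
  induction n with
  | zero => rw [pow_zero, pow_zero]; exact IsPart.one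
  | succ n ih =>
    rw [pow_succ, pow_succ]
    exact ih.mul hk hx

/-- the support -/
noncomputable def sp (ρ : Representation F K V) (z : K) : Submodule F V := LinearMap.range (ρ z - 1)

theorem mem_sp {z : K} (v : V) : ρ z v - v ∈ sp ρ z := ⟨v, rfl⟩

theorem IsPart.sp_le (hU : ND f U) {x k : K} (hk : IsPart ρ f U x k) (hx : ∀ u ∈ U, ρ x u ∈ U) :
    sp ρ k ≤ U := by
  rintro _ ⟨v, rfl⟩
  obtain ⟨u, hu, w, hw, rfl⟩ := decomp hU v
  have h1 : (ρ k - 1) (u + w) = ρ x u - u := by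
    show ρ k (u + w) - (u + w) = _
    rw [map_add, hk.1 u hu, hk.2 w hw]
    abel
  rw [h1]
  exact U.sub_mem (hx u hu) hu

theorem IsPart.sp_le' (hU : ND f U) {x k : K} (hk : IsPart ρ f U x k) : sp ρ k ≤ sp ρ x := by
  rintro _ ⟨v, rfl⟩
  obtain ⟨u, hu, w, hw, rfl⟩ := decomp hU v
  have h1 : (ρ k - 1) (u + w) = ρ x u - u := by
    show ρ k (u + w) - (u + w) = _
    rw [map_add, hk.1 u hu, hk.2 w hw]
    abel
  rw [h1]
  exact mem_sp u

theorem IsPart.tel (h : IsoG ρ f Q) (hU : ND f U) {x k : K} (hk : IsPart ρ f U x k)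
    (hx : ∀ u ∈ U, ρ x u ∈ U) (hxt : ∃ m : ℕ, x ^ t ^ m = 1) : ∃ m : ℕ, k ^ t ^ m = 1 := by
  obtain ⟨m, hm⟩ := hxt
  refine ⟨m, ?_⟩
  have h1 := hk.pow hx (t ^ m)
  rw [hm] at h1
  exact h1.unique h.inj hU IsPart.one

theorem sp_conj (g z : K) : sp ρ (g * z * g⁻¹) = (sp ρ z).map (ρ g) := by
  have key : ∀ g z : K, (sp ρ z).map (ρ g) ≤ sp ρ (g * z * g⁻¹) := by
    rintro g z _ ⟨_, ⟨v, rfl⟩, rfl⟩
    refine ⟨ρ g v, ?_⟩
    show ρ (g * z * g⁻¹) (ρ g v) - ρ g v = ρ g (ρ z v - v)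
    rw [mul_ap, mul_ap, inv_ap, map_sub]
  apply le_antisymm _ (key g z)
  intro w hw
  have h1 := key g⁻¹ (g * z * g⁻¹) ⟨w, hw, rfl⟩
  have h2 : g⁻¹ * (g * z * g⁻¹) * g⁻¹⁻¹ = z := by group
  rw [h2] at h1
  exact ⟨_, h1, ap_inv ρ g w⟩

theorem map_sp_of_comm {g z : K} (hgz : g * z = z * g) : (sp ρ z).map (ρ g) = sp ρ z := by
  rw [← sp_conj, hgz, mul_inv_cancel_right]

theorem map_mem_of_comm {g z : K} (hgz : g * z = z * g) {u : V} (hu : u ∈ sp ρ z) : ρ g u ∈ sp ρ z := by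
  rw [← map_sp_of_comm hgz]
  exact ⟨u, hu, rfl⟩

theorem sp_eq_bot (hinj : Function.Injective ρ) {z : K} : sp ρ z = ⊥ ↔ z = 1 := by
  rw [sp, LinearMap.range_eq_bot, sub_eq_zero]
  constructor
  · intro h
    exact hinj (by rw [h, map_one])
  · intro h
    rw [h, map_one]

theorem nd_sp (h : IsoG ρ f Q) (htF : (t : F) ≠ 0) {z : K} (hz : ∃ k : ℕ, z ^ t ^ k = 1) : ND f (sp ρ z) := by
  obtain ⟨k, hk⟩ := hz
  intro u hu hx
  refine nondeg_range f h.nd (t := t ^ k) (y := ρ z) ?_ ?_ (h.iso z) hu hx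
  · rw [Nat.cast_pow]; exact pow_ne_zero _ htF
  · rw [← map_pow, hk, map_one]

theorem mem_Orth_sp (h : IsoG ρ f Q) {z : K} {w : V} : w ∈ Orth f (sp ρ z) ↔ ρ z w = w := by
  constructor
  · intro hw
    rw [← sub_eq_zero]
    apply h.nd
    intro v
    have h1 := hw _ (mem_sp (ρ := ρ) (z := z) (ρ z⁻¹ v))
    have h2 := h.iso z (ρ z⁻¹ v) w
    rw [ap_inv] at h1 h2
    rw [map_sub, LinearMap.sub_apply] at h1
    rw [map_sub, h2, sub_eq_zero]
    exact (sub_eq_zero.mp h1).symm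
  · rintro hw _ ⟨v, rfl⟩
    show f (ρ z v - v) w = 0
    rw [map_sub, LinearMap.sub_apply]
    have h1 := h.iso z v w
    rw [hw] at h1
    rw [h1, sub_self]

/-- an element commuting with `x` and `z` commutes with the part of `x` on `[V, z]` -/
theorem IsPart.comm (h : IsoG ρ f Q) (htF : (t : F) ≠ 0) {x z k y : K} (hz : ∃ k : ℕ, z ^ t ^ k = 1)
    (hk : IsPart ρ f (sp ρ z) x k) (hyx : y * x = x * y) (hyz : y * z = z * y) : y * k = k * y := by
  have h1 := hk.conj h y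
  rw [map_sp_of_comm hyz, hyx, mul_inv_cancel_right] at h1
  have h2 := h1.unique h.inj (nd_sp h htF hz) hk
  calc y * k = (y * k * y⁻¹) * y := by group
    _ = k * y := by rw [h2]

/-- `t`-subgroups normalised by `H` lie in `H` -/
def MX (t : ℕ) (H : Subgroup K) : Prop :=
  ∀ R : Subgroup K, IsPGroup t R → H ≤ Subgroup.normalizer (R : Set K) → R ≤ H

/-- the small elements of `H` -/
def Zs (ρ : Representation F K V) (t : ℕ) (H : Subgroup K) : Set K := {z | z ∈ H ∧ Small ρ t z}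

theorem small_of_sp_le {k z : K} (hk : ∃ m : ℕ, k ^ t ^ m = 1) (hz : Small ρ t z) (hle : sp ρ k ≤ sp ρ z) :
    Small ρ t k := ⟨hk, (Submodule.finrank_mono hle).trans hz.2⟩

/-- **parts of small elements of `H` belong to `H`** -/
theorem IsoG.part_mem (h : IsoG ρ f Q) (ht : t.Prime) (hto : Odd t) (htF : (t : F) ≠ 0) {H : Subgroup K}
    (hH : PiN (Pi0 F) (Nat.card H)) (hMX : MX t H) {x z k : K} (hx : x ∈ Zs ρ t H) (hz : z ∈ Zs ρ t H)
    (hk : IsPart ρ f (sp ρ z) x k) : k ∈ Zs ρ t H := by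
  have hcomm : ∀ a ∈ Zs ρ t H, ∀ b ∈ Zs ρ t H, a * b = b * a := fun a ha b hb =>
    h.comm_small ht hto htF hH ha.2 ha.1 hb.2 hb.1
  let S : Set K := {k | ∃ x ∈ Zs ρ t H, ∃ z ∈ Zs ρ t H, IsPart ρ f (sp ρ z) x k}
  have hS1 : ∀ a ∈ S, ∀ b ∈ S, a * b = b * a := by
    rintro k ⟨x, hx, z, hz, hk⟩ k' ⟨x', hx', z', hz', hk'⟩
    have h1 : ∀ y ∈ Zs ρ t H, y * k = k * y := fun y hy =>
      hk.comm h htF hz.2.1 (hcomm y hy x hx) (hcomm y hy z hz)
    exact hk'.comm h htF hz'.2.1 (h1 x' hx').symm (h1 z' hz').symm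
  have hS2 : ∀ a ∈ S, ∃ k : ℕ, a ^ t ^ k = 1 := by
    rintro k ⟨x, hx, z, hz, hk⟩
    exact hk.tel h (nd_sp h htF hz.2.1) (fun u hu => map_mem_of_comm (hcomm x hx z hz) hu) hx.2.1
  have h1 := isPGroup_closure hS1 hS2
  have h2 : H ≤ Subgroup.normalizer ((Subgroup.closure S : Subgroup K) : Set K) := by
    refine le_normalizer_closure H S ?_
    rintro g hg k ⟨x, hx, z, hz, hk⟩
    refine ⟨g * x * g⁻¹, ⟨H.mul_mem (H.mul_mem hg hx.1) (H.inv_mem hg), hx.2.conj g⟩,
      g * z * g⁻¹, ⟨H.mul_mem (H.mul_mem hg hz.1) (H.inv_mem hg), hz.2.conj g⟩, ?_⟩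
    rw [sp_conj]
    exact hk.conj h g
  have h3 := hMX _ h1.2 h2
  have hkS : k ∈ S := ⟨x, hx, z, hz, hk⟩
  refine ⟨h3 (Subgroup.subset_closure hkS), small_of_sp_le (hS2 k hkS) hz.2 ?_⟩
  exact hk.sp_le (nd_sp h htF hz.2.1) (fun u hu => map_mem_of_comm (hcomm x hx z hz) hu)

end Cfsg.Agent.H572.RV
end

-- part: H572/RV/Blocks
section
/-!
# Blocks: the minimal supports of small elements (helper572)
-/

set_option autoImplicit false
set_option linter.unusedSectionVars false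

namespace Cfsg.Agent.H572.RV

open Module Cfsg.Agent.H167.OP Cfsg.Agent.H170.HL Cfsg.Agent.H988.CPi Cfsg.Agent.H560.HallKey
  Cfsg.Agent.H553.OddHall

variable {F : Type*} [Field F] [Finite F] {V : Type*} [AddCommGroup V] [Module F V] [Finite V]
  [FiniteDimensional F V] {K : Type*} [Group K] [Finite K] {t : ℕ}
  {ρ : Representation F K V} {f : V →ₗ[F] V →ₗ[F] F} {Q : V → F} {U U₁ U₂ : Submodule F V}

theorem mem_of_map {g : K} (hg : U.map (ρ g) = U) {u : V} (hu : u ∈ U) : ρ g u ∈ U := by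
  rw [← hg]; exact ⟨u, hu, rfl⟩

theorem map_inv_of_map {g : K} (hg : U.map (ρ g) = U) : U.map (ρ g⁻¹) = U := by
  nth_rewrite 1 [← hg]
  ext v
  constructor
  · rintro ⟨_, ⟨u, hu, rfl⟩, rfl⟩
    rw [inv_ap]; exact hu
  · intro hv
    exact ⟨ρ g v, ⟨v, hv, rfl⟩, inv_ap ρ g v⟩

theorem IsPart.inv {x k : K} (hk : IsPart ρ f U x k) (hx : U.map (ρ x) = U) : IsPart ρ f U x⁻¹ k⁻¹ := by
  constructor
  · intro u hu
    have h1 : ρ x⁻¹ u ∈ U := mem_of_map (map_inv_of_map hx) hu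
    have h2 := hk.1 _ h1
    rw [ap_inv] at h2
    rw [← h2, inv_ap, h2]
  · intro w hw
    have h2 := hk.2 w hw
    nth_rewrite 1 [← h2]
    rw [inv_ap]

theorem Orth_map_of_map (h : IsoG ρ f Q) {g : K} (hg : U.map (ρ g) = U) :
    (Orth f U).map (ρ g) = Orth f U := by
  rw [← Orth_map h, hg]

/-- splitting off a part -/
theorem split (h : IsoG ρ f Q) (hU : ND f U) {x k : K} (hx : U.map (ρ x) = U) (hk : IsPart ρ f U x k) :
    (∀ u ∈ U, ρ (x * k⁻¹) u = u) ∧ (∀ w ∈ Orth f U, ρ (x * k⁻¹) w = ρ x w) ∧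
      sp ρ (x * k⁻¹) ≤ Orth f U ∧ sp ρ (x * k⁻¹) ≤ sp ρ x ∧ sp ρ x ≤ sp ρ k ⊔ sp ρ (x * k⁻¹) ∧
      ((∃ u ∈ U, ρ x u ≠ u) → finrank F (sp ρ (x * k⁻¹)) < finrank F (sp ρ x)) := by
  have hki := hk.inv hx
  have h1 : ∀ u ∈ U, ρ (x * k⁻¹) u = u := by
    intro u hu
    rw [mul_ap, hki.1 u hu, ap_inv]
  have h2 : ∀ w ∈ Orth f U, ρ (x * k⁻¹) w = ρ x w := by
    intro w hw
    rw [mul_ap, hki.2 w hw]
  have hO := Orth_map_of_map h hx
  have h3 : sp ρ (x * k⁻¹) ≤ Orth f U := by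
    rintro _ ⟨v, rfl⟩
    obtain ⟨u, hu, w, hw, rfl⟩ := decomp hU v
    have e : (ρ (x * k⁻¹) - 1) (u + w) = ρ x w - w := by
      show ρ (x * k⁻¹) (u + w) - (u + w) = _
      rw [map_add, h1 u hu, h2 w hw]
      abel
    rw [e]
    exact (Orth f U).sub_mem (mem_of_map hO hw) hw
  have h4 : sp ρ (x * k⁻¹) ≤ sp ρ x := by
    rintro _ ⟨v, rfl⟩
    obtain ⟨u, hu, w, hw, rfl⟩ := decomp hU v
    have e : (ρ (x * k⁻¹) - 1) (u + w) = ρ x w - w := by
      show ρ (x * k⁻¹) (u + w) - (u + w) = _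
      rw [map_add, h1 u hu, h2 w hw]
      abel
    rw [e]
    exact mem_sp w
  have h5 : sp ρ x ≤ sp ρ k ⊔ sp ρ (x * k⁻¹) := by
    rintro _ ⟨v, rfl⟩
    obtain ⟨u, hu, w, hw, rfl⟩ := decomp hU v
    have e : (ρ x - 1) (u + w) = (ρ k u - u) + (ρ (x * k⁻¹) w - w) := by
      show ρ x (u + w) - (u + w) = _
      rw [map_add, hk.1 u hu, h2 w hw]
      abel
    rw [e]
    exact Submodule.add_mem_sup (mem_sp u) (mem_sp w)
  refine ⟨h1, h2, h3, h4, h5, ?_⟩
  rintro ⟨u, hu, hne⟩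
  apply Submodule.finrank_lt_finrank_of_lt
  refine lt_of_le_of_ne h4 ?_
  intro heq
  have h6 : ρ x u - u ∈ sp ρ (x * k⁻¹) := by rw [heq]; exact mem_sp u
  have h7 := h3 h6
  have h8 : ρ x u - u ∈ U := U.sub_mem (mem_of_map hx hu) hu
  exact hne (sub_eq_zero.mp (hU _ h8 h7))

/-- blocks: the minimal supports -/
def Bl (ρ : Representation F K V) (t : ℕ) (H : Subgroup K) : Set (Submodule F V) :=
  {U | ∃ z ∈ Zs ρ t H, U = sp ρ z ∧ z ≠ 1 ∧ ∀ z' ∈ Zs ρ t H, z' ≠ 1 → sp ρ z' ≤ U → sp ρ z' = U}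

theorem Zs_conj {H : Subgroup K} {g z : K} (hg : g ∈ H) (hz : z ∈ Zs ρ t H) : g * z * g⁻¹ ∈ Zs ρ t H :=
  ⟨H.mul_mem (H.mul_mem hg hz.1) (H.inv_mem hg), hz.2.conj g⟩

theorem Bl_map {H : Subgroup K} {g : K} (hg : g ∈ H) {U : Submodule F V} (hU : U ∈ Bl ρ t H) :
    U.map (ρ g) ∈ Bl ρ t H := by
  obtain ⟨z, hz, rfl, hz1, hmin⟩ := hU
  refine ⟨g * z * g⁻¹, Zs_conj hg hz, (sp_conj g z).symm, ?_, ?_⟩
  · rw [Ne, conj_eq_one_iff]; exact hz1
  · intro z' hz' hz'1 hle
    have h1 := hmin (g⁻¹ * z' * g⁻¹⁻¹) (Zs_conj (H.inv_mem hg) hz') (by rw [Ne, conj_eq_one_iff]; exact hz'1) ?_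
    · rw [← h1, sp_conj]
      ext v
      constructor
      · intro hv
        exact ⟨ρ g⁻¹ v, ⟨v, hv, rfl⟩, ap_inv ρ g v⟩
      · rintro ⟨_, ⟨u, hu, rfl⟩, rfl⟩
        rw [ap_inv]; exact hu
    · rw [sp_conj]
      rintro _ ⟨v, hv, rfl⟩
      obtain ⟨u, hu, rfl⟩ := hle hv
      rw [inv_ap]; exact hu

/-- standing hypotheses -/
structure Std (ρ : Representation F K V) (f : V →ₗ[F] V →ₗ[F] F) (Q : V → F) (t : ℕ) (H : Subgroup K) : Prop
    extends IsoG ρ f Q where
  ht : t.Prime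
  hto : Odd t
  htF : (t : F) ≠ 0
  hH : PiN (Pi0 F) (Nat.card H)
  hMX : MX t H

variable {H : Subgroup K}

theorem Std.comm_zs (h : Std ρ f Q t H) {a b : K} (ha : a ∈ Zs ρ t H) (hb : b ∈ Zs ρ t H) : a * b = b * a :=
  h.toIsoG.toFRep.comm_small h.ht h.hto h.htF h.hH ha.2 ha.1 hb.2 hb.1

theorem Std.ndz (h : Std ρ f Q t H) {z : K} (hz : z ∈ Zs ρ t H) : ND f (sp ρ z) :=
  nd_sp h.toIsoG h.htF hz.2.1

theorem Std.exists_part (h : Std ρ f Q t H) {x z : K} (hx : x ∈ Zs ρ t H) (hz : z ∈ Zs ρ t H) :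
    ∃ k ∈ Zs ρ t H, IsPart ρ f (sp ρ z) x k := by
  obtain ⟨k, hk⟩ := h.toIsoG.exists_part (h.ndz hz) (fun u hu => map_mem_of_comm (h.comm_zs hx hz) hu)
  exact ⟨k, h.toIsoG.part_mem h.ht h.hto h.htF h.hH h.hMX hx hz hk, hk⟩

theorem Std.nd_bl (h : Std ρ f Q t H) {U : Submodule F V} (hU : U ∈ Bl ρ t H) : ND f U := by
  obtain ⟨z, hz, rfl, -⟩ := hU
  exact h.ndz hz

theorem Std.bl_ne_bot (h : Std ρ f Q t H) {U : Submodule F V} (hU : U ∈ Bl ρ t H) : U ≠ ⊥ := by
  obtain ⟨z, hz, rfl, h1, -⟩ := hU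
  rw [Ne, sp_eq_bot h.inj]
  exact h1

/-- every nontrivial support contains a block -/
theorem exists_bl {z : K} (hz : z ∈ Zs ρ t H) (hz1 : z ≠ 1) :
    ∃ U ∈ Bl ρ t H, U ≤ sp ρ z := by
  classical
  let S : Set (Submodule F V) := {U | ∃ z' ∈ Zs ρ t H, U = sp ρ z' ∧ z' ≠ 1 ∧ U ≤ sp ρ z}
  have hS : S.Nonempty := ⟨_, z, hz, rfl, hz1, le_rfl⟩
  have hfin : Finite (Submodule F V) := Finite.of_injective (fun U : Submodule F V => (U : Set V)) SetLike.coe_injective
  obtain ⟨U, ⟨z', hz', rfl, hz'1, hle⟩, hmin⟩ := (Set.toFinite S).exists_minimal hS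
  refine ⟨_, ⟨z', hz', rfl, hz'1, ?_⟩, hle⟩
  intro z'' hz'' hz''1 hle'
  exact le_antisymm hle' (hmin ⟨z'', hz'', rfl, hz''1, hle'.trans hle⟩ hle')

/-- distinct blocks are orthogonal -/
theorem Std.bl_orth (h : Std ρ f Q t H) (hU₁ : U₁ ∈ Bl ρ t H) (hU₂ : U₂ ∈ Bl ρ t H) (hne : U₁ ≠ U₂) :
    ∀ u ∈ U₁, ∀ v ∈ U₂, f u v = 0 := by
  obtain ⟨z, hz, rfl, hz1, hmin⟩ := hU₁
  obtain ⟨z', hz', rfl, hz'1, hmin'⟩ := hU₂
  obtain ⟨k, hkZ, hk⟩ := h.exists_part hz' hz
  have h1 : sp ρ k ≤ sp ρ z := hk.sp_le (h.ndz hz) (fun u hu => map_mem_of_comm (h.comm_zs hz' hz) hu)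
  have h2 : sp ρ k ≤ sp ρ z' := hk.sp_le' (h.ndz hz)
  by_cases hk1 : k = 1
  · intro u hu v hv
    apply h.toIsoG.refl
    have h3 : ρ z' u = u := by rw [← hk.1 u hu, hk1, one_ap]
    exact (mem_Orth_sp h.toIsoG).mpr h3 v hv
  · exfalso
    have h3 := hmin k hkZ hk1 h1
    rw [h3] at h2
    exact hne (hmin' z hz hz1 h2)

theorem tel_mul {a b : K} (hab : a * b = b * a) (ha : ∃ k : ℕ, a ^ t ^ k = 1) (hb : ∃ k : ℕ, b ^ t ^ k = 1) :
    ∃ k : ℕ, (a * b) ^ t ^ k = 1 := by
  obtain ⟨i, hi⟩ := ha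
  obtain ⟨j, hj⟩ := hb
  refine ⟨i + j, ?_⟩
  have hc : Commute a b := hab
  rw [hc.mul_pow, pow_add, pow_mul, hi, one_pow, one_mul, mul_comm, pow_mul, hj, one_pow]

theorem tel_inv {a : K} (ha : ∃ k : ℕ, a ^ t ^ k = 1) : ∃ k : ℕ, a⁻¹ ^ t ^ k = 1 := by
  obtain ⟨i, hi⟩ := ha
  exact ⟨i, by rw [inv_pow, hi, inv_one]⟩

/-- the supports are contained in every subspace containing all blocks -/
theorem Std.sp_le_of_bl (h : Std ρ f Q t H) {P : Submodule F V} (hP : ∀ U ∈ Bl ρ t H, U ≤ P) (n : ℕ) :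
    ∀ z ∈ Zs ρ t H, finrank F (sp ρ z) = n → sp ρ z ≤ P := by
  induction n using Nat.strong_induction_on with
  | _ n ih =>
    intro z hz hn
    by_cases hz1 : z = 1
    · rw [(sp_eq_bot h.inj).mpr hz1]; exact bot_le
    · obtain ⟨U, hU, hUz⟩ := exists_bl hz hz1
      have hU' := hU
      obtain ⟨z₀, hz₀, rfl, hz₀1, -⟩ := hU
      obtain ⟨k, hkZ, hk⟩ := h.exists_part hz hz₀
      have hzz₀ := h.comm_zs hz hz₀
      have hmap : (sp ρ z₀).map (ρ z) = sp ρ z₀ := map_sp_of_comm hzz₀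
      obtain ⟨h1, h2, h3, h4, h5, h6⟩ := split h.toIsoG (h.ndz hz₀) hmap hk
      have hzk := h.comm_zs hz hkZ
      have hz' : z * k⁻¹ ∈ Zs ρ t H := by
        refine ⟨H.mul_mem hz.1 (H.inv_mem hkZ.1), small_of_sp_le ?_ hz.2 h4⟩
        exact tel_mul (by rw [eq_inv_mul_iff_mul_eq, ← mul_assoc, ← hzk, mul_inv_cancel_right]) hz.2.1
          (tel_inv hkZ.2.1)
      have hlt : finrank F (sp ρ (z * k⁻¹)) < n := by
        rw [← hn]
        apply h6
        by_contra hcon
        push Not at hcon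
        have h7 : sp ρ z₀ ≤ Orth f (sp ρ z) := fun u hu => (mem_Orth_sp h.toIsoG).mpr (hcon u hu)
        have h8 : sp ρ z₀ = ⊥ := by
          rw [eq_bot_iff]
          intro u hu
          exact h.ndz hz u (hUz hu) (fun x hx => h7 hu x hx)
        rw [sp_eq_bot h.inj] at h8
        exact hz₀1 h8
      refine h5.trans (sup_le ?_ (ih _ hlt _ hz' rfl))
      exact (hk.sp_le (h.ndz hz₀) (fun u hu => mem_of_map hmap hu)).trans (hP _ hU')

end Cfsg.Agent.H572.RV
end

-- part: H572/RV/SylC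
section
/-!
# A Sylow subgroup which fixes all blocks is generated by small elements (helper572)
-/

set_option autoImplicit false
set_option linter.unusedSectionVars false

namespace Cfsg.Agent.H572.RV

open Module Cfsg.Agent.H167.OP Cfsg.Agent.H170.HL Cfsg.Agent.H988.CPi Cfsg.Agent.H560.HallKey
  Cfsg.Agent.H553.OddHall

variable {F : Type*} [Field F] [Finite F] {V : Type*} [AddCommGroup V] [Module F V] [Finite V]
  [FiniteDimensional F V] {K : Type*} [Group K] [Finite K] {t : ℕ}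
  {ρ : Representation F K V} {f : V →ₗ[F] V →ₗ[F] F} {Q : V → F} {U U₁ U₂ : Submodule F V}
  {H T : Subgroup K}

/-- `T` is a Sylow `t`-subgroup of `K` contained in `H` -/
structure SylT (ρ : Representation F K V) (f : V →ₗ[F] V →ₗ[F] F) (Q : V → F) (t : ℕ) (H T : Subgroup K) : Prop
    extends Std ρ f Q t H where
  hT : IsPGroup t T
  hTH : T ≤ H
  hmax : ∀ R : Subgroup K, IsPGroup t R → T ≤ R → R = T

/-- `[V, B]`, `B` generated by the small elements -/
noncomputable def WB (ρ : Representation F K V) (t : ℕ) (H : Subgroup K) : Submodule F V :=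
  CV ρ (Subgroup.closure (Zs ρ t H))

theorem Std.closure_comm (h : Std ρ f Q t H) :
    (∀ a ∈ Subgroup.closure (Zs ρ t H), ∀ b ∈ Subgroup.closure (Zs ρ t H), a * b = b * a) ∧
      IsPGroup t (Subgroup.closure (Zs ρ t H)) :=
  isPGroup_closure (fun _ ha _ hb => h.comm_zs ha hb) (fun _ ha => ha.2.1)

theorem Std.le_norm (_h : Std ρ f Q t H) :
    H ≤ Subgroup.normalizer ((Subgroup.closure (Zs ρ t H) : Subgroup K) : Set K) :=
  le_normalizer_closure H _ fun _ hg _ hx => Zs_conj hg hx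

theorem closure_le_H : Subgroup.closure (Zs ρ t H) ≤ H := by
  rw [Subgroup.closure_le]
  exact fun _ hx => hx.1

theorem CV_conj_le (D : Subgroup K) {g : K} (hg : ∀ d ∈ D, g * d * g⁻¹ ∈ D) :
    (CV ρ D).map (ρ g) ≤ CV ρ D := by
  rw [Submodule.map_le_iff_le_comap]
  refine CV_le fun d hd => ?_
  rintro _ ⟨v, rfl⟩
  show ρ g (ρ d v - v) ∈ CV ρ D
  have h1 := sub_mem_CV ρ (hg d hd) (ρ g v)
  rw [mul_ap, mul_ap, inv_ap, ← map_sub] at h1
  exact h1

theorem map_eq_of_le {g : K} (hle : U.map (ρ g) ≤ U) : U.map (ρ g) = U := by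
  apply Submodule.eq_of_le_of_finrank_eq hle
  have hinj : Function.Injective (ρ g) := by
    intro a b hab
    rw [← inv_ap ρ g a, ← inv_ap ρ g b, hab]
  exact (Submodule.equivMapOfInjective (ρ g) hinj U).finrank_eq.symm

theorem Std.WB_map (h : Std ρ f Q t H) {g : K} (hg : g ∈ H) : (WB ρ t H).map (ρ g) = WB ρ t H := by
  apply map_eq_of_le
  apply CV_conj_le
  intro d hd
  exact (Subgroup.mem_normalizer_iff.mp (h.le_norm hg) d).mp hd

/-- `[V, D]` is nondegenerate -/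
theorem nd_CV (h : IsoG ρ f Q) {D : Subgroup K} (hD : (Nat.card D : F) ≠ 0) : ND f (CV ρ D) := by
  intro w hw hx
  apply h.nd
  intro v
  have h1 : v - avg ρ D v ∈ CV ρ D := by
    apply VE_le_CV (E := ⊥) ρ hD
    refine ⟨?_, ?_⟩
    · intro e he
      rw [Subgroup.mem_bot] at he
      rw [he, one_ap]
    · rw [map_sub, avg_fixed ρ D hD (fun e he => map_avg ρ D he v), sub_self]
  have h2 := hx _ h1
  rw [map_sub, LinearMap.sub_apply, avg_adj ρ f h.iso] at h2
  have h3 : avg ρ D w = 0 := by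
    have h4 : CV ρ D ≤ LinearMap.ker (avg ρ D) := by
      refine CV_le fun d hd => ?_
      rintro _ ⟨v, rfl⟩
      rw [LinearMap.mem_ker]
      show avg ρ D (ρ d v - v) = 0
      rw [map_sub, avg_map ρ D hd, sub_self]
    exact h4 hw
  rw [h3, map_zero, sub_zero] at h2
  exact h2

theorem mem_Orth_CV (h : IsoG ρ f Q) {D : Subgroup K} {w : V} :
    w ∈ Orth f (CV ρ D) ↔ ∀ d ∈ D, ρ d w = w := by
  constructor
  · intro hw d hd
    rw [← mem_Orth_sp h]
    exact fun u hu => hw u (range_le_CV ρ hd hu)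
  · intro hw u hu
    have h1 : CV ρ D ≤ LinearMap.ker (f.flip w) := by
      refine CV_le fun d hd => ?_
      intro u hu
      rw [LinearMap.mem_ker, LinearMap.flip_apply]
      exact (mem_Orth_sp h).mpr (hw d hd) u hu
    have h2 := h1 hu
    rwa [LinearMap.mem_ker, LinearMap.flip_apply] at h2

theorem Std.nd_WB (h : Std ρ f Q t H) : ND f (WB ρ t H) := by
  apply nd_CV h.toIsoG
  exact (piN_Pi0 Nat.card_pos.ne' (piN_of_pgroup (F := F) h.ht h.hto h.htF h.closure_comm.2)).2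

/-- parts of elements of `T` on a `T`-invariant nondegenerate subspace belong to `T` -/
theorem SylT.part_mem (h : SylT ρ f Q t H T) (hU : ND f U) (hTU : ∀ x ∈ T, U.map (ρ x) = U) {x k : K}
    (hx : x ∈ T) (hk : IsPart ρ f U x k) : k ∈ T := by
  let P : Subgroup K :=
    { carrier := {k | ∃ x ∈ T, IsPart ρ f U x k}
      mul_mem' := by
        rintro a b ⟨x, hx, ha⟩ ⟨y, hy, hb⟩
        exact ⟨x * y, T.mul_mem hx hy, ha.mul hb fun u hu => mem_of_map (hTU y hy) hu⟩
      one_mem' := ⟨1, T.one_mem, IsPart.one⟩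
      inv_mem' := by
        rintro a ⟨x, hx, ha⟩
        exact ⟨x⁻¹, T.inv_mem hx, ha.inv (hTU x hx)⟩ }
  have hP : IsPGroup t P := by
    rintro ⟨k, x, hx, hk⟩
    obtain ⟨m, hm⟩ := hk.tel (t := t) h.toIsoG hU (fun u hu => mem_of_map (hTU x hx) hu) (by
      obtain ⟨m, hm⟩ := h.hT ⟨x, hx⟩
      exact ⟨m, congrArg Subtype.val hm⟩)
    exact ⟨m, Subtype.ext hm⟩
  have hn : T ≤ Subgroup.normalizer (P : Set K) := by
    have key : ∀ g ∈ T, ∀ k ∈ P, g * k * g⁻¹ ∈ P := by
      rintro g hg k ⟨x, hx, hk⟩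
      have h1 := hk.conj h.toIsoG g
      rw [hTU g hg] at h1
      exact ⟨g * x * g⁻¹, T.mul_mem (T.mul_mem hg hx) (T.inv_mem hg), h1⟩
    intro g hg
    rw [Subgroup.mem_normalizer_iff]
    intro k
    refine ⟨key g hg k, fun hk => ?_⟩
    have := key g⁻¹ (T.inv_mem hg) _ hk
    simpa [mul_assoc] using this
  have h1 : IsPGroup t (T ⊔ P : Subgroup K) := h.hT.to_sup_of_normal_right' hP hn
  have h2 := h.hmax _ h1 le_sup_left
  rw [← h2]
  exact le_sup_right (a := T) (b := P) ⟨x, hx, hk⟩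

theorem pow_of_fixed {x : K} {v : V} (h : ρ x v = v) (n : ℕ) : ρ (x ^ n) v = v := by
  induction n with
  | zero => rw [pow_zero, one_ap]
  | succ n ih => rw [pow_succ', mul_ap, ih, h]

/-- `T` acts trivially on `C_V(B)` -/
theorem SylT.fixed (h : SylT ρ f Q t H T) {x : K} (hx : x ∈ T) {w : V} (hw : w ∈ Orth f (WB ρ t H)) :
    ρ x w = w := by
  classical
  have htf : Fact t.Prime := ⟨h.ht⟩
  by_contra hne
  set W := WB ρ t H with hW
  have hWT : ∀ x ∈ T, W.map (ρ x) = W := fun x hx => h.toStd.WB_map (h.hTH hx)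
  have hWn : ND f W := h.toStd.nd_WB
  -- an element of `T` which is trivial on `W`
  obtain ⟨x', hx'T, hx'W, hx'1⟩ : ∃ x' ∈ T, (∀ u ∈ W, ρ x' u = u) ∧ x' ≠ 1 := by
    obtain ⟨k, hk⟩ := h.toIsoG.exists_part hWn (fun u hu => mem_of_map (hWT x hx) hu)
    have hkT := h.part_mem hWn hWT hx hk
    obtain ⟨h1, h2, -⟩ := split h.toIsoG hWn (hWT x hx) hk
    refine ⟨x * k⁻¹, T.mul_mem hx (T.inv_mem hkT), h1, ?_⟩
    intro h0
    have h3 := h2 w hw
    rw [h0, one_ap] at h3
    exact hne h3.symm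
  -- of order `t`
  obtain ⟨y, hyT, hyW, hyt, hy1⟩ : ∃ y ∈ T, (∀ u ∈ W, ρ y u = u) ∧ y ^ t = 1 ∧ y ≠ 1 := by
    obtain ⟨m, hm⟩ : ∃ m : ℕ, x' ^ t ^ m = 1 := by
      obtain ⟨m, hm⟩ := h.hT ⟨x', hx'T⟩
      exact ⟨m, congrArg Subtype.val hm⟩
    have hex : ∃ m : ℕ, x' ^ t ^ m = 1 := ⟨m, hm⟩
    have h1 := Nat.find_spec hex
    have h2 : Nat.find hex ≠ 0 := by
      intro h0
      rw [h0, pow_zero, pow_one] at h1
      exact hx'1 h1
    obtain ⟨n, hn⟩ := Nat.exists_eq_succ_of_ne_zero h2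
    refine ⟨x' ^ t ^ n, T.pow_mem hx'T _, fun u hu => pow_of_fixed (hx'W u hu) _, ?_, ?_⟩
    · rw [← pow_mul, ← pow_succ]
      rw [hn] at h1
      exact h1
    · have h3 := Nat.find_min hex (m := n) (by omega)
      exact h3
  -- a small element
  obtain ⟨z, hzt, hz1, hzr, hzW⟩ : ∃ z : K, z ^ t = 1 ∧ z ≠ 1 ∧ rk ρ z ≤ t - 1 ∧ ∀ u ∈ W, ρ z u = u := by
    have hyt' : (ρ y) ^ t = 1 := by rw [← map_pow, hyt, map_one]
    have hy1' : ρ y ≠ 1 := fun h0 => hy1 (h.inj (by rw [h0, map_one]))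
    obtain ⟨ε, hε, hsym⟩ := h.sym
    obtain ⟨v, hv, hvi⟩ := exists_vec f h.nd hε hsym h.hto h.htF hyt' hy1' (h.iso y)
    obtain ⟨z, U, hz1, hz2, hz3, hz4, hUy, hzU, hzO, hdec⟩ :=
      exists_small f h.toIsoG.refl h.ht.pos h.htF hyt' (h.iso y) hv hvi
    have hzQ : ∀ v, Q (z v) = Q v := by
      intro v
      obtain ⟨u, hu, w, hw, rfl⟩ := hdec v
      rw [map_add, hzU u hu, hzO w hw, h.addQ _ _ (hw _ (hUy u hu)), h.addQ _ _ (hw u hu), h.isoQ]
    obtain ⟨k, hk⟩ := h.full z hz4 hzQ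
    refine ⟨k, h.inj (by rw [map_pow, hk, hz1, map_one]), ?_, by unfold rk; rw [hk]; exact hz3, ?_⟩
    · intro h0
      rw [h0, map_one] at hk
      exact hz2 hk.symm
    · -- `supp z ≤ supp y`
      have h1 : sp ρ k ≤ sp ρ y := by
        rintro _ ⟨v, rfl⟩
        obtain ⟨u, hu, w, hw, rfl⟩ := hdec v
        have e : (ρ k - 1) (u + w) = ρ y u - u := by
          show ρ k (u + w) - (u + w) = _
          rw [hk, map_add, hzU u hu, hzO w hw]
          abel
        rw [e]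
        exact mem_sp u
      intro u hu
      rw [← mem_Orth_sp h.toIsoG]
      have h2 := (mem_Orth_sp h.toIsoG).mpr (hyW u hu)
      exact fun a ha => h2 a (h1 ha)
  -- the Sylow theorem in the group of isometries which are trivial on `W`
  let I₀ : Subgroup K :=
    { carrier := {g | ∀ u ∈ W, ρ g u = u}
      mul_mem' := fun {a b} ha hb u hu => by rw [mul_ap, hb u hu, ha u hu]
      one_mem' := fun u _ => one_ap ρ u
      inv_mem' := fun {a} ha u hu => by
        nth_rewrite 1 [← ha u hu]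
        rw [inv_ap] }
  have hT0 : IsPGroup t (T.subgroupOf I₀) :=
    h.hT.comap_of_injective I₀.subtype I₀.subtype_injective
  obtain ⟨S, hS⟩ := hT0.exists_le_sylow
  have hzI : z ∈ I₀ := hzW
  have hZ : IsPGroup t (Subgroup.zpowers (⟨z, hzI⟩ : I₀)) := by
    refine IsPGroup.of_card_dvd_pow (n := 1) ?_
    rw [Nat.card_zpowers, pow_one]
    exact orderOf_dvd_of_pow_eq_one (Subtype.ext hzt)
  obtain ⟨S', hS'⟩ := hZ.exists_le_sylow
  obtain ⟨g, hg⟩ := MulAction.exists_smul_eq I₀ S' S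
  have hgz : g * ⟨z, hzI⟩ * g⁻¹ ∈ (S : Subgroup I₀) := by
    rw [← hg]
    exact ⟨⟨z, hzI⟩, hS' (Subgroup.mem_zpowers _), rfl⟩
  -- `S ≤ T`
  have hST : (S : Subgroup I₀).map I₀.subtype ≤ T := by
    let T1 : Subgroup K :=
      { carrier := {k | k ∈ T ∧ ∀ v ∈ Orth f W, ρ k v = v}
        mul_mem' := fun {a b} ha hb => ⟨T.mul_mem ha.1 hb.1, fun u hu => by rw [mul_ap, hb.2 u hu, ha.2 u hu]⟩
        one_mem' := ⟨T.one_mem, fun u _ => one_ap ρ u⟩
        inv_mem' := fun {a} ha => ⟨T.inv_mem ha.1, fun u hu => by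
          nth_rewrite 1 [← ha.2 u hu]
          rw [inv_ap]⟩ }
    have hT1 : IsPGroup t T1 := h.hT.to_le fun k hk => hk.1
    have hS1 : IsPGroup t ((S : Subgroup I₀).map I₀.subtype) := S.isPGroup'.map _
    have hcomm : ∀ a ∈ (S : Subgroup I₀).map I₀.subtype, ∀ b ∈ T1, a * b = b * a := by
      rintro _ ⟨a, ha, rfl⟩ b hb
      have hbW : W.map (ρ b) = W := hWT b hb.1
      have ha' : ∀ u ∈ W, ρ (a : K) u = u := a.2
      apply eq_of_parts h.inj hWn
      · intro u hu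
        show ρ ((a : K) * b) u = ρ (b * (a : K)) u
        rw [mul_ap, mul_ap, ha' u hu, ha' _ (mem_of_map hbW hu)]
      · intro v hv
        show ρ ((a : K) * b) v = ρ (b * (a : K)) v
        have haW : W.map (ρ (a : K)) = W := by
          apply map_eq_of_le
          rintro _ ⟨u, hu, rfl⟩
          rw [ha' u hu]; exact hu
        rw [mul_ap, mul_ap, hb.2 v hv, hb.2 _ (mem_of_map (Orth_map_of_map h.toIsoG haW) hv)]
    have hn : (S : Subgroup I₀).map I₀.subtype ≤ Subgroup.normalizer (T1 : Set K) := by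
      intro a ha
      rw [Subgroup.mem_normalizer_iff]
      intro b
      constructor
      · intro hb
        rw [hcomm a ha b hb, mul_inv_cancel_right]
        exact hb
      · intro hb
        have h1 := hcomm a⁻¹ (Subgroup.inv_mem _ ha) _ hb
        have h2 : b = a * b * a⁻¹ := by
          have h3 : b = (a⁻¹ * (a * b * a⁻¹)) * a := by group
          have h4 : (a⁻¹ * (a * b * a⁻¹)) * a = a * b * a⁻¹ := by rw [h1]; group
          exact h3.trans h4
        rw [h2]; exact hb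
    have h1 := hS1.to_sup_of_normal_right' hT1 hn
    have h2 : T ≤ (S : Subgroup I₀).map I₀.subtype ⊔ T1 := by
      intro x hx
      obtain ⟨k, hk⟩ := h.toIsoG.exists_part hWn (fun u hu => mem_of_map (hWT x hx) hu)
      have hkT := h.part_mem hWn hWT hx hk
      obtain ⟨h1, -⟩ := split h.toIsoG hWn (hWT x hx) hk
      have hxk : x * k⁻¹ ∈ T := T.mul_mem hx (T.inv_mem hkT)
      have h3 : x = (x * k⁻¹) * k := by group
      rw [h3]
      refine Subgroup.mul_mem _ (le_sup_left (a := (S : Subgroup I₀).map I₀.subtype) (b := T1) ?_)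
        (le_sup_right (a := (S : Subgroup I₀).map I₀.subtype) (b := T1) ⟨hkT, hk.2⟩)
      exact ⟨⟨x * k⁻¹, h1⟩, hS hxk, rfl⟩
    have h3 := h.hmax _ h1 h2
    rw [← h3]
    exact le_sup_left
  set z' : K := (g : K) * z * (g : K)⁻¹ with hz'
  have hz'T : z' ∈ T := hST ⟨_, hgz, rfl⟩
  have hz's : Small ρ t z' := Small.conj ⟨⟨1, by rw [pow_one]; exact hzt⟩, hzr⟩ _
  have hz'1 : z' ≠ 1 := by rw [hz', Ne, conj_eq_one_iff]; exact hz1
  have hz'W : ∀ u ∈ W, ρ z' u = u := by
    have : z' ∈ I₀ := I₀.mul_mem (I₀.mul_mem g.2 hzI) (I₀.inv_mem g.2)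
    exact this
  have hz'Z : z' ∈ Zs ρ t H := ⟨h.hTH hz'T, hz's⟩
  have h1 : sp ρ z' ≤ W := range_le_CV ρ (Subgroup.subset_closure hz'Z)
  apply hz'1
  rw [← sp_eq_bot h.inj, eq_bot_iff]
  intro u hu
  refine (h.toStd.ndz hz'Z) u hu fun x hx => ?_
  exact (mem_Orth_sp h.toIsoG).mpr (hz'W u (h1 hu)) x hx

/-- **a Sylow subgroup which fixes all blocks is generated by small elements** -/
theorem SylT.le_closure (h : SylT ρ f Q t H T) (hfix : ∀ x ∈ T, ∀ U ∈ Bl ρ t H, U.map (ρ x) = U) :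
    T ≤ Subgroup.closure (Zs ρ t H) := by
  suffices key : ∀ n : ℕ, ∀ x ∈ T, finrank F (sp ρ x) = n → x ∈ Subgroup.closure (Zs ρ t H) from
    fun x hx => key _ x hx rfl
  intro n
  induction n using Nat.strong_induction_on with
  | _ n ih =>
    intro x hx hn
    by_cases hx1 : ∀ U ∈ Bl ρ t H, ∀ u ∈ U, ρ x u = u
    · -- `x` is trivial
      have h1 : ∀ U ∈ Bl ρ t H, U ≤ Orth f (sp ρ x) := fun U hU u hu =>
        (mem_Orth_sp h.toIsoG).mpr (hx1 U hU u hu)
      have h2 : WB ρ t H ≤ Orth f (sp ρ x) :=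
        CV_closure_le fun z hz => h.toStd.sp_le_of_bl h1 _ z hz rfl
      have h3 : x = 1 := by
        apply eq_of_parts h.inj h.toStd.nd_WB
        · intro u hu
          rw [one_ap]
          exact (mem_Orth_sp h.toIsoG).mp (h2 hu)
        · intro w hw
          rw [one_ap]
          exact h.fixed hx hw
      rw [h3]
      exact Subgroup.one_mem _
    · push Not at hx1
      obtain ⟨U, hU, u, hu, hne⟩ := hx1
      have hnd := h.toStd.nd_bl hU
      have hTU : ∀ x ∈ T, U.map (ρ x) = U := fun x hx => hfix x hx U hU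
      obtain ⟨k, hk⟩ := h.toIsoG.exists_part hnd (fun u hu => mem_of_map (hTU x hx) hu)
      have hkT := h.part_mem hnd hTU hx hk
      obtain ⟨-, -, -, -, -, h6⟩ := split h.toIsoG hnd (hTU x hx) hk
      have hlt := h6 ⟨u, hu, hne⟩
      rw [hn] at hlt
      have h7 := ih _ hlt _ (T.mul_mem hx (T.inv_mem hkT)) rfl
      have hkZ : k ∈ Zs ρ t H := by
        obtain ⟨z, hz, rfl, -⟩ := hU
        refine ⟨h.hTH hkT, small_of_sp_le ?_ hz.2 ?_⟩
        · obtain ⟨m, hm⟩ := h.hT ⟨k, hkT⟩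
          exact ⟨m, congrArg Subtype.val hm⟩
        · exact hk.sp_le hnd (fun u hu => mem_of_map (hTU x hx) hu)
      have h8 : x = (x * k⁻¹) * k := by group
      rw [h8]
      exact Subgroup.mul_mem _ h7 (Subgroup.subset_closure hkZ)

end Cfsg.Agent.H572.RV
end

-- part: H553/HallPerm
section
/-!
# No Hall `{s, t}`-subgroups in symmetric and alternating groups, `3 ≤ s < t ≤ m` (helper553)
-/

set_option autoImplicit false

namespace Cfsg.Agent.H553.HallPerm

open Subgroup Cfsg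

end Cfsg.Agent.H553.HallPerm
end

-- part: H572/RV/Perm
section
/-!
# A Sylow subgroup which moves a block: the symmetric group on a class of blocks (helper572)
-/

set_option autoImplicit false
set_option linter.unusedSectionVars false

namespace Cfsg.Agent.H572.RV

open Module Cfsg Cfsg.Agent.H167.OP Cfsg.Agent.H170.HL Cfsg.Agent.H988.CPi Cfsg.Agent.H560.HallKey
  Cfsg.Agent.H553.OddHall

/-- Hall subgroups under surjective homomorphisms -/
theorem isPiHall_map {G G' : Type*} [Group G] [Group G'] [Finite G] {π : Set ℕ} {X : Subgroup G}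
    (hX : IsPiHall π X) (φ : G →* G') (hφ : Function.Surjective φ) : IsPiHall π (X.map φ) := by
  refine ⟨?_, ?_⟩
  · intro p hp hd
    exact hX.1 p hp (hd.trans (Subgroup.card_map_dvd X φ))
  · intro p hp hpπ hd
    refine hX.2 p hp hpπ (hd.trans ?_)
    exact Subgroup.index_map_dvd X hφ

theorem isPiHall_subgroupOf {G : Type*} [Group G] [Finite G] {π : Set ℕ} {X N : Subgroup G}
    (hX : IsPiHall π X) (hXN : X ≤ N) : IsPiHall π (X.subgroupOf N) := by
  refine ⟨?_, ?_⟩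
  · intro p hp hd
    rw [Nat.card_congr (Subgroup.subgroupOfEquivOfLe hXN).toEquiv] at hd
    exact hX.1 p hp hd
  · intro p hp hpπ hd
    exact hX.2 p hp hpπ (hd.trans (Subgroup.relIndex_dvd_index_of_le hXN))

variable {F : Type*} [Field F] [Finite F] {V : Type*} [AddCommGroup V] [Module F V] [Finite V]
  [FiniteDimensional F V] {K : Type*} [Group K] [Finite K] {t : ℕ}
  {ρ : Representation F K V} {f : V →ₗ[F] V →ₗ[F] F} {Q : V → F} {U U₁ U₂ : Submodule F V}
  {H T : Subgroup K}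

theorem map_map (g h : K) (U : Submodule F V) : (U.map (ρ h)).map (ρ g) = U.map (ρ (g * h)) := by
  rw [← Submodule.map_comp]
  congr 1
  rw [map_mul]
  rfl

theorem map_one' (U : Submodule F V) : U.map (ρ 1) = U := by
  ext v
  constructor
  · rintro ⟨u, hu, rfl⟩
    rw [one_ap]; exact hu
  · intro hv
    exact ⟨v, hv, one_ap ρ v⟩

/-- the class of a block -/
def Om (ρ : Representation F K V) (t : ℕ) (H : Subgroup K) (U₀ : Submodule F V) : Set (Submodule F V) :=
  {U | U ∈ Bl ρ t H ∧ ∃ g : K, U₀.map (ρ g) = U}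

/-- the stabiliser of the class -/
def St (ρ : Representation F K V) (t : ℕ) (H : Subgroup K) (U₀ : Submodule F V) : Subgroup K where
  carrier := {g | ∀ U ∈ Om ρ t H U₀, U.map (ρ g) ∈ Om ρ t H U₀}
  mul_mem' := fun {a b} ha hb U hU => by rw [← map_map]; exact ha _ (hb _ hU)
  one_mem' := fun U hU => by rw [map_one']; exact hU
  inv_mem' := fun {a} ha => by
    have key : ∀ n : ℕ, ∀ U ∈ Om ρ t H U₀, U.map (ρ (a ^ n)) ∈ Om ρ t H U₀ := by
      intro n
      induction n with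
      | zero => intro U hU; rw [pow_zero, map_one']; exact hU
      | succ n ih => intro U hU; rw [pow_succ', ← map_map]; exact ha _ (ih U hU)
    have h1 : a⁻¹ = a ^ (orderOf a - 1) := by
      rw [inv_eq_iff_mul_eq_one, ← pow_succ']
      have := orderOf_pos a
      rw [Nat.sub_add_cancel this, pow_orderOf_eq_one]
    rw [h1]
    exact key _

theorem H_le_St {U₀ : Submodule F V} : H ≤ St ρ t H U₀ := by
  rintro g hg U ⟨hU, a, rfl⟩
  exact ⟨Bl_map hg hU, g * a, by rw [map_map]⟩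

/-- the permutation action -/
def act (ρ : Representation F K V) (t : ℕ) (H : Subgroup K) (U₀ : Submodule F V) :
    St ρ t H U₀ →* Equiv.Perm (Om ρ t H U₀) where
  toFun g :=
    { toFun := fun U => ⟨(U : Submodule F V).map (ρ g), g.2 U U.2⟩
      invFun := fun U => ⟨(U : Submodule F V).map (ρ ((g⁻¹ : St ρ t H U₀) : K)), (g⁻¹).2 U U.2⟩
      left_inv := fun U => Subtype.ext (by
        show ((U : Submodule F V).map (ρ g)).map (ρ ((g : K)⁻¹)) = U
        rw [map_map, inv_mul_cancel, map_one'])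
      right_inv := fun U => Subtype.ext (by
        show ((U : Submodule F V).map (ρ ((g : K)⁻¹))).map (ρ g) = U
        rw [map_map, mul_inv_cancel, map_one']) }
  map_one' := Equiv.ext fun U => Subtype.ext (map_one' _)
  map_mul' := fun g h => Equiv.ext fun U => Subtype.ext (map_map _ _ _).symm

theorem act_apply {U₀ : Submodule F V} (g : St ρ t H U₀) (U : Om ρ t H U₀) :
    ((act ρ t H U₀ g U : Om ρ t H U₀) : Submodule F V) = (U : Submodule F V).map (ρ g) := rfl

theorem Std.orth_of_bl (h : Std ρ f Q t H) (hU₁ : U₁ ∈ Bl ρ t H) (hU : U ∈ Bl ρ t H) (hne : U₁ ≠ U) :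
    U ≤ Orth f U₁ := fun v hv u hu => h.bl_orth hU₁ hU hne u hu v hv

/-- swaps -/
theorem Std.exists_swap (h : Std ρ f Q t H) {U₀ : Submodule F V} (A B : Om ρ t H U₀) (hne : A ≠ B) :
    ∃ g : St ρ t H U₀, ∀ U : Om ρ t H U₀, act ρ t H U₀ g U =
      if U = A then B else if U = B then A else U := by
  classical
  obtain ⟨A, hA, a, ha⟩ := A
  obtain ⟨B, hB, b, hb⟩ := B
  have hne' : A ≠ B := fun h0 => hne (Subtype.ext h0)
  -- `g A = B`
  set g := b * a⁻¹ with hg
  have hgA : A.map (ρ g) = B := by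
    rw [← ha, map_map, hg, inv_mul_cancel_right, hb]
  have hgB : B.map (ρ g⁻¹) = A := by
    rw [← hgA, map_map, inv_mul_cancel, map_one']
  have hgA' : ∀ u ∈ A, ρ g u ∈ B := fun u hu => by rw [← hgA]; exact ⟨u, hu, rfl⟩
  have hgB' : ∀ u ∈ B, ρ g⁻¹ u ∈ A := fun u hu => by rw [← hgB]; exact ⟨u, hu, rfl⟩
  obtain ⟨k, h1, h2, h3⟩ := h.toIsoG.glue3 (h.nd_bl hA) (h.nd_bl hB) (h.bl_orth hA hB hne') g g⁻¹ 1
    (fun u hu v hv => h.bl_orth hB hA hne'.symm _ (hgA' u hu) _ (hgB' v hv))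
    (fun u hu w hw => by rw [one_ap]; exact hw.2 _ (hgA' u hu))
    (fun u hu w hw => by rw [one_ap]; exact hw.1 _ (hgB' u hu))
  have kA : A.map (ρ k) = B := by
    rw [← hgA]
    ext v
    constructor
    · rintro ⟨u, hu, rfl⟩; exact ⟨u, hu, (h1 u hu).symm⟩
    · rintro ⟨u, hu, rfl⟩; exact ⟨u, hu, h1 u hu⟩
  have kB : B.map (ρ k) = A := by
    rw [← hgB]
    ext v
    constructor
    · rintro ⟨u, hu, rfl⟩; exact ⟨u, hu, (h2 u hu).symm⟩
    · rintro ⟨u, hu, rfl⟩; exact ⟨u, hu, h2 u hu⟩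
  have kU : ∀ U ∈ Bl ρ t H, U ≠ A → U ≠ B → U.map (ρ k) = U := by
    intro U hU hUA hUB
    have h4 : ∀ u ∈ U, ρ k u = u := by
      intro u hu
      rw [h3 u ⟨h.orth_of_bl hA hU hUA.symm hu, h.orth_of_bl hB hU hUB.symm hu⟩, one_ap]
    ext v
    constructor
    · rintro ⟨u, hu, rfl⟩; rw [h4 u hu]; exact hu
    · intro hv; exact ⟨v, hv, h4 v hv⟩
  have hkS : k ∈ St ρ t H U₀ := by
    intro U hU
    by_cases hUA : U = A
    · rw [hUA, kA]; exact ⟨hB, b, hb⟩
    · by_cases hUB : U = B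
      · rw [hUB, kB]; exact ⟨hA, a, ha⟩
      · rw [kU U hU.1 hUA hUB]; exact hU
  refine ⟨⟨k, hkS⟩, fun U => Subtype.ext ?_⟩
  rw [act_apply]
  by_cases hUA : U = ⟨A, hA, a, ha⟩
  · rw [if_pos hUA, hUA]
    exact kA
  · rw [if_neg hUA]
    by_cases hUB : U = ⟨B, hB, b, hb⟩
    · rw [if_pos hUB, hUB]
      exact kB
    · rw [if_neg hUB]
      refine kU U U.2.1 (fun h0 => hUA (Subtype.ext h0)) (fun h0 => hUB (Subtype.ext h0))

instance : Finite (Submodule F V) :=
  Finite.of_injective (fun U : Submodule F V => (U : Set V)) SetLike.coe_injective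

theorem Std.act_surjective (h : Std ρ f Q t H) (U₀ : Submodule F V) :
    Function.Surjective (act ρ t H U₀) := by
  classical
  rw [← MonoidHom.range_eq_top, eq_top_iff, ← Equiv.Perm.closure_isSwap, Subgroup.closure_le]
  rintro σ ⟨A, B, hne, rfl⟩
  obtain ⟨g, hg⟩ := h.exists_swap A B hne
  refine ⟨g, Equiv.ext fun U => ?_⟩
  rw [hg U, Equiv.swap_apply_def]

/-- **a Sylow subgroup which moves a block** -/
theorem SylT.perm (h : SylT ρ f Q t H T) {π : Set ℕ} (hH : IsPiHall π H) (h2 : 2 ∉ π) (htπ : t ∈ π)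
    (hmv : ∃ x ∈ T, ∃ U ∈ Bl ρ t H, U.map (ρ x) ≠ U) {s : ℕ} (hs : s.Prime) (hsπ : s ∈ π) (hst : s < t) :
    False := by
  classical
  obtain ⟨x, hx, U₀, hU₀, hne⟩ := hmv
  set Ω := Om ρ t H U₀
  have hU₀Ω : U₀ ∈ Ω := ⟨hU₀, 1, map_one' U₀⟩
  have hxS : x ∈ St ρ t H U₀ := H_le_St (h.hTH hx)
  -- `t ≤ |Ω|`
  have ht : t ≤ Nat.card Ω := by
    have h1 : act ρ t H U₀ ⟨x, hxS⟩ ≠ 1 := by
      intro h0
      have h1 := congrArg (fun σ : Equiv.Perm Ω => ((σ ⟨U₀, hU₀Ω⟩ : Ω) : Submodule F V)) h0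
      exact hne h1
    obtain ⟨m, hm⟩ := h.hT ⟨x, hx⟩
    have hm' : x ^ t ^ m = 1 := congrArg Subtype.val hm
    have h2 : (act ρ t H U₀ ⟨x, hxS⟩) ^ t ^ m = 1 := by
      rw [← map_pow]
      have : (⟨x, hxS⟩ : St ρ t H U₀) ^ t ^ m = 1 := Subtype.ext hm'
      rw [this, map_one]
    have h3 : orderOf (act ρ t H U₀ ⟨x, hxS⟩) ∣ t ^ m := orderOf_dvd_of_pow_eq_one h2
    obtain ⟨j, -, hj⟩ := (Nat.dvd_prime_pow h.ht).mp h3
    have hj0 : j ≠ 0 := by
      rintro rfl
      rw [pow_zero, orderOf_eq_one_iff] at hj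
      exact h1 hj
    have h4 : t ∣ Nat.card (Equiv.Perm Ω) := by
      have h5 := dvd_pow_self t hj0
      rw [← hj] at h5
      exact h5.trans (orderOf_dvd_natCard _)
    have : Fintype Ω := Fintype.ofFinite _
    rw [Nat.card_eq_fintype_card, Fintype.card_perm, h.ht.dvd_factorial] at h4
    rwa [Nat.card_eq_fintype_card]
  have h1 := isPiHall_map (isPiHall_subgroupOf hH (H_le_St (ρ := ρ) (t := t) (U₀ := U₀)))
    (act ρ t H U₀) (h.toStd.act_surjective U₀)
  have e : Equiv.Perm Ω ≃* Equiv.Perm (Fin (Nat.card Ω)) := (Finite.equivFin Ω).permCongrHom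
  have h3 := isPiHall_map h1 e.toMonoidHom e.surjective
  have h5 := (Cfsg.Agent.S2536.result (Nat.card Ω) π ⟨s, t, hs, h.ht, hst.ne, hsπ, htπ, by omega, ht⟩
    ⟨2, Nat.prime_two, by have := hs.two_le; omega, h2⟩).mp ⟨_, h3⟩
  have h6 := hs.two_le
  rcases h5 with ⟨_, h⟩ | ⟨_, h⟩
  · exact h2 ((h 2 Nat.prime_two (by omega)).mpr (by omega))
  · exact h2 ((h 2 Nat.prime_two (by omega)).mpr (Or.inl rfl))

end Cfsg.Agent.H572.RV
end

-- part: H572/RV/Asm
section
/-!
# `FHall` for full isometry groups, `2 ∉ π`, `char F ∉ π` (helper572)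
-/

set_option autoImplicit false
set_option linter.unusedSectionVars false

namespace Cfsg.Agent.H572.RV

open Module Cfsg Cfsg.Agent.H167.OP Cfsg.Agent.H170.HL Cfsg.Agent.H988.CPi Cfsg.Agent.H560.HallKey
  Cfsg.Agent.H553.OddHall Cfsg.Agent.H571.RV

theorem card_sup {G : Type*} [Group G] {Y A : Subgroup G} (h : Y ≤ Subgroup.normalizer (A : Set G)) :
    Nat.card (Y ⊔ A : Subgroup G) = Nat.card A * A.relIndex Y := by
  set M := Y ⊔ A with hM
  have hYM : A ≤ M := le_sup_right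
  have hn : (A.subgroupOf M).Normal :=
    (Subgroup.normal_subgroupOf_iff_le_normalizer hYM).mpr (sup_le h Subgroup.le_normalizer)
  have h1 : Y.subgroupOf M ⊔ A.subgroupOf M = ⊤ := by
    rw [← Subgroup.subgroupOf_sup le_sup_left hYM]
    exact Subgroup.subgroupOf_self _
  have h2 := Subgroup.relIndex_sup_right (Y.subgroupOf M) (A.subgroupOf M)
  rw [h1, Subgroup.relIndex_top_right] at h2
  have h3 : Nat.card M = Nat.card A * (A.subgroupOf M).index := by
    rw [← Nat.card_congr (Subgroup.subgroupOfEquivOfLe hYM).toEquiv, Subgroup.card_mul_index]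
  rw [h3, h2, Subgroup.relIndex_subgroupOf le_sup_left]

theorem mx_of_hall {K : Type*} [Group K] [Finite K] {π : Set ℕ} {H : Subgroup K} (hH : IsPiHall π H)
    {t : ℕ} (ht : t.Prime) (htπ : t ∈ π) : MX t H := by
  have htf := Fact.mk ht
  intro R hR hn
  have h1 := card_sup hn
  have h2 : PiN π (Nat.card (H ⊔ R : Subgroup K)) := by
    rw [h1]
    refine PiN.mul ?_ ?_
    · obtain ⟨n, hn⟩ := IsPGroup.iff_card.mp hR
      intro r hr hd
      rw [hn] at hd
      rw [(Nat.prime_dvd_prime_iff_eq hr ht).mp (hr.dvd_of_dvd_pow hd)]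
      exact htπ
    · exact PiN.of_dvd hH.1 (Subgroup.relIndex_dvd_card _ _)
  have h3 : H.relIndex (H ⊔ R) = 1 := by
    by_contra hne
    obtain ⟨p, hp, hd⟩ := Nat.exists_prime_and_dvd hne
    have hpπ := h2 p hp (hd.trans (Subgroup.relIndex_dvd_card _ _))
    exact hH.2 p hp hpπ (hd.trans (Subgroup.relIndex_dvd_index_of_le le_sup_left))
  exact le_sup_right.trans (Subgroup.relIndex_eq_one.mp h3)

variable {F : Type*} [Field F] [Finite F] {V : Type*} [AddCommGroup V] [Module F V] [Finite V]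
  [FiniteDimensional F V] {K : Type*} [Group K] [Finite K]
  {ρ : Representation F K V} {f : V →ₗ[F] V →ₗ[F] F} {Q : V → F}

theorem odd_of {π : Set ℕ} (h2 : 2 ∉ π) {t : ℕ} (ht : t.Prime) (htπ : t ∈ π) : Odd t := by
  rcases ht.eq_two_or_odd' with h | h
  · exact absurd (h ▸ htπ) h2
  · exact h

theorem IsoG.std (h : IsoG ρ f Q) {π : Set ℕ} (h2 : 2 ∉ π) (hp : ∀ r ∈ π, r.Prime → (r : F) ≠ 0)
    {H : Subgroup K} (hH : IsPiHall π H) {t : ℕ} (ht : t.Prime) (htπ : t ∈ π) : Std ρ f Q t H where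
  toIsoG := h
  ht := ht
  hto := odd_of h2 ht htπ
  htF := hp t htπ ht
  hH := fun r hr hd => ⟨odd_of h2 hr (hH.1 r hr hd), hp r (hH.1 r hr hd) hr⟩
  hMX := mx_of_hall hH ht htπ

/-- **`FHall` for the full isometry group** -/
theorem IsoG.fhall (h : IsoG ρ f Q) {π : Set ℕ} (h2 : 2 ∉ π) (hp : ∀ r ∈ π, r.Prime → (r : F) ≠ 0)
    {H : Subgroup K} (hH : IsPiHall π H) :
    ∃ r : ℕ, r.Prime ∧ ∃ A : Subgroup K, A ≤ H ∧ H ≤ Subgroup.normalizer (A : Set K) ∧
    (∀ a ∈ A, ∀ b ∈ A, a * b = b * a) ∧ ¬ r ∣ Nat.card A ∧ ∀ p : ℕ, p.Prime → p ∣ A.relIndex H → p = r := by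
  classical
  -- the exceptional primes
  let Ex : ℕ → Prop := fun t => t.Prime ∧ t ∈ π ∧ ∃ T : Subgroup K, SylT ρ f Q t H T ∧
    ∃ x ∈ T, ∃ U ∈ Bl ρ t H, U.map (ρ x) ≠ U
  have hEx : ∀ s t : ℕ, Ex s → Ex t → s < t → False := by
    rintro s t ⟨hs, hsπ, -⟩ ⟨ht, htπ, T, hT, hmv⟩ hst
    exact hT.perm hH h2 htπ hmv hs hsπ hst
  have hEx' : ∀ s t : ℕ, Ex s → Ex t → s = t := by
    intro s t hs ht
    rcases lt_trichotomy s t with h1 | h1 | h1
    · exact (hEx s t hs ht h1).elim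
    · exact h1
    · exact (hEx t s ht hs h1).elim
  obtain ⟨r, hr, hrEx⟩ : ∃ r : ℕ, r.Prime ∧ ∀ t, Ex t → t = r := by
    by_cases hex : ∃ r, Ex r
    · obtain ⟨r, hr⟩ := hex
      exact ⟨r, hr.1, fun t ht => hEx' t r ht hr⟩
    · exact ⟨2, Nat.prime_two, fun t ht => absurd ⟨t, ht⟩ hex⟩
  -- Sylow subgroups for the other primes
  have hSyl : ∀ t : ℕ, t.Prime → t ∈ π → t ≠ r → ¬ t ∣ (Subgroup.closure (Zs ρ t H)).index := by
    intro t ht htπ htr hd
    have htf := Fact.mk ht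
    obtain ⟨T, S, hS⟩ := exists_sylow_map (t := t) htπ hH
    have hT : SylT ρ f Q t H (S : Subgroup K) :=
      { toStd := h.std h2 hp hH ht htπ
        hT := S.isPGroup'
        hTH := by rw [hS]; exact Subgroup.map_subtype_le _
        hmax := fun R hR hle => S.is_maximal' hR hle }
    have hfix : ∀ x ∈ (S : Subgroup K), ∀ U ∈ Bl ρ t H, U.map (ρ x) = U := by
      by_contra hcon
      push Not at hcon
      exact htr (hrEx t ⟨ht, htπ, _, hT, hcon⟩)
    exact S.not_dvd_index (hd.trans (Subgroup.index_dvd_of_le (hT.le_closure hfix)))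
  let SA : Set K := {z | ∃ t : ℕ, t.Prime ∧ t ∈ π ∧ t ≠ r ∧ z ∈ Zs ρ t H}
  have hcomm : ∀ a ∈ SA, ∀ b ∈ SA, a * b = b * a := by
    rintro a ⟨t, ht, htπ, -, ha⟩ b ⟨s, hs, hsπ, -, hb⟩
    have htf := Fact.mk ht
    have hsf := Fact.mk hs
    have ht' := h.std h2 hp hH ht htπ
    have hs' := h.std h2 hp hH hs hsπ
    by_cases hst : t = s
    · subst hst
      exact ht'.comm_zs ha hb
    · set A := Subgroup.closure (Zs ρ t H) with hA
      set B := Subgroup.closure (Zs ρ s H) with hB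
      have haA : a ∈ A := Subgroup.subset_closure ha
      have hbB : b ∈ B := Subgroup.subset_closure hb
      have hAn := ht'.le_norm
      have hBn := hs'.le_norm
      have h1 : a * b * a⁻¹ * b⁻¹ ∈ B :=
        B.mul_mem ((Subgroup.mem_normalizer_iff.mp (hBn ha.1) b).mp hbB) (B.inv_mem hbB)
      have h3 : a * b * a⁻¹ * b⁻¹ ∈ A := by
        have h4 := (Subgroup.mem_normalizer_iff.mp (hAn hb.1) a⁻¹).mp (A.inv_mem haA)
        have h5 := A.mul_mem haA h4
        convert h5 using 1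
        group
      have h4 : Disjoint A B := IsPGroup.disjoint_of_ne t s hst A B ht'.closure_comm.2 hs'.closure_comm.2
      have h5 : a * b * a⁻¹ * b⁻¹ = 1 := by
        have : a * b * a⁻¹ * b⁻¹ ∈ A ⊓ B := ⟨h3, h1⟩
        rwa [h4.eq_bot, Subgroup.mem_bot] at this
      calc a * b = (a * b * a⁻¹ * b⁻¹) * (b * a) := by group
        _ = b * a := by rw [h5, one_mul]
  have hAcomm : ∀ a ∈ Subgroup.closure SA, ∀ b ∈ Subgroup.closure SA, a * b = b * a := by
    have h1 : Subgroup.closure SA ≤ Subgroup.centralizer SA := by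
      rw [Subgroup.closure_le]
      intro a ha
      rw [SetLike.mem_coe, Subgroup.mem_centralizer_iff]
      exact fun b hb => hcomm b hb a ha
    have h2 : Subgroup.closure SA ≤ Subgroup.centralizer (Subgroup.closure SA : Set K) := by
      rw [Subgroup.closure_le]
      intro a ha
      rw [SetLike.mem_coe, Subgroup.mem_centralizer_iff]
      intro b hb
      exact (Subgroup.mem_centralizer_iff.mp (h1 hb) a ha).symm
    exact fun a ha b hb => (Subgroup.mem_centralizer_iff.mp (h2 ha) b hb).symm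
  have hAr : ∀ a ∈ Subgroup.closure SA, ∃ n : ℕ, ¬ r ∣ n ∧ a ^ n = 1 := by
    intro a ha
    induction ha using Subgroup.closure_induction with
    | mem x hx =>
      obtain ⟨t, ht, htπ, htr, hx⟩ := hx
      obtain ⟨k, hk⟩ := hx.2.1
      refine ⟨t ^ k, ?_, hk⟩
      intro hd
      exact htr ((Nat.prime_dvd_prime_iff_eq hr ht).mp (hr.dvd_of_dvd_pow hd)).symm
    | one => exact ⟨1, hr.one_lt.ne' ∘ Nat.dvd_one.mp, one_pow 1⟩
    | mul a b ha hb iha ihb =>
      obtain ⟨n, hn, hn'⟩ := iha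
      obtain ⟨m, hm, hm'⟩ := ihb
      refine ⟨n * m, ?_, ?_⟩
      · rw [hr.dvd_mul]
        exact fun h0 => h0.elim hn hm
      · have hc : Commute a b := hAcomm a ha b hb
        rw [hc.mul_pow, pow_mul, hn', one_pow, one_mul, mul_comm, pow_mul, hm', one_pow]
    | inv a _ ih =>
      obtain ⟨n, hn, hn'⟩ := ih
      exact ⟨n, hn, by rw [inv_pow, hn', inv_one]⟩
  refine ⟨r, hr, Subgroup.closure SA, ?_, ?_, hAcomm, ?_, ?_⟩
  · rw [Subgroup.closure_le]
    rintro a ⟨t, -, -, -, ha⟩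
    exact ha.1
  · refine le_normalizer_closure H SA ?_
    rintro g hg a ⟨t, ht, htπ, htr, ha⟩
    exact ⟨t, ht, htπ, htr, Zs_conj hg ha⟩
  · intro hd
    have hrf := Fact.mk hr
    obtain ⟨a, ha⟩ := exists_prime_orderOf_dvd_card' (G := Subgroup.closure SA) r hd
    obtain ⟨n, hn, hn'⟩ := hAr a a.2
    apply hn
    rw [← ha, ← Subgroup.orderOf_coe]
    exact orderOf_dvd_of_pow_eq_one hn'
  · intro p hpp hd
    by_contra hpr
    have hpπ : p ∈ π := hH.1 p hpp (hd.trans (Subgroup.relIndex_dvd_card _ _))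
    apply hSyl p hpp hpπ hpr
    have h1 : Subgroup.closure (Zs ρ p H) ≤ Subgroup.closure SA :=
      Subgroup.closure_mono fun z hz => ⟨p, hpp, hpπ, hpr, hz⟩
    have h3 : Subgroup.closure SA ≤ H := by
      rw [Subgroup.closure_le]
      rintro a ⟨t, -, -, -, ha⟩
      exact ha.1
    exact (hd.trans (Subgroup.relIndex_dvd_index_of_le h3)).trans (Subgroup.index_dvd_of_le h1)

end Cfsg.Agent.H572.RV
end

-- part: H572/RV/Rows
section
/-!
# R2 for `PSp` and `POmega`: `2, p ∉ π` and a Hall `π`-subgroup give `FHall π S` (helper572)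
-/

set_option autoImplicit false
set_option linter.unusedSectionVars false

namespace Cfsg.Agent.H572.RV

open Module Cfsg Cfsg.Agent.H167.OP Cfsg.Agent.H170.HL Cfsg.Agent.H988.CPi Cfsg.Agent.H560.HallKey
  Cfsg.Agent.H553.OddHall Cfsg.Agent.H571.RV Cfsg.Agent.H571.DExt Matrix

universe u

section abs

variable {π : Set ℕ}

/-- the data in `FHall` for a given Hall subgroup -/
def FData {G : Type*} [Group G] (H : Subgroup G) : Prop :=
  ∃ r : ℕ, r.Prime ∧ ∃ A : Subgroup G, A ≤ H ∧ H ≤ Subgroup.normalizer (A : Set G) ∧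
    (∀ a ∈ A, ∀ b ∈ A, a * b = b * a) ∧ ¬ r ∣ Nat.card A ∧ ∀ p : ℕ, p.Prime → p ∣ A.relIndex H → p = r

theorem FData.fhall {G : Type*} [Group G] {H : Subgroup G} (h : FData H) (hH : IsPiHall π H) : FHall π G := by
  obtain ⟨r, hr, A, h1, h2, h3, h4, h5⟩ := h
  exact ⟨r, hr, H, A, hH, h1, h2, h3, h4, h5⟩

theorem fhall_map {G G' : Type*} [Group G] [Group G'] [Finite G] (φ : G →* G') (hφ : Function.Surjective φ)
    (h : FHall π G) : FHall π G' := by
  obtain ⟨r, hr, H, A, hH, h1, h2, h3, h4, h5⟩ := h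
  refine ⟨r, hr, H.map φ, A.map φ, isPiHall_map hH φ hφ, Subgroup.map_mono h1, ?_, ?_, ?_, ?_⟩
  · exact (Subgroup.map_mono h2).trans (Subgroup.le_normalizer_map φ)
  · rintro _ ⟨a, ha, rfl⟩ _ ⟨b, hb, rfl⟩
    rw [← map_mul, ← map_mul, h3 a ha b hb]
  · exact fun hd => h4 (hd.trans (Subgroup.card_map_dvd A φ))
  · intro p hp hd
    apply h5 p hp
    refine hd.trans ?_
    have h6 : (A.map φ).relIndex (H.map φ) = (A ⊔ φ.ker).relIndex H := by
      rw [← Subgroup.relIndex_comap, Subgroup.comap_map_eq]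
    rw [h6]
    exact Subgroup.relIndex_dvd_of_le_left H le_sup_left

/-- from an overgroup of `π'`-index -/
theorem fdata_subgroup {G : Type*} [Group G] [Finite G] {N : Subgroup G} {H : Subgroup N}
    (h : FData (H.map N.subtype)) : FData H := by
  obtain ⟨r, hr, A, h1, h2, h3, h4, h5⟩ := h
  have hAN : A ≤ N := h1.trans (Subgroup.map_subtype_le _)
  have hmap : (A.subgroupOf N).map N.subtype = A := Subgroup.map_subgroupOf_eq_of_le hAN
  refine ⟨r, hr, A.subgroupOf N, ?_, ?_, ?_, ?_, ?_⟩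
  · intro a ha
    obtain ⟨b, hb, hab⟩ := h1 ha
    rwa [← Subtype.ext hab]
  · intro g hg
    rw [Subgroup.mem_normalizer_iff]
    intro a
    have := Subgroup.mem_normalizer_iff.mp (h2 ⟨g, hg, rfl⟩) (a : G)
    exact this
  · intro a ha b hb
    exact Subtype.ext (h3 _ ha _ hb)
  · intro hd
    apply h4
    rwa [Nat.card_congr (Subgroup.subgroupOfEquivOfLe hAN).toEquiv] at hd
  · intro p hp hd
    apply h5 p hp
    have h6 : A.relIndex (H.map N.subtype) = (A.subgroupOf N).relIndex H := by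
      rw [← Subgroup.relIndex_comap]
      rfl
    rwa [h6]

theorem isPiHall_up {G : Type*} [Group G] [Finite G] {N : Subgroup G} {H : Subgroup N} (hH : IsPiHall π H)
    (hN : PiN' π N.index) : IsPiHall π (H.map N.subtype) := by
  refine ⟨?_, ?_⟩
  · intro p hp hd
    rw [Subgroup.card_map_of_injective N.subtype_injective] at hd
    exact hH.1 p hp hd
  · intro p hp hpπ hd
    have h3 : (H.map N.subtype).index = H.index * N.index := by
      have := Subgroup.index_map H N.subtype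
      rwa [N.ker_subtype, sup_bot_eq, N.range_subtype] at this
    rw [h3, hp.dvd_mul] at hd
    exact hd.elim (hH.2 p hp hpπ) (hN p hp hpπ)

/-- a Hall subgroup of a quotient by a central subgroup lifts -/
theorem exists_hall_lift {G G' : Type*} [Group G] [Group G'] [Finite G] [Finite G'] (φ : G →* G')
    (hφ : Function.Surjective φ) (hker : ∀ k, φ k = 1 → ∀ x, k * x = x * k) (h2 : 2 ∉ π)
    (h : IsEPiGroup π G') : ∃ H : Subgroup G, IsPiHall π H := by
  obtain ⟨H, hH⟩ := h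
  set M := H.comap φ with hM
  have hsol : Group.IsSolvable M := by
    have hHs : Group.IsSolvable H := solvable_of_pi h2 hH.1
    let ψ : M →* H := (φ.comp M.subtype).codRestrict H (fun x => x.2)
    have h1 : Group.IsSolvable ψ.ker := by
      have : ∀ a b : ψ.ker, a * b = b * a := by
        intro a b
        have h3 : φ ((a : M) : G) = 1 := congrArg Subtype.val (MonoidHom.mem_ker.mp a.2)
        exact Subtype.ext (Subtype.ext (hker _ h3 _))
      exact Group.isSolvable_of_comm this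
    exact Group.isSolvable_of_ker_le_range (G' := ψ.ker) ψ.ker.subtype ψ (by rw [Subgroup.range_subtype])
  obtain ⟨Y, hY⟩ := exists_isPiHall hsol π
  refine ⟨_, isPiHall_up hY ?_⟩
  intro p hp hpπ hd
  rw [hM, Subgroup.index_comap_of_surjective H hφ] at hd
  exact hH.2 p hp hpπ hd

end abs

variable {π : Set ℕ}

theorem cast_ne {F : Type*} [Field F] {p : ℕ} [CharP F p] (hp : p.Prime) (hpπ : p ∉ π) :
    ∀ r ∈ π, r.Prime → (r : F) ≠ 0 := by
  intro r hr hrp h
  rw [CharP.cast_eq_zero_iff F p, Nat.prime_dvd_prime_iff_eq hp hrp] at h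
  exact hpπ (h ▸ hr)

/-- the symplectic group is a full isometry group -/
theorem isoG_sp {F : Type*} [Field F] [Finite F] (m : ℕ) :
    IsoG (K := symplecticGroup (Fin m) F) (rep (SpRow.inc m F)) (SpRow.frm m F) (fun _ => 0) where
  inj := rep_injective SpRow.inc_injective
  iso := SpRow.frm_iso
  nd := SpRow.frm_nondeg
  isoQ := fun _ _ => rfl
  sym := ⟨-1, by ring, SpRow.frm_sym⟩
  addQ := fun _ _ _ => (add_zero _).symm
  full := fun A hA _ => SpRow.exists_of_iso A hA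

/-- **R2 for `PSp`** -/
theorem fhall_psp {S : Type u} [Group S] [Finite S] {p : ℕ} (hS : IsPSpChar p S) (h2 : 2 ∉ π) (hpπ : p ∉ π)
    (h : IsEPiGroup π S) : FHall π S := by
  obtain ⟨F, _, _, hchar, m, hm, hm2, ⟨e⟩⟩ := hS
  have hp : p.Prime := CharP.char_is_prime F p
  have : Finite (symplecticGroup (Fin m) F) := inferInstance
  let φ : symplecticGroup (Fin m) F →* S :=
    (e.symm : Cfsg.PSp m F →* S).comp
      (QuotientGroup.mk' (Subgroup.center (symplecticGroup (Fin m) F)))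
  have hφ : Function.Surjective φ :=
    e.symm.surjective.comp (QuotientGroup.mk'_surjective _)
  have hφ1 : ∀ k, φ k = 1 → ∀ x, k * x = x * k := by
    intro k h
    have h1 : (QuotientGroup.mk' (Subgroup.center (symplecticGroup (Fin m) F))) k = 1 :=
      e.symm.injective (h.trans (map_one e.symm).symm)
    rw [QuotientGroup.mk'_apply, QuotientGroup.eq_one_iff] at h1
    exact fun x => (Subgroup.mem_center_iff.mp h1 x).symm
  obtain ⟨H, hH⟩ := exists_hall_lift φ hφ hφ1 h2 h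
  have h1 : FData H := (isoG_sp m).fhall h2 (cast_ne hp hpπ) hH
  exact fhall_map φ hφ (h1.fhall hH)

/-- the isometry group of a quadratic form is a full isometry group -/
theorem isoG_om {F : Type*} [Field F] [Finite F] {ι : Type} [Fintype ι] [DecidableEq ι]
    {Q : QuadraticForm F (ι → F)} (hQ : OmRow.GoodQ Q) :
    IsoG (K := Cfsg.isometryGroup F (⇑Q)) (rep (OmRow.inc' (⇑Q))) (QuadraticMap.polarBilin Q) (⇑Q) where
  inj := rep_injective OmRow.inc'_injective
  iso := OmRow.polar_apply Q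
  nd := OmRow.polar_nondeg Q hQ.nd
  isoQ := OmRow.iso_apply
  sym := ⟨1, by ring, OmRow.polar_sym Q⟩
  addQ := fun x y h => by
    rw [QuadraticMap.polarBilin_apply_apply, QuadraticMap.polar] at h
    linear_combination h
  full := fun A hA hAQ => by
    have hinj : Function.Injective A := by
      rw [← LinearMap.ker_eq_bot, LinearMap.ker_eq_bot']
      intro v hv
      apply OmRow.polar_nondeg Q hQ.nd
      intro w
      rw [← hA, hv, map_zero]
    let e : (ι → F) ≃ₗ[F] (ι → F) := LinearEquiv.ofInjectiveEndo A hinj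
    have he : ∀ v, e v = A v := fun v => rfl
    refine OmRow.exists_of_iso (⇑Q) A (e.symm : (ι → F) →ₗ[F] (ι → F)) ?_ ?_ hAQ
    · apply LinearMap.ext
      intro v
      exact e.apply_symm_apply v
    · apply LinearMap.ext
      intro v
      exact e.symm_apply_apply v

theorem index_omega {F : Type*} [Field F] [Finite F] {ι : Type} [Fintype ι] [DecidableEq ι]
    {Q : QuadraticForm F (ι → F)} (hQ : OmRow.GoodQ Q) (h2 : 2 ∉ π) : PiN' π (Cfsg.Omega F (⇑Q)).index := by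
  have : Finite (Cfsg.isometryGroup F (⇑Q)) := inferInstance
  intro p hp hpπ hd
  have hpf := Fact.mk hp
  have hn : (Cfsg.Omega F (⇑Q)).Normal := inferInstanceAs ((commutator (Cfsg.isometryGroup F (⇑Q))).Normal)
  rw [Subgroup.index_eq_card] at hd
  obtain ⟨x, hx⟩ := exists_prime_orderOf_dvd_card' (G := Cfsg.isometryGroup F (⇑Q) ⧸ Cfsg.Omega F (⇑Q)) p hd
  obtain ⟨g, rfl⟩ := QuotientGroup.mk'_surjective _ x
  have h1 : (QuotientGroup.mk' (Cfsg.Omega F (⇑Q)) g) ^ 2 = 1 := by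
    rw [← map_pow, QuotientGroup.mk'_apply, QuotientGroup.eq_one_iff, pow_two]
    exact hQ.sq g
  have h3 := orderOf_dvd_of_pow_eq_one h1
  rw [hx, Nat.prime_dvd_prime_iff_eq hp Nat.prime_two] at h3
  exact h2 (h3 ▸ hpπ)

/-- a form version -/
theorem fhall_omega {S : Type u} [Group S] [Finite S] {p : ℕ} {F : Type*} [Field F] [Finite F] [CharP F p]
    {ι : Type} [Fintype ι] [DecidableEq ι] {Q : QuadraticForm F (ι → F)} (hQ : OmRow.GoodQ Q)
    {Q' : (ι → F) → F} (hQQ : ⇑Q = Q') (e : S ≃* Cfsg.POmega F Q') (h2 : 2 ∉ π) (hpπ : p ∉ π)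
    (h : IsEPiGroup π S) : FHall π S := by
  subst hQQ
  have hp : p.Prime := CharP.char_is_prime F p
  have : Finite (Cfsg.isometryGroup F (⇑Q)) := inferInstance
  let φ : Cfsg.Omega F (⇑Q) →* S :=
    (e.symm : Cfsg.POmega F (⇑Q) →* S).comp
      (QuotientGroup.mk' (Subgroup.center (Cfsg.Omega F (⇑Q))))
  have hφ : Function.Surjective φ :=
    e.symm.surjective.comp (QuotientGroup.mk'_surjective _)
  have hφ1 : ∀ k, φ k = 1 → ∀ x, k * x = x * k := by
    intro k h
    have h1 : (QuotientGroup.mk' (Subgroup.center (Cfsg.Omega F (⇑Q)))) k = 1 :=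
      e.symm.injective (h.trans (map_one e.symm).symm)
    rw [QuotientGroup.mk'_apply, QuotientGroup.eq_one_iff] at h1
    exact fun x => (Subgroup.mem_center_iff.mp h1 x).symm
  obtain ⟨H, hH⟩ := exists_hall_lift φ hφ hφ1 h2 h
  have hH' := isPiHall_up hH (index_omega hQ h2)
  have h1 : FData H := fdata_subgroup ((isoG_om hQ).fhall h2 (cast_ne hp hpπ) hH')
  exact fhall_map φ hφ (h1.fhall hH)

/-- **R2 for `POmega`, odd dimension** -/
theorem fhall_pomegaOdd {S : Type u} [Group S] [Finite S] {p : ℕ} (hS : IsPOmegaOddChar p S) (h2 : 2 ∉ π)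
    (hpπ : p ∉ π) (h : IsEPiGroup π S) : FHall π S := by
  obtain ⟨F, _, _, hchar, m, hm, hodd, ⟨e⟩⟩ := hS
  have h2' : (2 : F) ≠ 0 := by
    intro h
    have h1 : ((2 : ℕ) : F) = 0 := by exact_mod_cast h
    have hp : p.Prime := CharP.char_is_prime F p
    rw [CharP.cast_eq_zero_iff F p, Nat.prime_dvd_prime_iff_eq hp Nat.prime_two] at h1
    subst h1
    obtain ⟨n, hn⟩ := FiniteField.card F 2
    rw [hn.2] at hodd
    have : Even (2 ^ (n : ℕ)) := (Nat.even_pow.mpr ⟨even_two, n.ne_zero⟩)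
    exact (Nat.not_even_iff_odd.mpr hodd) this
  exact fhall_omega (OmRow.goodQ_odd (by omega) h2') (Cfsg.Agent.LieClassical.OrthForms.coe_oddForm m F) e h2 hpπ h

/-- **R2 for `POmega`, plus type** -/
theorem fhall_pomegaPlus {S : Type u} [Group S] [Finite S] {p : ℕ} (hS : IsPOmegaPlusChar p S) (h2 : 2 ∉ π)
    (hpπ : p ∉ π) (h : IsEPiGroup π S) : FHall π S := by
  obtain ⟨F, _, _, hchar, m, hm, ⟨e⟩⟩ := hS
  exact fhall_omega (OmRow.goodQ_plus (by omega)) (Cfsg.Agent.LieClassical.OrthForms.coe_plusForm m F) e h2 hpπ h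

/-- **R2 for `POmega`, minus type** -/
theorem fhall_pomegaMinus {S : Type u} [Group S] [Finite S] {p : ℕ} (hS : IsPOmegaMinusChar p S) (h2 : 2 ∉ π)
    (hpπ : p ∉ π) (h : IsEPiGroup π S) : FHall π S := by
  obtain ⟨F, _, _, hchar, m, a, b, hm, hab, ⟨e⟩⟩ := hS
  exact fhall_omega (OmRow.goodQ_minus (by omega) a b hab)
    (Cfsg.Agent.LieClassical.OrthForms.coe_minusForm (m - 1) F a b) e h2 hpπ h

end Cfsg.Agent.H572.RV
end

private theorem dce_ff5d6871d940 : _root_.True := by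
  try have : _root_.True := by simp only [_root_.Cfsg.Agent.H572.RV.sp.eq_1]
  exact _root_.True.intro
end

-- part: H207/RV/Ext
section
prune_inst 0x1210004403d2200000000000230002024240005b000230001d1400440080753610005a74076701e000318aab1400f8060034400594018000020008a0040000020842b62e2837cbd04350087c0f887180c00000000000000000000000000041004000000000
set_option linter.all false
open scoped Cfsg.Agent.FastGrp

/-!
# TEAM RV, pieces A4 and A5: `D_π` for direct products and for extensions by a minimal normal subgroup (helper207)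

* `dom_pi` : a finite direct product of `D_π`-groups;
* `dom_factor` : the simple factors of a minimal normal subgroup;
* `dom_ext_min` : `N` non-abelian minimal normal, `Dom π N`, `Dom π (G ⧸ N)`, `RowE π T` for the simple factors `T` of `N`:
  `Dom π G`;
* `dom_ext_solv` : `N` a `p`-group.
-/

set_option autoImplicit false

namespace Cfsg.Agent.H207.RV

open Subgroup Cfsg Cfsg.Agent.H988.CPi Cfsg.Agent.H571.DExt Cfsg.Agent.H571.RV
open Cfsg.Agent.H553.ExtRed Cfsg.Agent.Lib.MinNormal Cfsg.Agent.Lib.MinNormalNonabelian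
open scoped Pointwise

universe u

variable {π : Set ℕ}

/-! ### Products -/

/-- A finite direct product of `D_π`-groups. -/
theorem dom_pi {ι : Type*} [Fintype ι] (T : ι → Type*) [∀ i, Group (T i)] [∀ i, Finite (T i)]
    (h : ∀ i, Dom π (T i)) : Dom π (∀ i, T i) := by
  classical
  choose L hL hdom using h
  refine ⟨Subgroup.pi Set.univ L, ⟨?_, ?_⟩, ?_⟩
  · have h1 : Nat.card (Subgroup.pi Set.univ L) = ∏ i, Nat.card (L i) := by
      have e : (Subgroup.pi Set.univ L) ≃ (∀ i, L i) :=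
        { toFun := fun x i => ⟨x.1 i, x.2 i (Set.mem_univ i)⟩
          invFun := fun y => ⟨fun i => y i, fun i _ => (y i).2⟩
          left_inv := fun x => rfl
          right_inv := fun y => rfl }
      rw [Nat.card_congr e, Nat.card_pi]
    intro p hp hd
    rw [h1] at hd
    exact piN_prod Finset.univ _ (fun i _ => (hL i).1) p hp hd
  · have h1 : (Subgroup.pi Set.univ L).index = ∏ i, (L i).index := by
      have h2 := Subgroup.card_mul_index (Subgroup.pi Set.univ L)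
      have h3 : Nat.card (Subgroup.pi Set.univ L) = ∏ i, Nat.card (L i) := by
        have e : (Subgroup.pi Set.univ L) ≃ (∀ i, L i) :=
          { toFun := fun x i => ⟨x.1 i, x.2 i (Set.mem_univ i)⟩
            invFun := fun y => ⟨fun i => y i, fun i _ => (y i).2⟩
            left_inv := fun x => rfl
            right_inv := fun y => rfl }
        rw [Nat.card_congr e, Nat.card_pi]
      have h4 : Nat.card (∀ i, T i) = (∏ i, Nat.card (L i)) * ∏ i, (L i).index := by
        rw [Nat.card_pi, ← Finset.prod_mul_distrib]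
        exact Finset.prod_congr rfl fun i _ => (Subgroup.card_mul_index (L i)).symm
      rw [h3, h4] at h2
      exact Nat.eq_of_mul_eq_mul_left (Finset.prod_pos fun i _ => Nat.card_pos) h2
    intro p hp hpi hd
    rw [h1] at hd
    exact piN'_prod Finset.univ _ (fun i _ => (hL i).2) p hp hpi hd
  · intro K hK
    have h1 : ∀ i, ∃ g : T i, K.map (Pi.evalMonoidHom T i) ≤ MulAut.conj g • L i := fun i =>
      hdom i _ (PiN.of_dvd hK (card_map_dvd _ _))
    choose g hg using h1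
    refine ⟨g, fun x hx => ?_⟩
    rw [mem_pointwise_smul_iff_inv_smul_mem]
    intro i _
    have h2 : x i ∈ MulAut.conj (g i) • L i := hg i ⟨x, hx, rfl⟩
    rw [mem_pointwise_smul_iff_inv_smul_mem] at h2
    exact h2

/-- `Dom` under isomorphisms. -/
theorem dom_of_equiv {G H : Type*} [Group G] [Group H] [Finite G] (e : G ≃* H) (h : Dom π G) : Dom π H := by
  obtain ⟨L, hL, hdom⟩ := h
  have : Finite H := Finite.of_equiv G e.toEquiv
  refine ⟨L.map e.toMonoidHom, ⟨?_, ?_⟩, ?_⟩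
  · have h1 : PiN π (Nat.card (L.map e.toMonoidHom)) := PiN.of_dvd hL.1 (card_map_dvd _ _)
    exact h1
  · have h1 : PiN' π (L.map e.toMonoidHom).index := PiN'.of_dvd hL.2 (index_map_dvd _ e.surjective)
    exact h1
  · intro K hK
    obtain ⟨g, hg⟩ := hdom (K.map e.symm.toMonoidHom) (PiN.of_dvd hK (card_map_dvd _ _))
    refine ⟨e g, fun x hx => ?_⟩
    have h1 : e.symm x ∈ MulAut.conj g • L := hg ⟨x, hx, rfl⟩
    rw [mem_pointwise_smul_iff_inv_smul_mem] at h1 ⊢
    refine ⟨_, h1, ?_⟩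
    simp [MulAut.smul_def, ← map_inv]

theorem card_mul_relIndex' {G : Type*} [Group G] {H K : Subgroup G} (h : H ≤ K) :
    Nat.card H * H.relIndex K = Nat.card K := by
  have h1 := Subgroup.card_mul_index (H.subgroupOf K)
  rwa [Nat.card_congr (subgroupOfEquivOfLe h).toEquiv] at h1

/-! ### The factors of a non-abelian minimal normal subgroup -/

/-- the product of `T` with its centralizer -/
def mulCent {G : Type*} [Group G] (T : Subgroup G) : Subgroup G where
  carrier := {x | ∃ t ∈ T, ∃ c : G, (∀ s ∈ T, Commute c s) ∧ x = t * c}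
  mul_mem' := by
    rintro _ _ ⟨t, ht, c, hc, rfl⟩ ⟨t', ht', c', hc', rfl⟩
    refine ⟨t * t', T.mul_mem ht ht', c * c', fun s hs => (hc s hs).mul_left (hc' s hs), ?_⟩
    have h1 : c * t' = t' * c := (hc t' ht').eq
    calc t * c * (t' * c') = t * (c * t') * c' := by group
      _ = t * (t' * c) * c' := by rw [h1]
      _ = t * t' * (c * c') := by group
  one_mem' := ⟨1, T.one_mem, 1, fun s _ => Commute.one_left s, by simp⟩
  inv_mem' := by
    rintro _ ⟨t, ht, c, hc, rfl⟩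
    refine ⟨t⁻¹, T.inv_mem ht, c⁻¹, fun s hs => (hc s hs).inv_left, ?_⟩
    rw [mul_inv_rev]
    exact ((hc t ht).inv_inv).eq

section Min

variable {G : Type u} [Group G] [Finite G]

/-- the elements of `N` are products of an element of the factor `T` and an element centralising `T` -/
theorem exists_split (N : Subgroup G) [N.Normal]
    (hmin : ∀ M : Subgroup G, M.Normal → M ≤ N → M = ⊥ ∨ M = N)
    (hna : ¬ ∀ x ∈ N, ∀ y ∈ N, Commute x y) {T : Subgroup G} (hT : T ∈ minSet N) {x : G} (hx : x ∈ N) :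
    ∃ t ∈ T, ∃ c : G, (∀ s ∈ T, Commute c s) ∧ x = t * c := by
  obtain ⟨s1, s2, s3, s4, s5, s6⟩ := nonabelian_structure N hmin hna
  have hle : N ≤ mulCent T := by
    rw [← s3]
    refine sSup_le fun S hS => ?_
    by_cases h : S = T
    · rw [h]
      exact fun y hy => ⟨y, hy, 1, fun s _ => Commute.one_left s, by simp⟩
    · intro y hy
      refine ⟨1, T.one_mem, y, fun t ht => ?_, by simp⟩
      exact commute_of_mem s2 (fun U hU => hU.2.2.1) (fun U hU => hU.1) hS hT h hy ht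
  exact hle hx

theorem dom_factor (N : Subgroup G) [N.Normal]
    (hmin : ∀ M : Subgroup G, M.Normal → M ≤ N → M = ⊥ ∨ M = N)
    (hna : ¬ ∀ x ∈ N, ∀ y ∈ N, Commute x y) (hN : Dom π N) {T : Subgroup G} (hT : T ∈ minSet N) : Dom π T := by
  have hTN : T ≤ N := hT.1
  have hTn : N ≤ normalizer (T : Set G) := hT.2.2.1
  obtain ⟨L, hL, hdom⟩ := hN
  -- the Hall subgroup of `T`
  set L' : Subgroup G := L.map N.subtype with hL'
  have hcL' : Nat.card L' = Nat.card L := card_map_of_injective N.subtype_injective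
  have hnorm : (T.subgroupOf N).Normal := (normal_subgroupOf_iff_le_normalizer hTN).mpr hTn
  have hidx : PiN' π (L'.relIndex T) := by
    have h1 : (L.relIndex (T.subgroupOf N)) = L'.relIndex T := by
      have h2 : L'.subgroupOf N = L := comap_map_eq_self_of_injective N.subtype_injective L
      rw [← h2, relIndex_subgroupOf hTN]
    rw [← h1]
    exact (isPiHall_subgroupOf hL (T.subgroupOf N)).2
  refine ⟨L'.subgroupOf T, ⟨?_, hidx⟩, ?_⟩
  · have h1 : PiN π (Nat.card (L'.subgroupOf T)) := by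
      refine PiN.of_dvd (π := π) (show PiN π (Nat.card L) from hL.1) ?_
      rw [← hcL']
      exact card_comap_dvd_of_injective L' T.subtype T.subtype_injective
    exact h1
  · intro K hK
    obtain ⟨g, hg⟩ := hdom (K.map (inclusion hTN)) (PiN.of_dvd hK (card_map_dvd _ _))
    obtain ⟨t, ht, c, hc, hgc⟩ := exists_split N hmin hna hT g.2
    refine ⟨⟨t, ht⟩, fun x hx => ?_⟩
    have h1 : (inclusion hTN x) ∈ MulAut.conj g • L := hg ⟨x, hx, rfl⟩
    rw [mem_pointwise_smul_iff_inv_smul_mem] at h1 ⊢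
    have h2 : (((MulAut.conj g)⁻¹ • (inclusion hTN x) : N) : G) = (g : G)⁻¹ * x * g := by
      simp [MulAut.smul_def, ← map_inv]
    have h3 : (((MulAut.conj (⟨t, ht⟩ : T))⁻¹ • x : T) : G) = t⁻¹ * x * t := by
      simp [MulAut.smul_def, ← map_inv]
    rw [mem_subgroupOf, h3]
    refine ⟨_, h1, ?_⟩
    show (((MulAut.conj g)⁻¹ • (inclusion hTN x) : N) : G) = _
    rw [h2, hgc]
    have h4 : t⁻¹ * x * t ∈ T := T.mul_mem (T.mul_mem (T.inv_mem ht) x.2) ht
    have h5 := (hc _ h4).eq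
    calc (t * c)⁻¹ * (x : G) * (t * c) = c⁻¹ * ((t⁻¹ * x * t) * c) := by group
      _ = c⁻¹ * (c * (t⁻¹ * x * t)) := by rw [h5]
      _ = t⁻¹ * x * t := by group

/-- the automorphism group of `T` induced by a `π`-group `P` stabilises a Hall `π`-subgroup of `T` -/
theorem exists_stable (P T : Subgroup G) (hP : PiN π (Nat.card P)) (hT : Dom π T) (hrow : RowE π T) :
    ∃ H : Subgroup G, H ≤ T ∧ PiN π (Nat.card H) ∧ PiN' π (H.relIndex T) ∧
      ∀ p ∈ P, MulAut.conj p • T = T → MulAut.conj p • H = H := by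
  obtain ⟨H, hH, hst⟩ := hrow hT (((P.subgroupOf (normalizer (T : Set G))).map T.normalizerMonoidHom))
    (PiN.of_dvd (PiN.of_dvd hP (card_comap_dvd_of_injective P _ (subtype_injective _))) (card_map_dvd _ _))
  refine ⟨H.map T.subtype, map_subtype_le H, ?_, ?_, ?_⟩
  · rw [card_map_of_injective T.subtype_injective]; exact hH.1
  · have h2 : (H.map T.subtype).subgroupOf T = H := comap_map_eq_self_of_injective T.subtype_injective H
    show PiN' π ((H.map T.subtype).subgroupOf T).index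
    rw [h2]; exact hH.2
  · intro p hp hpT
    have hpn : p ∈ normalizer (T : Set G) := by
      rw [← conj_eq] at hpT
      exact mem_normalizer_iff_map_conj_eq.mpr hpT
    have h3 : T.normalizerMonoidHom ⟨p, hpn⟩ ∈ stab H := hst ⟨⟨p, hpn⟩, hp, rfl⟩
    rw [mem_stab] at h3
    rw [← conj_eq]
    conv_rhs => rw [← h3]
    rw [map_map, map_map]
    congr 1

/-- **A5**, non-abelian case. -/
theorem dom_ext_min (N : Subgroup G) [N.Normal] (hmin : ∀ M : Subgroup G, M.Normal → M ≤ N → M = ⊥ ∨ M = N)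
    (hna : ¬ ∀ x ∈ N, ∀ y ∈ N, Commute x y) (hN : Dom π N) (hQ : Dom π (G ⧸ N))
    (hrow : ∀ T ∈ minSet N, RowE π T) : Dom π G := by
  classical
  refine dom_of_maximal (cpi_extension N hN.cpi hQ.cpi) fun P hP => hall_of_inter N hN.cpi hQ hP ?_
  obtain ⟨s1, s2, s3, s4, s5, s6⟩ := nonabelian_structure N hmin hna
  have hfin : Finite (minSet N) := Set.toFinite _
  let _ : Fintype (minSet N) := Fintype.ofFinite _
  have hcomm : ∀ S T : minSet N, S ≠ T → ∀ x ∈ S.1, ∀ y ∈ T.1, Commute x y := by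
    intro S T hST x hx y hy
    exact commute_of_mem s2 (fun U hU => hU.2.2.1) (fun U hU => hU.1) S.2 T.2
      (fun h => hST (Subtype.ext h)) hx hy
  have hind : iSupIndep (fun T : minSet N => T.1) := (sSupIndep_iff _).mp s2
  have hsup : ⨆ T : minSet N, T.1 = N := (sSup_eq_iSup' _).symm.trans s3
  -- the action of `P` on the factors
  let actΩ : MulAction P (minSet N) :=
    { smul := fun p T => ⟨MulAut.conj (p : G) • T.1, by rw [← conj_eq]; exact map_conj_mem_minSet T.2 _⟩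
      one_smul := fun T => by
        apply Subtype.ext
        show MulAut.conj ((1 : P) : G) • T.1 = T.1
        simp
      mul_smul := fun p q T => by
        apply Subtype.ext
        show MulAut.conj ((p * q : P) : G) • T.1 = MulAut.conj (p : G) • MulAut.conj (q : G) • T.1
        rw [Subgroup.coe_mul, map_mul, mul_smul] }
  let actB : MulAction P (Subgroup G) := MulAction.compHom (Subgroup G) ((MulAut.conj : G →* MulAut G).comp P.subtype)
  have hsΩ : ∀ (p : P) (T : minSet N), ((p • T : minSet N) : Subgroup G) = MulAut.conj (p : G) • T.1 := fun _ _ => rfl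
  have hsB : ∀ (p : P) (H : Subgroup G), p • H = MulAut.conj (p : G) • H := fun _ _ => rfl
  obtain ⟨f, hf1, hf2⟩ := exists_equivariant (P := P) (Ω := minSet N) (B := Subgroup G)
    (fun T H => H ≤ T.1 ∧ PiN π (Nat.card H) ∧ PiN' π (H.relIndex T.1)) (by
      rintro p T H ⟨h1, h2, h3⟩
      rw [hsΩ, hsB]
      refine ⟨smul_mono_right _ h1, ?_, ?_⟩
      · rw [Cfsg.Agent.Solvable.SZ.card_conj_smul]; exact h2
      · rw [relIndex_pointwise_smul]; exact h3) (by
      intro T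
      obtain ⟨H, h1, h2, h3, h4⟩ := exists_stable P T.1 hP.1 (dom_factor N hmin hna hN T.2) (hrow T.1 T.2)
      refine ⟨H, ⟨h1, h2, h3⟩, fun p hp => ?_⟩
      exact h4 p p.2 (congrArg Subtype.val hp))
  set H : Subgroup G := ⨆ T : minSet N, f T with hH
  have hHN : H ≤ N := (iSup_mono fun T => (hf1 T).1).trans hsup.le
  have hcH : Pairwise fun i j => ∀ x y : G, x ∈ f i → y ∈ f j → Commute x y := fun i j hij x y hx hy =>
    hcomm i j hij x ((hf1 i).1 hx) y ((hf1 j).1 hy)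
  have hcT : Pairwise fun i j : minSet N => ∀ x y : G, x ∈ i.1 → y ∈ j.1 → Commute x y := fun i j hij x y hx hy =>
    hcomm i j hij x hx y hy
  have hcardH : Nat.card H = ∏ T : minSet N, Nat.card (f T) := card_iSup hcH (hind.mono fun T => (hf1 T).1)
  have hcardN : Nat.card N = ∏ T : minSet N, Nat.card T.1 := by
    have e0 : Nat.card N = Nat.card ↥(⨆ T : minSet N, T.1) := by rw [hsup]
    rw [e0, card_iSup hcT hind]
  have hHπ : PiN π (Nat.card H) := by
    rw [hcardH]; exact piN_prod Finset.univ _ fun T _ => (hf1 T).2.1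
  have hrel : H.relIndex N = ∏ T : minSet N, (f T).relIndex T.1 := by
    have h1 := card_mul_relIndex' hHN
    rw [hcardN, hcardH] at h1
    have h2 : ∏ T : minSet N, Nat.card T.1 = (∏ T : minSet N, Nat.card (f T)) * ∏ T : minSet N, (f T).relIndex T.1 := by
      rw [← Finset.prod_mul_distrib]
      exact Finset.prod_congr rfl fun T _ => (card_mul_relIndex' (hf1 T).1).symm
    rw [h2] at h1
    exact Nat.eq_of_mul_eq_mul_left (Finset.prod_pos fun T _ => Nat.card_pos) h1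
  have hHn : P ≤ normalizer (H : Set G) := by
    intro p hp
    rw [mem_normalizer_iff_map_conj_eq]
    show H.map (MulAut.conj p).toMonoidHom = H
    rw [hH, Subgroup.map_iSup]
    have h1 : ∀ T : minSet N, (f T).map (MulAut.conj p).toMonoidHom = f ((⟨p, hp⟩ : P) • T) := fun T => by
      rw [conj_eq, hf2 ⟨p, hp⟩ T]
      rfl
    rw [iSup_congr h1]
    exact (MulAction.toPerm (⟨p, hp⟩ : P)).iSup_comp (g := f)
  have hHP : H ≤ P := le_of_maximal hP hHn hHπ
  refine PiN'.of_dvd (π := π) (m := (P ⊓ N).relIndex N) (n := H.relIndex N) ?_ (relIndex_dvd_of_le_left N (le_inf hHP hHN))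
  rw [hrel]
  exact piN'_prod Finset.univ _ fun T _ => (hf1 T).2.2

/-! ### Normal `π`-subgroups and normal `π'`-subgroups -/

theorem cpi_of_pi' {N : Type*} [Group N] [Finite N] (h : PiN' π (Nat.card N)) : IsCPiGroup π N := by
  have key : ∀ H : Subgroup N, IsPiHall π H → H = ⊥ := by
    intro H hH
    rw [← Subgroup.card_eq_one]
    exact eq_one_of_both (π := π) hH.1 (PiN'.of_dvd h (card_subgroup_dvd_card H))
  refine ⟨⟨⊥, ?_, ?_⟩, fun H K hH hK => ⟨1, ?_⟩⟩
  · intro p hp hd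
    rw [Subgroup.card_bot] at hd
    exact absurd (Nat.dvd_one.mp hd) hp.one_lt.ne'
  · intro p hp hpi hd
    rw [Subgroup.index_bot] at hd
    exact h p hp hpi hd
  · rw [key H hH, key K hK, Subgroup.map_bot]

/-- extensions of normal `π'`-subgroups -/
theorem dom_ext_pi' (N : Subgroup G) [N.Normal] (h : PiN' π (Nat.card N)) (hQ : Dom π (G ⧸ N)) : Dom π G := by
  have hC : IsCPiGroup π N := cpi_of_pi' h
  refine dom_of_maximal (cpi_extension N hC hQ.cpi) fun P hP => hall_of_inter N hC hQ hP ?_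
  exact PiN'.of_dvd h (index_dvd_card _)

/-- extensions of normal `π`-subgroups -/
theorem dom_ext_piN (N : Subgroup G) [N.Normal] (h : PiN π (Nat.card N)) (hQ : Dom π (G ⧸ N)) : Dom π G := by
  have hC : IsCPiGroup π N := PiGrp.cpi (S := N) h
  refine dom_of_maximal (cpi_extension N hC hQ.cpi) fun P hP => ?_
  obtain ⟨h1, h2⟩ := maximal_map_mk N h hP
  have h3 := hQ.maximal_hall h2
  refine ⟨hP.1, ?_⟩
  have h4 : (P.map (QuotientGroup.mk' N)).index = P.index :=
    index_map_eq _ (QuotientGroup.mk'_surjective N) (by rw [QuotientGroup.ker_mk']; exact h1)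
  rw [← h4]
  exact h3.2

/-- **A5**, abelian case: `N` a normal `p`-subgroup. -/
theorem dom_ext_pgroup (N : Subgroup G) [N.Normal] {p : ℕ} (hp : p.Prime) (h : IsPGroup p N) (hQ : Dom π (G ⧸ N)) :
    Dom π G := by
  have : Fact p.Prime := ⟨hp⟩
  obtain ⟨k, hk⟩ := IsPGroup.iff_card.mp h
  by_cases hpi : p ∈ π
  · refine dom_ext_piN N ?_ hQ
    intro q hq hd
    rw [hk] at hd
    rwa [(Nat.prime_dvd_prime_iff_eq hq hp).mp (hq.dvd_of_dvd_pow hd)]
  · refine dom_ext_pi' N ?_ hQ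
    intro q hq hqi hd
    rw [hk] at hd
    rw [(Nat.prime_dvd_prime_iff_eq hq hp).mp (hq.dvd_of_dvd_pow hd)] at hqi
    exact hpi hqi

/-- **A4 + A5**: `N` minimal normal, the simple factors satisfy `Dom` and `RowE`. -/
theorem dom_ext_minimal (N : Subgroup G) [N.Normal] (hne : N ≠ ⊥)
    (hmin : ∀ M : Subgroup G, M.Normal → M ≤ N → M = ⊥ ∨ M = N)
    (hN : Dom π N) (hQ : Dom π (G ⧸ N))
    (hrow : ∀ T : Subgroup G, IsSimpleGroup T → (∃ a b : T, a * b ≠ b * a) → RowE π T) : Dom π G := by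
  by_cases hab : ∀ x ∈ N, ∀ y ∈ N, Commute x y
  · obtain ⟨p, hp, hpN, -⟩ := abelian_structure N hne hmin hab
    exact dom_ext_pgroup N hp hpN hQ
  · refine dom_ext_min N hmin hab hN hQ fun T hT => ?_
    obtain ⟨s1, s2, s3, s4, s5, s6⟩ := nonabelian_structure N hmin hab
    refine hrow T (s4 T hT) ?_
    by_contra hcon
    push Not at hcon
    apply hT.2.1
    rw [eq_bot_iff]
    intro z hz
    exact s5 T hT z hz fun t ht => congrArg Subtype.val (hcon ⟨z, hz⟩ ⟨t, ht⟩)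

/-- **A4** for a minimal normal subgroup. -/
theorem dom_min_of_factors (N : Subgroup G) [N.Normal] (hne : N ≠ ⊥)
    (hmin : ∀ M : Subgroup G, M.Normal → M ≤ N → M = ⊥ ∨ M = N)
    (h : ∀ T : Subgroup G, IsSimpleGroup T → (∃ a b : T, a * b ≠ b * a) → T ∈ minSet N → Dom π T) : Dom π N := by
  classical
  by_cases hab : ∀ x ∈ N, ∀ y ∈ N, Commute x y
  · obtain ⟨p, hp, hpN, -⟩ := abelian_structure N hne hmin hab
    have h1 : IsPGroup p (⊤ : Subgroup N) := hpN.of_injective (⊤ : Subgroup N).subtype (subtype_injective _)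
    have hQ : Dom π (N ⧸ (⊤ : Subgroup N)) := by
      have hs : Subsingleton (N ⧸ (⊤ : Subgroup N)) := QuotientGroup.subsingleton_quotient_top
      have h2 : Nat.card (N ⧸ (⊤ : Subgroup N)) = 1 := Nat.card_unique
      refine ⟨⊤, ⟨?_, ?_⟩, fun K _ => ⟨1, by simp⟩⟩
      · intro p hp hd
        rw [Subgroup.card_top, h2] at hd
        exact absurd (Nat.dvd_one.mp hd) hp.one_lt.ne'
      · intro p hp _ hd
        rw [Subgroup.index_top] at hd
        exact absurd (Nat.dvd_one.mp hd) hp.one_lt.ne'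
    exact dom_ext_pgroup (⊤ : Subgroup N) hp h1 hQ
  · obtain ⟨s1, s2, s3, s4, s5, s6⟩ := nonabelian_structure N hmin hab
    have hfin : Finite (minSet N) := Set.toFinite _
    let _ : Fintype (minSet N) := Fintype.ofFinite _
    have hcomm : Pairwise fun i j : minSet N => ∀ x y : G, x ∈ i.1 → y ∈ j.1 → Commute x y := by
      intro S T hST x y hx hy
      exact commute_of_mem s2 (fun U hU => hU.2.2.1) (fun U hU => hU.1) S.2 T.2
        (fun h => hST (Subtype.ext h)) hx hy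
    obtain ⟨e⟩ := mulEquiv_pi_of_iSupIndep (K := N) (fun T : minSet N => T.1) hcomm ((sSupIndep_iff _).mp s2)
      ((sSup_eq_iSup' _).symm.trans s3)
    refine dom_of_equiv e.symm (dom_pi (fun T : minSet N => T.1) fun T => ?_)
    refine h T.1 (s4 T.1 T.2) ?_ T.2
    by_contra hcon
    push Not at hcon
    apply T.2.2.1
    rw [eq_bot_iff]
    intro z hz
    exact s5 T.1 T.2 z hz fun t ht => congrArg Subtype.val (hcon ⟨z, hz⟩ ⟨t, ht⟩)

end Min

end Cfsg.Agent.H207.RV
end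
end
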