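import Cfsg.Agent.H167.RV.Hall_m3
import Cfsg.Agent.H556.HallSURow_m3
import Cfsg.Agent.H42.Tw.SzRee
import Cfsg.Agent.H778.ExcMain
import Cfsg.Agent.H971.RV.Lie_m3
import Cfsg.Agent.Lib.CoprimeHyperplane
import Cfsg.Agent.H553.GoodAsm_m3
import Mathlib
import Cfsg.Agent.H464.RM.Tools_m3
import Cfsg.Agent.H14.RowReeJOne_m3
import Cfsg.Agent.H553.OddHall_m3
import Cfsg.Agent.S1158
import Cfsg.Agent.S1159
import Cfsg.Agent.H507.SzCase
import Cfsg.Agent.H331.SCExc
import Cfsg.Agent.S1163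
import Cfsg.Agent.S0144
import Cfsg.Agent.OddOrderLocal.HallPi
import Cfsg.Agent.Lib.PSolvable
import Cfsg.Agent.PLocal.ThompsonJ
import Cfsg.Agent.S0618
import Cfsg.Agent.S0602
import Cfsg.Agent.FastGrp
import Cfsg.Agent.Prune
set_option linter.all false

section
prune_inst 0x7ffcfefaaff8addfffff7e7ffefddffe39d0dfffafdffb43ffe4e3ff1f9f03081be5fb8f1de058ff0ed6e09630b87813f97ecabfed6bdc7ffffd5ff41ffbee0ff5f7350851d498340ff00fff83f0778e7f3fffffffffffffffffffffffffffbeffffffffffff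

-- part: H167/RV/Good
section
set_option linter.all false
open scoped Cfsg.Agent.FastGrp

/-!
# TEAM RV: the good primes (helper167)

`Good P G` : for the primes with `P` the `t`-subgroups are abelian and no `t`-element acts nontrivially on an `s`-subgroup.
* `good_of_emb` : the primes not dividing `r |W|`;
* `fhall_generic` : `FHall` if all primes of `π` but one are good.
-/

set_option autoImplicit false
set_option linter.unusedSectionVars false

namespace Cfsg.Agent.H167.RV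

open Subgroup Cfsg Cfsg.Lie Cfsg.Lie.ChevalleyDatum Cfsg.Agent.H988.CPi Cfsg.Agent.H571.RV Cfsg.Agent.H553.OddHall
open CoxeterSystem
open Cfsg.Agent.ChevalleyStructure Cfsg.Agent.ChevalleyStructure.Elts Cfsg.Agent.ChevalleyStructure.CoxeterGeom
  Cfsg.Agent.ChevalleyStructure.CoxeterGeomTypes Cfsg.Agent.ChevalleyStructure.NPerm
open Cfsg.Agent.Tits.Roots Cfsg.Agent.Tits.Core Cfsg.Agent.Nodes Cfsg.Agent.Nodes.Reps Cfsg.Agent.Nodes.BNOf
  Cfsg.Agent.Nodes.RGDChev Cfsg.Agent.Nodes.Bruhat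
open Cfsg.Agent.KFacts.RgdField Cfsg.Agent.KFacts.RgdChevCoord Cfsg.Agent.BpExc.TorCent Cfsg.Agent.BpExc.TorChev
open Cfsg.Agent.GpExc.Field Cfsg.Agent.BpExc.Tow Cfsg.Agent.BpExc.TowChev Cfsg.Agent.BpExc.Fr
  Cfsg.Agent.BpExc.LangFr Cfsg.Agent.H795.SetCent Cfsg.Agent.H795.SetTor Cfsg.Agent.H565.NM

universe u v

/-- good primes -/
structure Good (P : ℕ → Prop) (G : Type*) [Group G] : Prop where
  noMin : ∀ s t : ℕ, s.Prime → t.Prime → P s → P t → s ≠ t → NoMin s t G
  abel : ∀ t : ℕ, t.Prime → P t → ∀ Q : Subgroup G, IsPGroup t Q → ∀ a ∈ Q, ∀ b ∈ Q, a * b = b * a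

theorem Good.of_injective {P : ℕ → Prop} {G H : Type*} [Group G] [Group H] (f : G →* H)
    (hf : Function.Injective f) (h : Good P H) : Good P G where
  noMin s t hs ht h1 h2 hst := (h.noMin s t hs ht h1 h2 hst).of_injective f hf
  abel t ht h1 Q hQ a ha b hb := by
    apply hf
    rw [map_mul, map_mul]
    exact h.abel t ht h1 (Q.map f) (hQ.map f) _ ⟨a, ha, rfl⟩ _ ⟨b, hb, rfl⟩

theorem Good.of_equiv {P : ℕ → Prop} {G H : Type*} [Group G] [Group H] (e : G ≃* H) (h : Good P H) : Good P G :=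
  h.of_injective e.toMonoidHom e.injective

theorem Good.mono {P P' : ℕ → Prop} {G : Type*} [Group G] (hP : ∀ t, t.Prime → P' t → P t) (h : Good P G) :
    Good P' G where
  noMin s t hs ht h1 h2 hst := h.noMin s t hs ht (hP s hs h1) (hP t ht h2) hst
  abel t ht h1 := h.abel t ht (hP t ht h1)

section Emb

variable {D : ChevalleyDatum} {l : ℕ} {M : CoxeterMatrix (Fin l)} (hp : IsType D l M)
  (r : ℕ) [Fact r.Prime] {k : Type u} [Field k] [CharP k r] [IsAlgClosed k]

include hp in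
theorem good_of_emb (hk : LocFin k) {G : Type v} [Group G] [Finite G] {f : G →* ↥(D.group k)}
    (hf : Function.Injective f) : Good (fun t => t ≠ r ∧ ¬ t ∣ Nat.card M.Group) G where
  noMin s t _ _ h1 h2 _ := noMin_of_not_dvd hp r hk hf h1.1 h1.2 h2.2
  abel t ht h1 Q hQ a ha b hb := by
    obtain ⟨g, hg⟩ := exists_g_of_not_dvd hp r hk f ht h1.1 h1.2 hQ
    have h2 := TT_comm hp _ (hg a ha) _ (hg b hb)
    apply hf
    rw [map_mul, map_mul]
    have e1 : g * (f a * f b) * g⁻¹ = g * (f b * f a) * g⁻¹ := by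
      calc g * (f a * f b) * g⁻¹ = (g * f a * g⁻¹) * (g * f b * g⁻¹) := by group
        _ = (g * f b * g⁻¹) * (g * f a * g⁻¹) := h2
        _ = _ := by group
    exact mul_left_cancel (mul_right_cancel e1)

include hp in
/-- the untwisted groups -/
theorem good_untw {F : Type u} [Field F] [Finite F] :
    Good (fun t => (t : F) ≠ 0 ∧ ¬ t ∣ Nat.card M.Group) ↥(D.group F) := by
  have := Fintype.ofFinite F
  obtain ⟨r, e, hr, hrF, hrk, he, hq', hk⟩ := H129.TorusUntw.exists_closure (F := F) rfl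
  refine (good_of_emb hp r hk (f := emb hp.inList (algebraMap F (AlgebraicClosure F)))
    (emb_injective hp.inList _)).mono fun t _ h => ⟨?_, h.2⟩
  rintro rfl
  exact h.1 (CharP.cast_eq_zero F t)

end Emb

/-- **`FHall` if all primes of `π` but `r` are good.** -/
theorem fhall_generic {G : Type v} [Group G] [Finite G] {π : Set ℕ} {P : ℕ → Prop} (hG : Good P G) {r : ℕ}
    (hr : r.Prime) (h2 : 2 ∉ π) (hE : ∃ H : Subgroup G, IsPiHall π H)
    (hP : ∀ t, t.Prime → t ∈ π → t ≠ r → t ∣ Nat.card G → P t)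
    (hpair : r ∈ π → ∀ t, t.Prime → t ∈ π → t ≠ r → t ∣ Nat.card G → PairN t r G) : FHall π G := by
  refine fhall_of_pairs hr h2 hE fun t ht htr htπ htG => ⟨fun s hs hsπ hst hsG => ?_, hG.abel t ht (hP t ht htπ htr htG)⟩
  by_cases hsr : s = r
  · subst hsr
    exact hpair hsπ t ht htπ htr htG
  · refine pairN_of_noMin hs ht ?_ ?_ hst (hG.noMin s t hs ht (hP s hs hsπ hsr hsG) (hP t ht htπ htr htG) hst)
    · rintro rfl; exact h2 hsπ
    · rintro rfl; exact h2 htπ

end Cfsg.Agent.H167.RV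
end

-- part: H167/RV/Suz
section
prune_inst 0x10101500402200000000001000001842c2000500004b800191800a06078e3e0180000e21f0200b0211220024003c006813540029421000000a000400411d00a0888270823200a100e60007803804000000000000000000000000000000041000000000000
set_option linter.all false
open scoped Cfsg.Agent.FastGrp

/-!
# TEAM RV: `FHall` for the Suzuki groups (helper167)

* `comm_of_norm` : an element of odd order normalising a cyclic group of odd order `≠ 1` of `Sz(q)` centralises it;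
* `fhall_suz`.
-/

set_option autoImplicit false
set_option linter.unusedSectionVars false

namespace Cfsg.Agent.H167.RV

open Subgroup Cfsg Cfsg.Agent.H988.CPi Cfsg.Agent.H571.RV Cfsg.Agent.H553.OddHall Cfsg.Agent.H565.NM
open Matrix MulAction Cfsg.Agent.H167.OP
open Cfsg.Agent.LieExceptional Cfsg.Agent.LieExceptional.SuzukiBasic Cfsg.Agent.LieExceptional.SuzukiCN

section Hyp

variable {G Ω : Type*} [Group G] [Finite G] [MulAction G Ω] [Finite Ω] {q : ℕ} (HH : SuzukiTori.Hyp G Ω q)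

include HH

theorem fix_of_norm {d y : G} (hd1 : d ≠ 1) (hy : Odd (orderOf y)) (hn : y⁻¹ * d * y ∈ zpowers d) {α : Ω}
    (hα : d • α = α) : y • α = α := by
  classical
  have hmove : ∀ ω : Ω, d • ω = ω → d • (y • ω) = y • ω := by
    intro ω hω
    have h1 : (y⁻¹ * d * y) • ω = ω := by
      have h2 : zpowers d ≤ stabilizer G ω := by
        rw [zpowers_le]
        exact hω
      exact h2 hn
    have h2 : d * y = y * (y⁻¹ * d * y) := by group
    rw [← mul_smul, h2, mul_smul, h1]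
  by_contra e1
  by_cases e3 : y • (y • α) = α
  · apply e1
    have hs : y ^ 2 ∈ stabilizer G α := by
      rw [mem_stabilizer_iff, pow_two, mul_smul, e3]
    obtain ⟨k, hk⟩ := hy
    have : y = (y ^ 2) ^ (k + 1) := by
      rw [← pow_mul]
      have : 2 * (k + 1) = orderOf y + 1 := by omega
      rw [this, pow_succ, pow_orderOf_eq_one, one_mul]
    have h4 : (y ^ 2) ^ (k + 1) ∈ stabilizer G α := pow_mem hs _
    rw [← this, mem_stabilizer_iff] at h4
    exact h4
  · have e2 : y • (y • α) ≠ y • α := fun h => e1 (smul_left_cancel y h)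
    have h5 : ({α, y • α, y • (y • α)} : Finset Ω).card = 3 := by
      rw [Finset.card_eq_three]
      exact ⟨_, _, _, Ne.symm e1, Ne.symm e3, Ne.symm e2, rfl⟩
    have h6 : (({α, y • α, y • (y • α)} : Finset Ω) : Set Ω) ⊆ fixedBy Ω d := by
      intro x hx
      simp only [Finset.coe_insert, Finset.coe_singleton, Set.mem_insert_iff,
        Set.mem_singleton_iff] at hx
      rw [mem_fixedBy]
      rcases hx with rfl | rfl | rfl
      · exact hα
      · exact hmove _ hα
      · exact hmove _ (hmove _ hα)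
    have h7 := Set.ncard_le_ncard h6 (Set.toFinite _)
    rw [Set.ncard_coe_finset, h5] at h7
    have h2 := HH.three d hd1
    rw [Nat.card_coe_set_eq] at h2
    omega

theorem exists_two {d : G} (hd1 : d ≠ 1) (hd : Odd (orderOf d)) {α : Ω} (hα : d • α = α) :
    ∃ β : Ω, β ≠ α ∧ d • β = β := by
  classical
  -- a power of prime order
  obtain ⟨p, hp, hpd⟩ := Nat.exists_prime_and_dvd (fun h => hd1 (orderOf_eq_one_iff.1 h))
  set d' := d ^ (orderOf d / p) with hd'
  have hd'o : orderOf d' = p := by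
    rw [hd', orderOf_pow_of_dvd (Nat.div_pos (Nat.le_of_dvd (orderOf_pos d) hpd) hp.pos).ne' (Nat.div_dvd_of_dvd hpd),
      Nat.div_div_self hpd (orderOf_pos d).ne']
  have hd'1 : d' ≠ 1 := by
    intro h
    rw [h, orderOf_one] at hd'o
    exact hp.one_lt.ne hd'o
  have hp2 : p ≠ 2 := by
    rintro rfl
    exact (Nat.not_even_iff_odd.2 hd) (even_iff_two_dvd.2 hpd)
  have hd'α : d' • α = α := by
    have h1 : d ∈ stabilizer G α := hα
    exact pow_mem h1 _
  have hmod := SuzukiTori.card_modEq_fixedBy (Ω := Ω) hp (h := d') (by rw [← hd'o]; exact pow_orderOf_eq_one _)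
  have hle := HH.three d' hd'1
  -- `p ∣ q - 1`
  have hpq : p ∣ q - 1 := by
    have h1 : Nat.card (stabilizer G α) * Nat.card Ω = Nat.card G := by
      have hpre : IsPretransitive G Ω := by
        have := HH.two
        exact isPretransitive_of_is_two_pretransitive
      have h2 := index_stabilizer_of_transitive G α
      rw [← h2]
      exact (stabilizer G α).card_mul_index
    rw [HH.card_set, HH.card_group] at h1
    have h3 := Nat.eq_of_mul_eq_mul_right (Nat.succ_pos _) h1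
    have h4 : p ∣ Nat.card (stabilizer G α) := by
      have h9 := Subgroup.orderOf_dvd_natCard (stabilizer G α) (x := d') hd'α
      rwa [hd'o] at h9
    rw [h3] at h4
    rcases (hp.dvd_mul).1 h4 with h5 | h5
    · exfalso
      obtain ⟨m, -, hm⟩ := HH.q_eq
      rw [hm, ← pow_mul] at h5
      exact hp2 ((Nat.prime_dvd_prime_iff_eq hp Nat.prime_two).1 (hp.dvd_of_dvd_pow h5))
    · exact h5
  have h2 : Nat.card Ω ≡ 2 [MOD p] := by
    rw [HH.card_set]
    have h8 := HH.eight_le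
    have e : q ^ 2 + 1 = (q - 1) * (q + 1) + 2 := by
      obtain ⟨m, rfl⟩ : ∃ m, q = m + 1 := ⟨q - 1, by omega⟩
      rw [Nat.add_sub_cancel]
      ring
    rw [e]
    have h3 : (q - 1) * (q + 1) ≡ 0 [MOD p] := (Nat.modEq_zero_iff_dvd).2 (hpq.mul_right _)
    simpa using h3.add_right 2
  have hcard : Nat.card (fixedBy Ω d') = 2 := by
    have h3 := (h2.symm.trans hmod)
    have h4 : 2 ≤ p := hp.two_le
    have h5 : 1 ≤ Nat.card (fixedBy Ω d') := by
      have : Nonempty (fixedBy Ω d') := ⟨⟨α, hd'α⟩⟩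
      exact Nat.card_pos
    have h6 : Nat.card (fixedBy Ω d') = 1 ∨ Nat.card (fixedBy Ω d') = 2 := by omega
    rcases h6 with h6 | h6
    · exfalso
      rw [h6] at h3
      have h7 : p ∣ 2 - 1 := (Nat.modEq_iff_dvd' (by norm_num)).1 h3.symm
      exact hp.one_lt.ne' (Nat.dvd_one.1 h7)
    · exact h6
  -- `β`
  have hnt : ∃ β : Ω, β ≠ α ∧ d' • β = β := by
    have h3 : 1 < Nat.card (fixedBy Ω d') := by omega
    rw [Finite.one_lt_card_iff_nontrivial] at h3
    obtain ⟨β, hβ⟩ := exists_ne (⟨α, hd'α⟩ : fixedBy Ω d')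
    exact ⟨β.1, fun h => hβ (Subtype.ext h), β.2⟩
  obtain ⟨β, hβ, hβ'⟩ := hnt
  refine ⟨β, hβ, ?_⟩
  by_contra hne
  -- `d` moves `β` inside the fixed points of `d'`
  have h3 : d' • (d • β) = d • β := by
    have hc : Commute d' d := (Commute.refl d).pow_left _
    rw [← mul_smul, hc.eq, mul_smul, hβ']
  have h4 : d • β ≠ α := by
    intro h
    apply hβ
    have h5 : d • β = d • α := by rw [h, hα]
    exact smul_left_cancel d h5
  have h5 : ({α, β, d • β} : Finset Ω).card = 3 := by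
    rw [Finset.card_eq_three]
    exact ⟨_, _, _, Ne.symm hβ, Ne.symm h4, Ne.symm hne, rfl⟩
  have h6 : (({α, β, d • β} : Finset Ω) : Set Ω) ⊆ fixedBy Ω d' := by
    intro x hx
    simp only [Finset.coe_insert, Finset.coe_singleton, Set.mem_insert_iff,
      Set.mem_singleton_iff] at hx
    rw [mem_fixedBy]
    rcases hx with rfl | rfl | rfl
    · exact hd'α
    · exact hβ'
    · exact h3
  have h7 := Set.ncard_le_ncard h6 (Set.toFinite _)
  rw [Set.ncard_coe_finset, h5] at h7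
  rw [Nat.card_coe_set_eq] at hcard
  omega

/-- the free case -/
theorem comm_free {d y : G} (hd : d ∈ SuzukiTori.Hyp.free G Ω) (hy : Odd (orderOf y))
    (hn : y ∈ normalizer ((centralizer ({d} : Set G) : Subgroup G) : Set G)) : y ∈ centralizer ({d} : Set G) := by
  classical
  set C : Subgroup G := centralizer ({d} : Set G) with hC
  set N : Subgroup G := normalizer (C : Set G) with hN
  have h1 := HH.norm_of_free hd
  have hCN : C ≤ N := le_normalizer
  have hcard : Nat.card C * C.relIndex N = Nat.card N := by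
    have h2 := (C.subgroupOf N).card_mul_index
    rw [Nat.card_congr (subgroupOfEquivOfLe hCN).toEquiv] at h2
    exact h2
  have h3 : C.relIndex N ≤ 4 := by
    have h4 : 0 < Nat.card C := Nat.card_pos
    rw [← hcard, mul_comm] at h1
    exact Nat.le_of_mul_le_mul_right h1 h4
  have hpos : 0 < C.relIndex N := Nat.pos_of_ne_zero Subgroup.index_ne_zero_of_finite
  have hnorm : (C.subgroupOf N).Normal := normal_in_normalizer
  have h5 : y ^ C.relIndex N ∈ C := by
    have h6 := (C.subgroupOf N).pow_index_mem (⟨y, hn⟩ : N)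
    exact mem_subgroupOf.1 h6
  have h6 : y ^ orderOf y ∈ C := by rw [pow_orderOf_eq_one]; exact one_mem _
  have h3y : ¬ 3 ∣ orderOf y := fun h => HH.three_not_dvd (h.trans (orderOf_dvd_natCard y))
  have hcop : Nat.Coprime (C.relIndex N) (orderOf y) := by
    have h7 : C.relIndex N = 1 ∨ C.relIndex N = 2 ∨ C.relIndex N = 3 ∨ C.relIndex N = 4 := by omega
    rcases h7 with h | h | h | h
    · rw [h]; exact Nat.coprime_one_left _
    · rw [h]; exact Nat.coprime_two_left.2 hy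
    · rw [h]; exact (Nat.Prime.coprime_iff_not_dvd Nat.prime_three).2 h3y
    · rw [h]
      exact Nat.Coprime.pow_left 2 (Nat.coprime_two_left.2 hy)
  exact mem_of_pow_mem_coprime h5 h6 hcop

end Hyp

variable {F : Type*} [Field F] [Fintype F] {m : ℕ}

/-- **An element of odd order normalising `⟨d⟩`, `d ≠ 1` of odd order, centralises it.** -/
theorem comm_of_norm (hm : 1 ≤ m) (hF : Fintype.card F = 2 ^ (2 * m + 1)) {d y : Cfsg.Sz F m} (hd1 : d ≠ 1)
    (hd : Odd (orderOf d)) (hy : Odd (orderOf y)) (hn : y ∈ normalizer ((zpowers d : Subgroup (Cfsg.Sz F m)) : Set _)) :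
    y * d = d * y := by
  have : Finite (Cfsg.suzukiOvoid F m) := Finite.of_equiv _ (SuzukiBasic.ovoidEquiv F m)
  have HH := SuzukiHyp.hyp hm hF
  have hn1 : y * d * y⁻¹ ∈ zpowers d := (mem_normalizer_iff.1 hn d).1 (mem_zpowers d)
  have hn2 : y⁻¹ * d * y ∈ zpowers d := by
    have := (mem_normalizer_iff.1 (inv_mem hn) d).1 (mem_zpowers d)
    rwa [inv_inv] at this
  by_cases hfree : d ∈ SuzukiTori.Hyp.free (Cfsg.Sz F m) (Cfsg.suzukiOvoid F m)
  · have h1 := comm_free HH hfree hy (by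
      have key : ∀ z ∈ normalizer ((zpowers d : Subgroup (Cfsg.Sz F m)) : Set _),
          ∀ c ∈ centralizer ({d} : Set (Cfsg.Sz F m)), z * c * z⁻¹ ∈ centralizer ({d} : Set (Cfsg.Sz F m)) := by
        intro z hz c hc
        have h2 : z⁻¹ * d * z ∈ zpowers d := by
          have := (mem_normalizer_iff.1 (inv_mem hz) d).1 (mem_zpowers d)
          rwa [inv_inv] at this
        have h3 : Commute c (z⁻¹ * d * z) := by
          obtain ⟨j, hj⟩ := mem_zpowers_iff.1 h2
          rw [← hj]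
          exact (show Commute c d from mem_centralizer_singleton_iff.1 hc).zpow_right j
        rw [mem_centralizer_singleton_iff]
        calc z * c * z⁻¹ * d = z * (c * (z⁻¹ * d * z)) * z⁻¹ := by group
          _ = z * ((z⁻¹ * d * z) * c) * z⁻¹ := by rw [h3.eq]
          _ = d * (z * c * z⁻¹) := by group
      rw [mem_normalizer_iff]
      intro c
      refine ⟨fun hc => key y hn c hc, fun hc => ?_⟩
      have h4 := key y⁻¹ (inv_mem hn) _ hc
      have e : y⁻¹ * (y * c * y⁻¹) * y⁻¹⁻¹ = c := by group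
      rwa [e] at h4)
    exact mem_centralizer_singleton_iff.1 h1
  rw [SuzukiTori.Hyp.mem_free_iff] at hfree
  push Not at hfree
  obtain ⟨α, hα⟩ := hfree
  obtain ⟨β, hβ, hβd⟩ := exists_two HH hd1 hd hα
  have hyα := fix_of_norm HH hd1 hy hn2 hα
  have hyβ := fix_of_norm HH hd1 hy hn2 hβd
  obtain ⟨x, hx, hxα, hxβ⟩ := exists_smul_eq hF α.2 β.2 (fun h => hβ (Subtype.ext h.symm))
  have hxα' : x⁻¹ • Cfsg.suzukiPointInfinity F = α := by rw [inv_smul_eq_iff, hxα]
  have hxβ' : x⁻¹ • Cfsg.suzukiPointZero F = β := by rw [inv_smul_eq_iff, hxβ]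
  have key : ∀ g : Cfsg.Sz F m, g • α = α → g • β = β → ∃ k : Fˣ, x * (g : SpecialLinearGroup (Fin 4) F) * x⁻¹ = H m k := by
    intro g hgα hgβ
    have h1 : (g : SpecialLinearGroup (Fin 4) F) • (α : Projectivization F (Fin 4 → F)) = α := congrArg Subtype.val hgα
    have h2 : (g : SpecialLinearGroup (Fin 4) F) • (β : Projectivization F (Fin 4 → F)) = β := congrArg Subtype.val hgβ
    exact eq_H_of_fix_two hm hF (mul_mem (mul_mem hx g.2) (inv_mem hx))
      (by rw [mul_smul, mul_smul, hxα', h1, hxα]) (by rw [mul_smul, mul_smul, hxβ', h2, hxβ])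
  obtain ⟨k₁, h₁⟩ := key y hyα hyβ
  obtain ⟨k₂, h₂⟩ := key d hα hβd
  apply Subtype.ext
  show (y : SpecialLinearGroup (Fin 4) F) * d = d * y
  have e1 : (y : SpecialLinearGroup (Fin 4) F) * d = x⁻¹ * ((x * y * x⁻¹) * (x * d * x⁻¹)) * x := by group
  have e2 : (d : SpecialLinearGroup (Fin 4) F) * y = x⁻¹ * ((x * d * x⁻¹) * (x * y * x⁻¹)) * x := by group
  rw [e1, e2, h₁, h₂, H_mul, H_mul, mul_comm]

theorem odd_of_pow {G : Type*} [Group G] {t : ℕ} (ht : t.Prime) (ht2 : t ≠ 2) {y : G} (hy : ∃ k : ℕ, y ^ t ^ k = 1) :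
    Odd (orderOf y) := by
  obtain ⟨k, hk⟩ := hy
  exact ((ht.odd_of_ne_two ht2).pow).of_dvd_nat (orderOf_dvd_of_pow_eq_one hk)

theorem good_sz (hm : 1 ≤ m) (hF : Fintype.card F = 2 ^ (2 * m + 1))
    (hcyc : ∀ t : ℕ, t.Prime → t ≠ 2 → ∀ Q : Subgroup (Cfsg.Sz F m), IsPGroup t Q → IsCyclic Q) :
    Good (fun t => t ≠ 2) (Cfsg.Sz F m) where
  noMin s t hs ht hs2 ht2 hst := by
    intro y D hD
    have hc := hcyc s hs hs2 D hD.isPGroup
    obtain ⟨⟨d, hdD⟩, hd⟩ := hc.exists_generator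
    have hz : zpowers d = D := by
      apply le_antisymm
      · rw [zpowers_le]; exact hdD
      · intro x hx
        obtain ⟨j, hj⟩ := mem_zpowers_iff.1 (hd ⟨x, hx⟩)
        exact ⟨j, congrArg Subtype.val hj⟩
    have hd1 : d ≠ 1 := by
      rintro rfl
      apply hD.ncen
      intro x hx
      rw [← hz, zpowers_one_eq_bot, mem_bot] at hx
      rw [hx, mul_one, one_mul]
    have hn : y ∈ normalizer ((zpowers d : Subgroup (Cfsg.Sz F m)) : Set _) := by
      rw [hz]
      exact mem_normalizer_of_nrm hD.nrm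
    have h1 := comm_of_norm hm hF hd1 (odd_of_pow hs hs2 (hD.hD d hdD)) (odd_of_pow ht ht2 hD.hy) hn
    apply hD.ncen
    intro x hx
    rw [← hz] at hx
    obtain ⟨j, rfl⟩ := mem_zpowers_iff.1 hx
    exact (show Commute y d from h1).zpow_right j
  abel t ht ht2 Q hQ a ha b hb := by
    have hc := hcyc t ht ht2 Q hQ
    obtain ⟨g, hg⟩ := hc.exists_generator
    obtain ⟨i, hi⟩ := mem_zpowers_iff.1 (hg ⟨a, ha⟩)
    obtain ⟨j, hj⟩ := mem_zpowers_iff.1 (hg ⟨b, hb⟩)
    have e : (⟨a, ha⟩ : Q) * ⟨b, hb⟩ = ⟨b, hb⟩ * ⟨a, ha⟩ := by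
      rw [← hi, ← hj, ← _root_.zpow_add, ← _root_.zpow_add, add_comm]
    exact congrArg Subtype.val e

/-- **`Sz(q)`** -/
theorem fhall_suz {G : Type*} [Group G] [Finite G] {π : Set ℕ} (h2 : 2 ∉ π) (hE : ∃ H : Subgroup G, IsPiHall π H)
    (h : Lie.IsoSuzuki G) : FHall π G := by
  have hG : Good (fun t => t ≠ 2) G := by
    obtain ⟨F, iF, iF', m, hm, hF, ⟨f⟩⟩ := id h
    obtain ⟨e⟩ := Cfsg.Agent.OddCyclic.ClaimC.SzIso.iso (F := F) hm hF
    have : Finite (Cfsg.Sz F m) := Finite.of_equiv G (f.trans e.symm).toEquiv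
    refine (good_sz hm hF fun t ht ht2 Q hQ => ?_).of_equiv (f.trans e.symm)
    have hft : Fact t.Prime := ⟨ht⟩
    have h1 := Cfsg.Agent.OddRank.SzTits.isCyclic_of_isPGroup h ht2 (Q.comap (f.trans e.symm).toMonoidHom)
      (hQ.comap_of_injective _ (f.trans e.symm).injective)
    have h3 : (Q.comap (f.trans e.symm).toMonoidHom).map (f.trans e.symm).toMonoidHom = Q :=
      map_comap_eq_self_of_surjective (f.trans e.symm).surjective Q
    have h4 : IsCyclic ((Q.comap (f.trans e.symm).toMonoidHom).map (f.trans e.symm).toMonoidHom) :=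
      isCyclic_of_surjective ((f.trans e.symm).toMonoidHom.subgroupMap (Q.comap (f.trans e.symm).toMonoidHom))
        ((f.trans e.symm).toMonoidHom.subgroupMap_surjective _)
    rwa [h3] at h4
  exact fhall_generic hG Nat.prime_two h2 hE (fun t _ _ ht2 _ => ht2) (fun h3 => absurd h3 h2)

end Cfsg.Agent.H167.RV
end

-- part: H167/RV/RowsA
section
set_option linter.all false
open scoped Cfsg.Agent.FastGrp

/-!
# TEAM RV: `FHall` for exceptional groups, `2, p ∉ π`, at most one prime of `π` divides `|W|` (helper167)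

* `fhall_g2`, `fhall_f4`, `fhall_3D4`, `fhall_2F4`, `fhall_tits`, `fhall_ree` : all `π`;
* `fhall_e6_five`, `fhall_2E6_five` (`3 ∉ π`), `fhall_e7_one`, `fhall_e8_one` (at most one of `3, 5, 7` in `π`).
-/

set_option autoImplicit false
set_option linter.unusedSectionVars false

namespace Cfsg.Agent.H167.RV

open Subgroup Cfsg Cfsg.Lie Cfsg.Lie.ChevalleyDatum Cfsg.Agent.H988.CPi Cfsg.Agent.H571.RV Cfsg.Agent.H553.OddHall
open CoxeterSystem
open Cfsg.Agent.ChevalleyStructure Cfsg.Agent.ChevalleyStructure.Elts Cfsg.Agent.ChevalleyStructure.CoxeterGeom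
  Cfsg.Agent.ChevalleyStructure.CoxeterGeomTypes Cfsg.Agent.ChevalleyStructure.NPerm
open Cfsg.Agent.Tits.Roots Cfsg.Agent.Tits.Core Cfsg.Agent.Nodes Cfsg.Agent.Nodes.Reps Cfsg.Agent.Nodes.BNOf
  Cfsg.Agent.Nodes.RGDChev Cfsg.Agent.Nodes.Bruhat
open Cfsg.Agent.KFacts.RgdField Cfsg.Agent.KFacts.RgdChevCoord Cfsg.Agent.BpExc.TorCent Cfsg.Agent.BpExc.TorChev
open Cfsg.Agent.GpExc.Field Cfsg.Agent.BpExc.Tow Cfsg.Agent.BpExc.TowChev Cfsg.Agent.BpExc.Fr
  Cfsg.Agent.BpExc.LangFr Cfsg.Agent.H795.SetCent Cfsg.Agent.H795.SetTor Cfsg.Agent.H565.NM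
open Cfsg.Agent.H795.RowsA Cfsg.Agent.H565.T3
  Cfsg.Agent.BpExc.RowsUntw Cfsg.Agent.H129.TorusChar Cfsg.Agent.H720.TwFr Cfsg.Agent.BpExc

universe u v

section Num

variable {t : ℕ}

theorem five_le (ht : t.Prime) (h2 : t ≠ 2) (h3 : t ≠ 3) : 5 ≤ t := by
  have := ht.two_le
  by_contra h
  have : t = 4 := by omega
  rw [this] at ht
  exact absurd ht (by norm_num)

theorem seven_le (ht : t.Prime) (h2 : t ≠ 2) (h3 : t ≠ 3) (h5 : t ≠ 5) : 7 ≤ t := by
  have := five_le ht h2 h3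
  by_contra h
  have : t = 6 := by omega
  rw [this] at ht
  exact absurd ht (by norm_num)

theorem eleven_le (ht : t.Prime) (h2 : t ≠ 2) (h3 : t ≠ 3) (h5 : t ≠ 5) (h7 : t ≠ 7) : 11 ≤ t := by
  have := seven_le ht h2 h3 h5
  by_contra h
  have : t = 8 ∨ t = 9 ∨ t = 10 := by omega
  rcases this with rfl | rfl | rfl <;> exact absurd ht (by norm_num)

end Num

variable {G : Type v} [Group G] [Finite G] {π : Set ℕ} {p : ℕ}

theorem ne_of_mem {t : ℕ} (hpπ : p ∉ π) (ht : t ∈ π) : t ≠ p := by rintro rfl; exact hpπ ht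

section Untw

variable {F : Type u} [Field F] [Fintype F] [CharP F p] (h2 : 2 ∉ π) (hpπ : p ∉ π)
  (hE : ∃ H : Subgroup G, IsPiHall π H)

include h2 hpπ hE

theorem fhall_g2 (e : G ≃* ↥(chevG2.group F)) : FHall π G := by
  have hp : p.Prime := CharP.char_is_prime F p
  have hc : ∀ t, t.Prime → t ∈ π → (t : F) ≠ 0 := fun t ht htπ => cast_ne_zero_of_char hp ht (ne_of_mem hpπ htπ)
  refine fhall_generic ((good_untw g2T (F := F)).of_equiv e) Nat.prime_three h2 hE
    (fun t ht htπ ht3 _ => ⟨hc t ht htπ, ?_⟩) (fun h3π t ht htπ ht3 _ => ?_)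
  · rw [card_G2]
    exact not_dvd_12 ht (five_le ht (ne_of_mem h2 htπ) ht3)
  · refine PairN.of_equiv e.symm ?_
    have := five_le ht (ne_of_mem h2 htπ) ht3
    exact pairN_of_noMin Nat.prime_three ht (by norm_num) (by omega) (by omega)
      (noMin_g2 (F := F) (hc 3 Nat.prime_three h3π) (by norm_num) (by omega))

theorem fhall_f4 (e : G ≃* ↥(chevF4.group F)) : FHall π G := by
  have hp : p.Prime := CharP.char_is_prime F p
  have hc : ∀ t, t.Prime → t ∈ π → (t : F) ≠ 0 := fun t ht htπ => cast_ne_zero_of_char hp ht (ne_of_mem hpπ htπ)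
  refine fhall_generic ((good_untw f4T (F := F)).of_equiv e) Nat.prime_three h2 hE
    (fun t ht htπ ht3 _ => ⟨hc t ht htπ, ?_⟩) (fun h3π t ht htπ ht3 _ => ?_)
  · rw [card_F4]
    exact not_dvd_1152 ht (five_le ht (ne_of_mem h2 htπ) ht3)
  · refine PairN.of_equiv e.symm ?_
    have := five_le ht (ne_of_mem h2 htπ) ht3
    exact H572.ExcF.f4_three (by exact_mod_cast hc 3 Nat.prime_three h3π) ht (by omega) (by omega)

/-- `E₆(q)`, `3 ∉ π` -/
theorem fhall_e6_five (h3 : 3 ∉ π) (e : G ≃* ↥(chevE6.group F)) : FHall π G := by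
  have hp : p.Prime := CharP.char_is_prime F p
  have hc : ∀ t, t.Prime → t ∈ π → (t : F) ≠ 0 := fun t ht htπ => cast_ne_zero_of_char hp ht (ne_of_mem hpπ htπ)
  refine fhall_generic ((good_untw e6T (F := F)).of_equiv e) Nat.prime_five h2 hE
    (fun t ht htπ ht5 _ => ⟨hc t ht htπ, ?_⟩) (fun h5π t ht htπ ht5 _ => ?_)
  · rw [card_E6]
    intro h
    have h7 := seven_le ht (ne_of_mem h2 htπ) (ne_of_mem h3 htπ) ht5
    have := dvd_51840 ht (by omega) h
    omega
  · refine PairN.of_equiv e.symm ?_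
    have := seven_le ht (ne_of_mem h2 htπ) (ne_of_mem h3 htπ) ht5
    exact pairN_of_noMin Nat.prime_five ht (by norm_num) (by omega) (by omega)
      (noMin_e6 (F := F) (hc 5 Nat.prime_five h5π) (by norm_num) (by omega) le_rfl)

/-- `E₇(q)`, all primes of `π` except `r ∈ {3, 5, 7}` are at least `11`. -/
theorem fhall_e7_one {r : ℕ} (hr : r = 3 ∨ r = 5 ∨ r = 7) (h11 : ∀ t, t.Prime → t ∈ π → t ≠ r → 11 ≤ t)
    (e : G ≃* ↥(chevE7.group F)) : FHall π G := by
  have hp : p.Prime := CharP.char_is_prime F p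
  have hc : ∀ t, t.Prime → t ∈ π → (t : F) ≠ 0 := fun t ht htπ => cast_ne_zero_of_char hp ht (ne_of_mem hpπ htπ)
  refine fhall_generic (Good.of_equiv e (good_untw e7T (F := F))) (r := r)
    (by rcases hr with rfl | rfl | rfl <;> norm_num) h2 hE
    (fun t ht htπ htr _ => ⟨hc t ht htπ, ?_⟩) (fun hrπ t ht htπ htr _ => ?_)
  · intro h1
    rw [card_E7] at h1
    have h3 := h11 t ht htπ htr
    have := dvd_2903040 ht (by omega) h1
    omega
  · refine PairN.of_equiv e.symm ?_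
    have h3 := h11 t ht htπ htr
    rcases hr with rfl | hr
    · exact H572.ExcF.e7_three (by exact_mod_cast hc 3 Nat.prime_three hrπ) ht (by omega) (by omega)
    · have hrp : r.Prime := by rcases hr with rfl | rfl <;> norm_num
      exact pairN_of_noMin hrp ht (by omega) (by omega) (by omega)
        (noMin_e7 (F := F) (hc r hrp hrπ) (by omega) (by omega) (by omega) (by omega))

/-- `PairN t 5` for `E₈(q)` -/
theorem pairN_e8_five (h5 : (5 : F) ≠ 0) {t : ℕ} (ht : t.Prime) (h5t : 5 < t) : PairN t 5 ↥(chevE8.group F) := by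
  have h6 : t ≠ 6 := by rintro rfl; exact absurd ht (by norm_num)
  have h0 : ¬ 5 ∣ Fintype.card F := by
    intro h
    obtain ⟨p, n, hp, hpp, hc⟩ := FiniteField.card' F
    rw [hc] at h
    have h2 := Nat.prime_five.dvd_of_dvd_pow h
    have h3' := (Nat.prime_dvd_prime_iff_eq Nat.prime_five hpp).1 h2
    subst h3'
    exact h5 (by exact_mod_cast CharP.cast_eq_zero F 5)
  have h1 : Fintype.card F % 5 = 1 ∨ Fintype.card F % 5 = 4 ∨ Fintype.card F % 5 = 2 ∨ Fintype.card F % 5 = 3 := by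
    omega
  have hsq : Fintype.card F % 5 = 2 ∨ Fintype.card F % 5 = 3 → 5 ∣ Fintype.card F ^ 2 + 1 := by
    intro h
    rw [Nat.dvd_iff_mod_eq_zero, Nat.add_mod, Nat.pow_mod]
    rcases h with h | h <;> rw [h]
  rcases h1 with h1 | h1 | h1
  · exact H572.ExcF.e8_five h5 (Or.inl (by omega)) ht (by omega) (by omega) (by omega)
  · exact H572.ExcF.e8_five h5 (Or.inr (by omega)) ht (by omega) (by omega) (by omega)
  · exact H574.ExcE8Five.pairN_E8_five (hsq h1) ht (by omega)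

/-- `E₈(q)`, all primes of `π` except `r ∈ {3, 5, 7}` are at least `11`. -/
theorem fhall_e8_one {r : ℕ} (hr : r = 3 ∨ r = 5 ∨ r = 7) (h11 : ∀ t, t.Prime → t ∈ π → t ≠ r → 11 ≤ t)
    (e : G ≃* ↥(chevE8.group F)) : FHall π G := by
  have hp : p.Prime := CharP.char_is_prime F p
  have hc : ∀ t, t.Prime → t ∈ π → (t : F) ≠ 0 := fun t ht htπ => cast_ne_zero_of_char hp ht (ne_of_mem hpπ htπ)
  refine fhall_generic (Good.of_equiv e (good_untw e8T (F := F))) (r := r)
    (by rcases hr with rfl | rfl | rfl <;> norm_num) h2 hE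
    (fun t ht htπ htr _ => ⟨hc t ht htπ, ?_⟩) (fun hrπ t ht htπ htr _ => ?_)
  · intro h1
    rw [card_E8] at h1
    have h3 := h11 t ht htπ htr
    have := dvd_696729600 ht (by omega) h1
    omega
  · refine PairN.of_equiv e.symm ?_
    have h3 := h11 t ht htπ htr
    rcases hr with rfl | rfl | rfl
    · exact H572.ExcF.e8_three (by exact_mod_cast hc 3 Nat.prime_three hrπ) ht (by omega) (by omega)
    · exact pairN_e8_five (F := F) h2 hpπ hE (by exact_mod_cast hc 5 Nat.prime_five hrπ) ht (by omega)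
    · exact pairN_of_noMin (by norm_num) ht (by omega) (by omega) (by omega)
        (noMin_e8 (F := F) (hc 7 (by norm_num) hrπ) (by omega) (by omega) (by omega))

end Untw

section Tw

variable {K : Type u} [Field K] [Fintype K] [CharP K p] {q : ℕ} (hq : IsPrimePow q) (h2 : 2 ∉ π) (hpπ : p ∉ π)
  (hE : ∃ H : Subgroup G, IsPiHall π H)

include hq h2 hpπ hE

theorem fhall_3D4 (hK : Fintype.card K = q ^ 3) (e : G ≃* ↥(twistedD4 K q)) : FHall π G := by
  have hp : p.Prime := CharP.char_is_prime K p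
  have hc : ∀ t, t.Prime → t ∈ π → (t : K) ≠ 0 := fun t ht htπ => cast_ne_zero_of_char hp ht (ne_of_mem hpπ htπ)
  obtain ⟨r, n, hr, hrF, hrk, hn0, hn, hk⟩ := H795.Tw.exists_closure_q three_ne_zero hq hK
  have hG := good_of_emb hp4 r hk (f := (em4 (algebraMap K (AlgebraicClosure K)) (tw4_le hq hK)).comp e.toMonoidHom)
    ((em4_injective _ _).comp e.injective)
  refine fhall_generic hG Nat.prime_three h2 hE
    (fun t ht htπ ht3 _ => ⟨?_, ?_⟩) (fun h3π t ht htπ ht3 _ => ?_)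
  · rintro rfl
    exact hc t ht htπ (CharP.cast_eq_zero K t)
  · rw [card_D4]
    exact not_dvd_192 ht (five_le ht (ne_of_mem h2 htπ) ht3)
  · refine PairN.of_equiv e.symm ?_
    have := five_le ht (ne_of_mem h2 htπ) ht3
    exact pairN_of_noMin Nat.prime_three ht (by norm_num) (by omega) (by omega)
      (noMin_3D4 (K := K) hq (hc 3 Nat.prime_three h3π) (by norm_num) (by omega) hK)

/-- `²E₆(q)`, `3 ∉ π` -/
theorem fhall_2E6_five (h3 : 3 ∉ π) (hK : Fintype.card K = q ^ 2) (e : G ≃* ↥(twistedE6 K q)) : FHall π G := by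
  have hp : p.Prime := CharP.char_is_prime K p
  have hc : ∀ t, t.Prime → t ∈ π → (t : K) ≠ 0 := fun t ht htπ => cast_ne_zero_of_char hp ht (ne_of_mem hpπ htπ)
  obtain ⟨r, n, hr, hrF, hrk, hn0, hn, hk⟩ := H795.Tw.exists_closure_q two_ne_zero hq hK
  have hG := good_of_emb hp6 r hk (f := (em6 q (algebraMap K (AlgebraicClosure K))).comp e.toMonoidHom)
    ((FamTw.Six.em_injective _).comp e.injective)
  have hfin : Finite ↥(twistedE6 K q) := Finite.of_equiv G e.toEquiv
  refine fhall_generic hG Nat.prime_five h2 hE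
    (fun t ht htπ ht5 _ => ⟨?_, ?_⟩) (fun h5π t ht htπ ht5 _ => ?_)
  · rintro rfl
    exact hc t ht htπ (CharP.cast_eq_zero K t)
  · rw [card_E6]
    intro h
    have h7 := seven_le ht (ne_of_mem h2 htπ) (ne_of_mem h3 htπ) ht5
    have := dvd_51840 ht (by omega) h
    omega
  · refine PairN.of_equiv e.symm ?_
    have := seven_le ht (ne_of_mem h2 htπ) (ne_of_mem h3 htπ) ht5
    exact pairN_of_noMin Nat.prime_five ht (by norm_num) (by omega) (by omega)
      (noMin_2E6 (K := K) hq (hc 5 Nat.prime_five h5π) (by norm_num) (by omega) hK le_rfl)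

end Tw

section Rest

/-- `²F₄(q)`, `q = 2 ^ (2 * m + 1)`, `m = 0` included -/
theorem good_2F4 {K : Type u} [Field K] [Fintype K] {m : ℕ} (hK : Fintype.card K = 2 ^ (2 * m + 1)) :
    Good (fun t => 5 ≤ t) ↥(Lie.twistedF4 K (2 ^ m)) := by
  have hch := Cfsg.Agent.ChevalleyStructure.TwF4.Twisted.charP_two hK
  have hfin := H42.Tw.finite_tw (K := K) (2 ^ m)
  have h1 := H42.Tw.charP_closure (K := K)
  have h2 := H42.Tw.locFin_closure (K := K)
  have : Fact (Nat.Prime 2) := ⟨Nat.prime_two⟩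
  refine (good_of_emb f4T 2 h2 (f := H42.Tw.jj (algebraMap K (AlgebraicClosure K)) (2 ^ m))
    (H42.Tw.jj_injective _ _)).mono fun t ht h5 => ⟨by omega, ?_⟩
  rw [card_F4]
  exact not_dvd_1152 ht h5

variable (h2 : 2 ∉ π) (hE : ∃ H : Subgroup G, IsPiHall π H)

include h2 hE

theorem fhall_2F4 (h : Lie.Iso2F4 G) : FHall π G := by
  have hG : Good (fun t => 5 ≤ t) G := by
    obtain ⟨K, _, _, m, hm, hK, ⟨e⟩⟩ := h
    exact (good_2F4 hK).of_equiv e
  refine fhall_generic hG Nat.prime_three h2 hE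
    (fun t ht htπ ht3 _ => five_le ht (ne_of_mem h2 htπ) ht3) (fun h3π t ht htπ ht3 _ => ?_)
  have := five_le ht (ne_of_mem h2 htπ) ht3
  exact pairN_of_noMin Nat.prime_three ht (by norm_num) (by omega) (by omega)
    (noMin_iso2F4 (by norm_num) (by omega) h)

theorem fhall_ree (h3 : 3 ∉ π) (h : Lie.IsoRee G) : FHall π G := by
  obtain ⟨K, _, _, m, hm, hK, ⟨e⟩⟩ := id h
  have hle : Cfsg.Lie.twistedG2 K (3 ^ m) ≤ Cfsg.Lie.chevG2.group K :=
    H778.Exc.genSubgroup_le_group (by simp [Cfsg.Agent.ChevalleyStructure.Elts.InList]) (Cfsg.Lie.g2Words K (3 ^ m))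
  have hch : CharP K 3 := by
    obtain ⟨p, hp'⟩ := CharP.exists K
    have hp : p.Prime := CharP.char_is_prime K p
    have h1 : p ∣ Fintype.card K := by
      have := (CharP.cast_eq_zero_iff K p (Fintype.card K)).1 (FiniteField.cast_card_eq_zero K)
      exact this
    rw [hK] at h1
    have h4 := (Nat.prime_dvd_prime_iff_eq hp Nat.prime_three).1 (hp.dvd_of_dvd_pow h1)
    rwa [h4] at hp'
  have hG : Good (fun t => 5 ≤ t) G :=
    ((good_untw g2T (F := K)).of_injective ((Subgroup.inclusion hle).comp e.toMonoidHom)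
      ((Subgroup.inclusion_injective hle).comp e.injective)).mono fun t ht h5 =>
      ⟨cast_ne_zero_of_char (p := 3) Nat.prime_three ht (by omega), by
        rw [card_G2]
        exact not_dvd_12 ht h5⟩
  exact fhall_generic hG Nat.prime_three h2 hE
    (fun t ht htπ ht3 _ => five_le ht (ne_of_mem h2 htπ) ht3) (fun h3π => absurd h3π h3)

end Rest

end Cfsg.Agent.H167.RV
end

-- part: H167/RV/TorE
section
prune_inst 0x1000000122000000000000000018029200000000000000000000000080084000020000000001000002000000340060020000000000000000000000000000000028000200400000000000000080000000000000000000000000000000000000000000000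
set_option linter.all false
open scoped Cfsg.Agent.FastGrp

/-- decoders of the packed data (elaboration time only) -/
private noncomputable def pk61d (b S i : Nat) : Nat := Nat.mod (Nat.shiftRight S (Nat.mul b i)) (Nat.shiftLeft (nat_lit 1) b)
private noncomputable def pk61c {α : Type} (t : Nat) (a : α) (f : Nat → α) : α := Nat.rec a (fun k _ => f k) t
private noncomputable def pk61f {α : Type} (t : Nat) (f : Nat → α) : α := Nat.rec (f Nat.zero) (fun k _ => f (Nat.succ k)) t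
private noncomputable def pk61z (t : Nat) : Int := pk61f t fun t =>
  pk61c (Nat.mod t (nat_lit 2)) (Int.ofNat (Nat.div t (nat_lit 2))) fun _ => Int.negSucc (Nat.div t (nat_lit 2))
private noncomputable def pk61l {α : Type} (f : Nat → α) (s e : Nat) (tl : List α) : List α :=
  pk61f e fun e => Nat.rec tl (fun k ih => List.cons (pk61f (Nat.sub e (Nat.succ k)) f) ih) (Nat.sub e s)
private noncomputable def pk61o {α : Type} (O : (n : Nat) → OfNat α n → α) (I : (n : Nat) → OfNat α n) (t : Nat) : α :=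
  pk61c t (O (nat_lit 0) (I (nat_lit 0))) fun k => O (Nat.succ k) (I (Nat.succ k))
private noncomputable def pk61y (O : (n : Nat) → OfNat Int n → Int) (I : (n : Nat) → OfNat Int n) (G : Int → Int) (t : Nat) : Int := pk61f t fun t =>
  pk61c (Nat.mod t (nat_lit 2)) (pk61o O I (Nat.div t (nat_lit 2))) fun _ => G (pk61o O I (Nat.succ (Nat.div t (nat_lit 2))))


-- part: H167/RV/TorA
section
/-!
# TEAM RV: groups normalised by toral `s`-elements, the `SL₂` part, any characteristic (helper167)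

* `exists_tri'` : elements of `SL₂(k)` are conjugate to triangular ones;
* `comm_of_conj` : `A` commutes with `E A E⁻¹` implies `E A = A E` (`A`, `E` of odd order, `A` semisimple);
* `central_of_RR'`, `exists_odd'`, `comm_LC'`, `sq_of_cent'` : as in `H167.EX`, without `2 ≠ 0`.
-/

set_option autoImplicit false
set_option linter.unusedSectionVars false

namespace Cfsg.Agent.H167.RV

open CoxeterSystem Cfsg Cfsg.Lie Cfsg.Lie.ChevalleyDatum
open Cfsg.Agent.ChevalleyStructure Cfsg.Agent.ChevalleyStructure.Elts Cfsg.Agent.ChevalleyStructure.CoxeterGeom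
  Cfsg.Agent.ChevalleyStructure.CoxeterGeomTypes Cfsg.Agent.ChevalleyStructure.NPerm
open Cfsg.Agent.Tits.Roots Cfsg.Agent.Tits.Core Cfsg.Agent.Nodes Cfsg.Agent.Nodes.Reps Cfsg.Agent.Nodes.BNOf
  Cfsg.Agent.Nodes.RGDChev Cfsg.Agent.Nodes.Bruhat Cfsg.Agent.Nodes.NormalForm
open Cfsg.Agent.KFacts.RgdField Cfsg.Agent.KFacts.RgdChevCoord
open Cfsg.Agent.BpExc Cfsg.Agent.BpExc.TorCent Cfsg.Agent.BpExc.TorChev Cfsg.Agent.BpExc.Tow
  Cfsg.Agent.BpExc.TowChev Cfsg.Agent.BpExc.Fr Cfsg.Agent.BpExc.Pair Cfsg.Agent.BpExc.LangFr Cfsg.Agent.GpExc.Field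
  Cfsg.Agent.BpExc.TorAll
open Cfsg.Agent.H469.Exc Cfsg.Agent.H469.Exc.SigFr
open Cfsg.Agent.Nodes.RGDFoldSL
open Cfsg.Agent.ChevalleyStructure.SL2Hom (up lo mem_closure_SL2)
open Cfsg.Agent.H167.EX
open Module

universe u v

section SL

variable {k : Type u} [Field k]

/-- every element of `SL₂(k)` is conjugate to an upper triangular one -/
theorem exists_tri' [IsAlgClosed k] (A : SL k) : ∃ P : SL k, (P⁻¹ * A * P).1 1 0 = 0 := by
  by_cases hb : A.1 0 1 = 0
  · obtain ⟨w1, w2, w3, w4⟩ := wS_entries (one_ne_zero (α := k))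
    refine ⟨wS 1, ?_⟩
    rw [low, w1, w3, hb]
    ring
  · -- a root of `b t² + (a - d) t - c`
    obtain ⟨t, ht⟩ := IsAlgClosed.exists_root (Polynomial.C (A.1 0 1) * Polynomial.X ^ 2 +
      Polynomial.C (A.1 0 0 - A.1 1 1) * Polynomial.X + Polynomial.C (- A.1 1 0)) (by
      rw [Polynomial.degree_quadratic hb]
      norm_num)
    obtain ⟨w1, w2, w3, w4⟩ := lo_entries t
    refine ⟨lo t, ?_⟩
    rw [low, w1, w3]
    rw [Polynomial.IsRoot.def] at ht
    simp only [Polynomial.eval_add, Polynomial.eval_mul, Polynomial.eval_C, Polynomial.eval_pow,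
      Polynomial.eval_X] at ht
    linear_combination -ht

theorem eq_one_of_trace [IsAlgClosed k] {A : SL k} {m : ℕ} (hm : Odd m) (hmk : (m : k) ≠ 0) (hA : A ^ m = 1)
    (h4 : (A.1 0 0 + A.1 1 1) ^ 2 = 4) : A = 1 := by
  obtain ⟨P, hP⟩ := exists_tri' A
  set B := P⁻¹ * A * P with hB
  have hBm : B ^ m = 1 := by
    have : B = P⁻¹ * A * P⁻¹⁻¹ := by rw [inv_inv]
    rw [this, conj_pow, hA, mul_one, mul_inv_cancel]
  -- the trace
  have htr : B.1 0 0 + B.1 1 1 = A.1 0 0 + A.1 1 1 := by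
    have hd := det_eq P
    rw [hB, mul00, mul11, mul00, mul01, mul10, mul11, inv00, inv01, inv10, inv11]
    linear_combination (A.1 0 0 + A.1 1 1) * hd
  have hdB := det_eq B
  rw [hP, mul_zero, sub_zero] at hdB
  have hx : B.1 0 0 = B.1 1 1 := by
    have h5 : (B.1 0 0 - B.1 1 1) ^ 2 = 0 := by
      rw [htr.symm] at h4
      linear_combination h4 - 4 * hdB
    exact sub_eq_zero.1 (pow_eq_zero_iff two_ne_zero |>.1 h5)
  have hx2 : B.1 0 0 ^ 2 = 1 := by rw [pow_two]; nth_rewrite 2 [hx]; exact hdB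
  have hxm : B.1 0 0 ^ m = 1 := by
    rw [← (tri_pow hP m).2, hBm]
    rfl
  have hx1 : B.1 0 0 = 1 := by
    obtain ⟨j, rfl⟩ := hm
    rw [pow_add, pow_mul, hx2, one_pow, one_mul, pow_one] at hxm
    exact hxm
  have hup : ∀ n : ℕ, B ^ n = up ((n : k) * B.1 0 1) := by
    intro n
    induction n with
    | zero => rw [pow_zero, Nat.cast_zero, zero_mul, up_zero]
    | succ n ih =>
      have hB1 : B = up (B.1 0 1) := by
        obtain ⟨u1, u2, u3, u4⟩ := up_entries (B.1 0 1)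
        exact sl_ext (by rw [u1, hx1]) (by rw [u2]) (by rw [u3, hP]) (by rw [u4, ← hx, hx1])
      rw [pow_succ, ih]
      conv_lhs => rw [show up ((n : k) * B.1 0 1) * B = up ((n : k) * B.1 0 1) * up (B.1 0 1) by rw [← hB1]]
      rw [up_add]
      congr 1
      push_cast
      ring
  have h6 := hup m
  rw [hBm] at h6
  have h7 : (m : k) * B.1 0 1 = 0 := by
    have := congrArg (fun C : SL k => C.1 0 1) h6
    exact this.symm
  have h8 : B.1 0 1 = 0 := (mul_eq_zero.1 h7).resolve_left hmk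
  have hB1 : B = 1 := sl_ext (by rw [hx1]; rfl) (by rw [h8]; rfl) (by rw [hP]; rfl) (by rw [← hx, hx1]; rfl)
  have e : A = P * B * P⁻¹ := by rw [hB]; group
  rw [e, hB1, mul_one, mul_inv_cancel]

/-- **`A` commutes with its conjugate `A'` of the same trace: `A' = A` or `A' = A⁻¹`.** -/
theorem eq_or_inv [IsAlgClosed k] {A A' : SL k} {m : ℕ} (hm : Odd m) (hmk : (m : k) ≠ 0) (hA : A ^ m = 1)
    (hc : A' * A = A * A') (htr : A'.1 0 0 + A'.1 1 1 = A.1 0 0 + A.1 1 1) : A' = A ∨ A' = A⁻¹ ∨ A = 1 := by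
  by_cases h4 : (A.1 0 0 + A.1 1 1) ^ 2 = 4
  · exact Or.inr (Or.inr (eq_one_of_trace hm hmk hA h4))
  have hne : ¬ (A.1 0 1 = 0 ∧ A.1 1 0 = 0 ∧ A.1 0 0 - A.1 1 1 = 0) := by
    rintro ⟨h1, h2, h3⟩
    apply h4
    have hd := det_eq A
    linear_combination 4 * hd + (A.1 0 0 - A.1 1 1) * h3 + 4 * A.1 1 0 * h1
  have a1 : (A' * A).1 0 0 = (A * A').1 0 0 := by rw [hc]
  have a2 : (A' * A).1 0 1 = (A * A').1 0 1 := by rw [hc]
  have a3 : (A' * A).1 1 0 = (A * A').1 1 0 := by rw [hc]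
  rw [mul00, mul00] at a1
  rw [mul01, mul01] at a2
  rw [mul10, mul10] at a3
  obtain ⟨c, c1, c2, c3⟩ : ∃ c : k, A'.1 0 1 = c * A.1 0 1 ∧ A'.1 1 0 = c * A.1 1 0 ∧
      A'.1 0 0 - A'.1 1 1 = c * (A.1 0 0 - A.1 1 1) := by
    refine prop_of ?_ ?_ ?_ hne
    · linear_combination a1
    · linear_combination -a2
    · linear_combination a3
  set τ := A.1 0 0 + A.1 1 1 with hτ
  set α := A'.1 0 0 - c * A.1 0 0 with hα
  have b1 : A'.1 0 0 = α + c * A.1 0 0 := by rw [hα]; ring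
  have b2 : A'.1 1 1 = α + c * A.1 1 1 := by rw [hα]; linear_combination -c3
  have hd := det_eq A
  have hd' := det_eq A'
  rw [b1, b2, c1, c2] at hd'
  rw [b1, b2] at htr
  have e1 : 2 * α = τ * (1 - c) := by rw [hτ]; linear_combination htr
  have e2 : (c - 1) * (c + 1) = α * (α - τ) := by
    have : α ^ 2 + α * c * τ + c ^ 2 = 1 := by rw [hτ]; linear_combination hd' - c ^ 2 * hd
    linear_combination this - α * e1
  have e3 : α * (α - τ) * (τ ^ 2 - 4) = 0 := by
    linear_combination (-τ ^ 2) * e2 + (2 * α + (c - 1) * τ - 4 * α + 2 * τ) * e1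
  have h5 : α = 0 ∨ α = τ := by
    rcases mul_eq_zero.1 e3 with h5 | h5
    · rcases mul_eq_zero.1 h5 with h6 | h6
      · exact Or.inl h6
      · exact Or.inr (sub_eq_zero.1 h6)
    · exact absurd (sub_eq_zero.1 h5) h4
  have hcc : c = 1 ∨ c = -1 := by
    have h6 : (c - 1) * (c + 1) = 0 := by
      rw [e2]
      rcases h5 with h5 | h5 <;> rw [h5] <;> ring
    rcases mul_eq_zero.1 h6 with h7 | h7
    · exact Or.inl (sub_eq_zero.1 h7)
    · exact Or.inr (eq_neg_of_add_eq_zero_left h7)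
  have isA : c = 1 → α = 0 → A' = A := by
    intro h1 h2
    refine sl_ext ?_ ?_ ?_ ?_
    · rw [b1, h1, h2]; ring
    · rw [c1, h1]; ring
    · rw [c2, h1]; ring
    · rw [b2, h1, h2]; ring
  have isInv : c = -1 → α = τ → A' = A⁻¹ := by
    intro h1 h2
    refine sl_ext ?_ ?_ ?_ ?_
    · rw [b1, h1, h2, inv00, hτ]; ring
    · rw [c1, h1, inv01]; ring
    · rw [c2, h1, inv10]; ring
    · rw [b2, h1, h2, inv11, hτ]; ring
  rcases hcc with h1 | h1
  · rcases h5 with h2 | h2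
    · exact Or.inl (isA h1 h2)
    · rw [h1, h2, sub_self, mul_zero] at e1
      rcases mul_eq_zero.1 e1 with h3 | h3
      · right; left
        refine isInv ?_ h2
        rw [h1]
        linear_combination h3
      · exact Or.inl (isA h1 (h2.trans h3))
  · rcases h5 with h2 | h2
    · rw [h1, h2, mul_zero] at e1
      have h3 : (2 : k) * τ = 0 := by linear_combination -e1
      rcases mul_eq_zero.1 h3 with h4 | h4
      · left
        refine isA ?_ h2
        rw [h1]
        linear_combination -h4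
      · right; left
        exact isInv h1 (h2.trans h4.symm)
    · exact Or.inr (Or.inl (isInv h1 h2))

theorem trace_conj (E A : SL k) : (E * A * E⁻¹).1 0 0 + (E * A * E⁻¹).1 1 1 = A.1 0 0 + A.1 1 1 := by
  have hd := det_eq E
  rw [mul00, mul11, mul00, mul01, mul10, mul11, inv00, inv01, inv10, inv11]
  linear_combination (A.1 0 0 + A.1 1 1) * hd

/-- **If `A` commutes with `E A E⁻¹` then `A` commutes with `E`.** -/
theorem comm_of_conj [IsAlgClosed k] {A E : SL k} {m n : ℕ} (hm : Odd m) (hmk : (m : k) ≠ 0) (hA : A ^ m = 1)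
    (hn : Odd n) (hE : E ^ n = 1) (hc : (E * A * E⁻¹) * A = A * (E * A * E⁻¹)) : E * A = A * E := by
  rcases eq_or_inv hm hmk hA hc (trace_conj E A) with h | h | h
  · exact mul_inv_eq_iff_eq_mul.1 h
  · -- `E²` commutes with `A`
    have h1 : E ^ 2 * A = A * E ^ 2 := by
      have h2 : E * A = A⁻¹ * E := mul_inv_eq_iff_eq_mul.1 h
      have h3 : E * A⁻¹ = A * E := by
        have h4 : E * A⁻¹ * E⁻¹ = (E * A * E⁻¹)⁻¹ := by group
        have h5 : E * A⁻¹ * E⁻¹ = A := by rw [h4, h, inv_inv]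
        exact mul_inv_eq_iff_eq_mul.1 h5
      calc E ^ 2 * A = E * (E * A) := by rw [pow_two, mul_assoc]
        _ = E * A⁻¹ * E := by rw [h2, mul_assoc]
        _ = A * E ^ 2 := by rw [h3, pow_two, mul_assoc]
    obtain ⟨j, hj⟩ := hn
    have h2 : E = (E ^ 2) ^ (j + 1) := by
      rw [← pow_mul, show 2 * (j + 1) = (2 * j + 1) + 1 by ring, ← hj, pow_succ, hE, one_mul]
    have h3 : Commute (E ^ 2) A := h1
    have h4 := h3.pow_left (j + 1)
    rw [← h2] at h4
    exact h4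
  · rw [h, mul_one, one_mul]

end SL

section Chev

variable {D : ChevalleyDatum} {l : ℕ} {M : CoxeterMatrix (Fin l)} (hp : IsType D l M) {k : Type u} [Field k]
  {s : ℕ} (hs : s < D.nroots)

/-- `ph` is injective -/
theorem ph_inj' [IsAlgClosed k] (p : ℕ) [Fact p.Prime] [CharP k p] (hk : LocFin k)
    (he : ∃ r < D.nroots, HMatDiagAll.expo D s r = 1) {A : SL k} (hA : ph hp k hs A = 1) : A = 1 := by
  obtain ⟨P, hP⟩ := exists_tri' A
  have hB : ph hp k hs (P⁻¹ * A * P) = 1 := by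
    rw [map_mul, map_mul, hA, mul_one, ← map_mul, inv_mul_cancel, map_one]
  obtain ⟨h0, hB1⟩ := tri_eq hP
  set x := (P⁻¹ * A * P).1 0 0 with hx
  set y := (x)⁻¹ * (P⁻¹ * A * P).1 0 1 with hy
  rw [hB1, map_mul, ph_up] at hB
  have hy0 : y = 0 := by
    refine xs_TT hp hs p hk ?_
    rw [eq_inv_of_mul_eq_one_right hB]
    exact inv_mem (ph_hS_mem hp hs h0)
  rw [hy0] at hB hB1
  obtain ⟨r, hr, he⟩ := he
  have hx1 : x = 1 := by
    have h3 : xs hp.inList s (0 : k) = 1 := by rw [← ph_up hp hs, up_zero, map_one]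
    rw [h3, mul_one] at hB
    have h4 := ch_ph_hS hp hs p hk h0 hr
    rw [hB, ch_one hp p hk hr, he, zpow_one] at h4
    exact h4.symm
  have h5 : P⁻¹ * A * P = 1 := by
    rw [hB1, hx1, up_zero, mul_one]
    apply Subtype.ext
    rw [coe_hS one_ne_zero]
    ext a b
    fin_cases a <;> fin_cases b <;> simp
  have h6 : A = P * (P⁻¹ * A * P) * P⁻¹ := by group
  rw [h6, h5, mul_one, mul_inv_cancel]

/-- the first component of `(A, 1) ∈ RR` is central -/
theorem central_of_RR' [IsAlgClosed k] (p : ℕ) [Fact p.Prime] [CharP k p] (hk : LocFin k)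
    (he : ∃ r < D.nroots, HMatDiagAll.expo D s r = 1) {A : SL k} (hA : (A, 1) ∈ RR hp k hs) (P : SL k) :
    A * P = P * A := by
  rw [mem_RR, mul_one, ← map_inv] at hA
  have h3 := Subgroup.mem_centralizer_iff.1 hA _ ⟨P⁻¹, rfl⟩
  have h4 : P⁻¹ * A⁻¹ * (A⁻¹ * P⁻¹)⁻¹ = 1 := by
    apply ph_inj' hp hs p hk he
    rw [map_mul, map_inv, map_mul, map_mul, h3, mul_inv_cancel]
  have h5 : P⁻¹ * A⁻¹ = A⁻¹ * P⁻¹ := mul_inv_eq_one.1 h4
  have h6 := congrArg (fun x => x⁻¹) h5
  simp only [mul_inv_rev, inv_inv] at h6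
  exact h6

theorem exists_odd' [IsAlgClosed k] (p : ℕ) [Fact p.Prime] [CharP k p] (hk : LocFin k)
    (he : ∃ r < D.nroots, HMatDiagAll.expo D s r = 1) {v : ↥(D.group k)} (hv : v ∈ LC hp (k := k) hs) {m : ℕ}
    (hm : Odd m) (hvm : v ^ m = 1) : ∃ A : SL k, A ^ m = 1 ∧ (A, v) ∈ RR hp k hs := by
  obtain ⟨A, hA⟩ := (mem_LC_iff hp hs).1 hv
  have h1 : (A ^ m, (1 : ↥(D.group k))) ∈ RR hp k hs := by
    have := pow_mem hA m
    rw [Prod.pow_mk, hvm] at this
    exact this
  have h3 := sq_of_central (central_of_RR' hp hs p hk he h1)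
  refine ⟨A ^ (m + 1), ?_, ?_⟩
  · obtain ⟨j, hj⟩ := hm
    have e : (A ^ (m + 1)) ^ m = ((A ^ m) ^ 2) ^ (j + 1) := by
      rw [← pow_mul, ← pow_mul, ← pow_mul, mul_comm (m + 1) m]
      congr 2
      omega
    rw [e, h3, one_pow]
  · have := pow_mem hA (m + 1)
    rw [Prod.pow_mk, pow_succ v, hvm, one_mul] at this
    exact this

/-- **The commutator of elements of odd order of `LC`, if it commutes with them, centralises `ph (SL₂)`.** -/
theorem comm_LC' [IsAlgClosed k] (p : ℕ) [Fact p.Prime] [CharP k p] (hk : LocFin k)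
    (he : ∃ r < D.nroots, HMatDiagAll.expo D s r = 1) {v w : ↥(D.group k)} (hv : v ∈ LC hp (k := k) hs)
    (hw : w ∈ LC hp (k := k) hs) {m : ℕ} (hm : Odd m) (hvm : v ^ m = 1) (hwm : w ^ m = 1)
    (h3 : v * w * v⁻¹ * w⁻¹ * v = v * (v * w * v⁻¹ * w⁻¹)) (h4 : v * w * v⁻¹ * w⁻¹ * w = w * (v * w * v⁻¹ * w⁻¹)) :
    v * w * v⁻¹ * w⁻¹ ∈ Subgroup.centralizer ((ph hp k hs).range : Set ↥(D.group k)) := by
  obtain ⟨A, hA, hAv⟩ := exists_odd' hp hs p hk he hv hm hvm
  obtain ⟨B, hB, hBw⟩ := exists_odd' hp hs p hk he hw hm hwm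
  have hZ := RR_comm hp hs hAv hBw
  have h5 := RR_comm hp hs hZ hAv
  have h6 := RR_comm hp hs hZ hBw
  set u := v * w * v⁻¹ * w⁻¹ with hu
  have e1 : u * v * u⁻¹ * v⁻¹ = 1 := by rw [h3]; group
  have e2 : u * w * u⁻¹ * w⁻¹ = 1 := by rw [h4]; group
  rw [e1] at h5
  rw [e2] at h6
  have h7 : A * B = B * A := sl_comm hm hA hB (central_of_RR' hp hs p hk he h5) (central_of_RR' hp hs p hk he h6)
  have h8 : A * B * A⁻¹ * B⁻¹ = 1 := by rw [h7]; group
  rw [h8, mem_RR, map_one, inv_one, one_mul] at hZ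
  exact hZ

/-- **`v` semisimple of odd order `m` commuting with `y v y⁻¹`, `y` of odd order `n`: `[y, v]` centralises
`ph (SL₂)`.** -/
theorem comm_LC_norm [IsAlgClosed k] (p : ℕ) [Fact p.Prime] [CharP k p] (hk : LocFin k)
    (he : ∃ r < D.nroots, HMatDiagAll.expo D s r = 1) {v y : ↥(D.group k)} (hv : v ∈ LC hp (k := k) hs)
    (hy : y ∈ LC hp (k := k) hs) {m n : ℕ} (hm : Odd m) (hmk : (m : k) ≠ 0) (hvm : v ^ m = 1) (hn : Odd n)
    (hyn : y ^ n = 1) (hc : (y * v * y⁻¹) * v = v * (y * v * y⁻¹)) :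
    y * v * y⁻¹ * v⁻¹ ∈ Subgroup.centralizer ((ph hp k hs).range : Set ↥(D.group k)) := by
  obtain ⟨A, hA, hAv⟩ := exists_odd' hp hs p hk he hv hm hvm
  obtain ⟨E, hE, hEy⟩ := exists_odd' hp hs p hk he hy hn hyn
  have h1 : (E * A * E⁻¹, y * v * y⁻¹) ∈ RR hp k hs := RR_mul hp hs (RR_mul hp hs hEy hAv) (RR_inv hp hs hEy)
  have h2 := RR_comm hp hs h1 hAv
  have e1 : (y * v * y⁻¹) * v * (y * v * y⁻¹)⁻¹ * v⁻¹ = 1 := by rw [hc]; group
  rw [e1] at h2
  have hcen := central_of_RR' hp hs p hk he h2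
  set A' := E * A * E⁻¹ with hA'
  have hA'm : A' ^ m = 1 := by rw [hA', conj_pow, hA, mul_one, mul_inv_cancel]
  set Z := A' * A * A'⁻¹ * A⁻¹ with hZ
  have hZ2 : Z ^ 2 = 1 := sq_of_central hcen
  have hZ1 : Z = 1 := by
    have h3 : A' * A * A'⁻¹ = Z * A := by rw [hZ]; group
    have h4 : (A' * A * A'⁻¹) ^ m = 1 := by rw [conj_pow, hA, mul_one, mul_inv_cancel]
    have hcm : Commute Z A := hcen A
    rw [h3, hcm.mul_pow, hA, mul_one] at h4
    exact eq_one_of_odd hZ2 hm h4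
  have hAA : A' * A = A * A' := by
    have : A' * A = Z * (A * A') := by rw [hZ]; group
    rw [this, hZ1, one_mul]
  have hEA := comm_of_conj hm hmk hA hn hE hAA
  have h5 := RR_comm hp hs hEy hAv
  have h6 : E * A * E⁻¹ * A⁻¹ = 1 := by rw [hEA]; group
  rw [h6, mem_RR, map_one, inv_one, one_mul] at h5
  exact h5

end Chev

/-- strongly orthogonal pairs -/
structure Ort (D : ChevalleyDatum) (g : ℕ → ℕ) : Prop where
  one : ∀ b < D.nroots, ∃ r < D.nroots, HMatDiagAll.expo D b r = 1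
  lt : ∀ b < D.nroots, g b < D.nroots
  ort : ∀ b < D.nroots, g b = b ∨ (g b ≠ D.neg b ∧ (D.commTerms b (g b)).isEmpty = true ∧
    (D.commTerms (D.neg b) (g b)).isEmpty = true ∧ (D.commTerms b (D.neg (g b))).isEmpty = true ∧
    (D.commTerms (D.neg b) (D.neg (g b))).isEmpty = true)

section Q

variable {D : ChevalleyDatum} {l : ℕ} {M : CoxeterMatrix (Fin l)} (hp : IsType D l M) {k : Type u} [Field k]

theorem sq_of_cent' [IsAlgClosed k] (p : ℕ) [Fact p.Prime] [CharP k p] (hk : LocFin k)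
    {g : ℕ → ℕ} (K : Ort D g) {b : ℕ} (hb : b < D.nroots) {x : ↥(D.group k)}
    (hx : x ∈ (ph hp k hb).range ⊔ (ph hp k (K.lt b hb)).range)
    (h3 : x ∈ Subgroup.centralizer ((ph hp k hb).range : Set ↥(D.group k)))
    (h4 : x ∈ Subgroup.centralizer ((ph hp k (K.lt b hb)).range : Set ↥(D.group k))) : x ^ 2 = 1 := by
  have one : ∀ {s : ℕ} (hs : s < D.nroots) (Z : SL k),
      ph hp k hs Z ∈ Subgroup.centralizer ((ph hp k hs).range : Set ↥(D.group k)) → ph hp k hs Z ^ 2 = 1 := by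
    intro s hs Z hZ
    have h5 : (Z, (1 : ↥(D.group k))) ∈ RR hp k hs := by
      rw [mem_RR, mul_one]
      exact inv_mem hZ
    rw [← map_pow, sq_of_central (central_of_RR' hp hs p hk (K.one s hs) h5), map_one]
  have single : ∀ {s : ℕ} (hs : s < D.nroots), x ∈ (ph hp k hs).range →
      x ∈ Subgroup.centralizer ((ph hp k hs).range : Set ↥(D.group k)) → x ^ 2 = 1 := by
    rintro s hs ⟨Z, hZ⟩ h5
    rw [← hZ] at h5 ⊢
    exact one hs Z h5
  rcases K.ort b hb with h | ⟨e2, e3, e4, e5, e6⟩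
  · have h5 : (ph hp k hb).range ⊔ (ph hp k (K.lt b hb)).range = (ph hp k hb).range := by
      have : ∀ c (hc : c < D.nroots), c = b → (ph hp k hb).range ⊔ (ph hp k hc).range = (ph hp k hb).range := by
        rintro c hc rfl
        exact sup_idem _
      exact this _ _ h
    rw [h5] at hx
    exact single hb hx h3
  · by_cases e1 : g b = b
    · have h5 : (ph hp k hb).range ⊔ (ph hp k (K.lt b hb)).range = (ph hp k hb).range := by
        have : ∀ c (hc : c < D.nroots), c = b → (ph hp k hb).range ⊔ (ph hp k hc).range = (ph hp k hb).range := by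
          rintro c hc rfl
          exact sup_idem _
        exact this _ _ e1
      rw [h5] at hx
      exact single hb hx h3
    have hcomm := ph_comm hp (k := k) hb (K.lt b hb) e1 e2 e3 e4 e5 e6
    have hnorm : (ph hp k (K.lt b hb)).range ≤ Subgroup.normalizer ((ph hp k hb).range : Set ↥(D.group k)) :=
      hcomm.trans (Subgroup.centralizer_le_normalizer _)
    have h5 : x ∈ (((ph hp k hb).range ⊔ (ph hp k (K.lt b hb)).range : Subgroup ↥(D.group k)) :
        Set ↥(D.group k)) := hx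
    rw [Subgroup.coe_mul_of_right_le_normalizer_left _ _ hnorm] at h5
    obtain ⟨_, ⟨Z, rfl⟩, _, ⟨Z', rfl⟩, h6⟩ := h5
    have h6' : ph hp k hb Z * ph hp k (K.lt b hb) Z' = x := h6
    have h7 : ph hp k (K.lt b hb) Z' ∈ Subgroup.centralizer ((ph hp k hb).range : Set ↥(D.group k)) :=
      hcomm ⟨Z', rfl⟩
    have h8 : ph hp k hb Z ∈ Subgroup.centralizer ((ph hp k (K.lt b hb)).range : Set ↥(D.group k)) := by
      rw [Subgroup.mem_centralizer_iff]
      intro y hy
      exact (Subgroup.mem_centralizer_iff.1 (hcomm hy) _ ⟨Z, rfl⟩).symm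
    have h9 : ph hp k hb Z ∈ Subgroup.centralizer ((ph hp k hb).range : Set ↥(D.group k)) := by
      have e : ph hp k hb Z = x * (ph hp k (K.lt b hb) Z')⁻¹ := by rw [← h6', mul_inv_cancel_right]
      rw [e]
      exact mul_mem h3 (inv_mem h7)
    have h10 : ph hp k (K.lt b hb) Z' ∈ Subgroup.centralizer ((ph hp k (K.lt b hb)).range : Set ↥(D.group k)) := by
      have e : ph hp k (K.lt b hb) Z' = (ph hp k hb Z)⁻¹ * x := by rw [← h6', inv_mul_cancel_left]
      rw [e]
      exact mul_mem (inv_mem h8) h4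
    have hc : Commute (ph hp k hb Z) (ph hp k (K.lt b hb) Z') := Subgroup.mem_centralizer_iff.1 h7 _ ⟨Z, rfl⟩
    rw [← h6', hc.mul_pow, one hb Z h9, one _ Z' h10, mul_one]

/-- the ranges lie in `LC` -/
theorem Q_le_LC [IsAlgClosed k] {g : ℕ → ℕ} (K : Ort D g) {b : ℕ} (hb : b < D.nroots) :
    (ph hp k hb).range ⊔ (ph hp k (K.lt b hb)).range ≤ LC hp (k := k) hb ∧
    (ph hp k hb).range ⊔ (ph hp k (K.lt b hb)).range ≤ LC hp (k := k) (K.lt b hb) := by
  have hcb := K.lt b hb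
  rcases K.ort b hb with h | ⟨e2, e3, e4, e5, e6⟩
  · have : ∀ c' (hc' : c' < D.nroots), c' = b → (ph hp k hb).range ⊔ (ph hp k hc').range ≤ LC hp (k := k) hb ∧
        (ph hp k hb).range ⊔ (ph hp k hc').range ≤ LC hp (k := k) hc' := by
      rintro c' hc' rfl
      exact ⟨sup_le (ph_le_LC hp hb) (ph_le_LC hp hb), sup_le (ph_le_LC hp hb) (ph_le_LC hp hb)⟩
    exact this (g b) hcb h
  · by_cases e1 : g b = b
    · have : ∀ c' (hc' : c' < D.nroots), c' = b → (ph hp k hb).range ⊔ (ph hp k hc').range ≤ LC hp (k := k) hb ∧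
          (ph hp k hb).range ⊔ (ph hp k hc').range ≤ LC hp (k := k) hc' := by
        rintro c' hc' rfl
        exact ⟨sup_le (ph_le_LC hp hb) (ph_le_LC hp hb), sup_le (ph_le_LC hp hb) (ph_le_LC hp hb)⟩
      exact this (g b) hcb e1
    · have hcomm := ph_comm hp (k := k) hb hcb e1 e2 e3 e4 e5 e6
      have hcomm' : (ph hp k hb).range ≤ Subgroup.centralizer ((ph hp k hcb).range : Set ↥(D.group k)) := by
        intro x hx
        rw [Subgroup.mem_centralizer_iff]
        intro y hy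
        exact (Subgroup.mem_centralizer_iff.1 (hcomm hy) _ hx).symm
      exact ⟨sup_le (ph_le_LC hp hb) (hcomm.trans (cent_le_LC hp hb)),
        sup_le (hcomm'.trans (cent_le_LC hp hcb)) (ph_le_LC hp hcb)⟩

/-- the torus normalises -/
theorem Q_norm [IsAlgClosed k] (p : ℕ) [Fact p.Prime] [CharP k p] (hk : LocFin k) {g : ℕ → ℕ} (K : Ort D g) {b : ℕ}
    (hb : b < D.nroots) : ∀ t ∈ TT D k, ∀ x ∈ (ph hp k hb).range ⊔ (ph hp k (K.lt b hb)).range,
      t * x * t⁻¹ ∈ (ph hp k hb).range ⊔ (ph hp k (K.lt b hb)).range := by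
  intro t ht x hx
  have h5 : (ph hp k hb).range ⊔ (ph hp k (K.lt b hb)).range ≤
      ((ph hp k hb).range ⊔ (ph hp k (K.lt b hb)).range).comap (MulAut.conj t).toMonoidHom := by
    refine sup_le (fun y hy => ?_) (fun y hy => ?_)
    · exact Subgroup.mem_sup_left (LC_norm hp hb (TT_le_LC hp hb p hk ht) hy)
    · exact Subgroup.mem_sup_right (LC_norm hp (K.lt b hb) (TT_le_LC hp (K.lt b hb) p hk ht) hy)
  exact h5 hx

end Q

end Cfsg.Agent.H167.RV
end

-- part: H167/RV/TorB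
section
/-!
# TEAM RV: `t`-groups normalised by toral `s`-elements are toral (helper167)

`torA` : `Y` a group of toral elements of prime order `s ≠ 2` of a finite `G ≤ D.group k`; the roots which are
proportional on `Y` are `± b, ± g b` (`ChkS`), `b` and `g b` strongly orthogonal (`Ort`). Then the `t`-subgroups of
`G` normalised by `Y`, `t ≠ 2, s, p`, lie in the torus.
-/

set_option autoImplicit false
set_option linter.unusedSectionVars false

namespace Cfsg.Agent.H167.RV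

open CoxeterSystem Cfsg Cfsg.Lie Cfsg.Lie.ChevalleyDatum
open Cfsg.Agent.ChevalleyStructure Cfsg.Agent.ChevalleyStructure.Elts Cfsg.Agent.ChevalleyStructure.CoxeterGeom
  Cfsg.Agent.ChevalleyStructure.CoxeterGeomTypes Cfsg.Agent.ChevalleyStructure.NPerm
open Cfsg.Agent.Tits.Roots Cfsg.Agent.Tits.Core Cfsg.Agent.Nodes Cfsg.Agent.Nodes.Reps Cfsg.Agent.Nodes.BNOf
  Cfsg.Agent.Nodes.RGDChev Cfsg.Agent.Nodes.Bruhat Cfsg.Agent.Nodes.NormalForm
open Cfsg.Agent.KFacts.RgdField Cfsg.Agent.KFacts.RgdChevCoord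
open Cfsg.Agent.BpExc Cfsg.Agent.BpExc.TorCent Cfsg.Agent.BpExc.TorChev Cfsg.Agent.BpExc.Tow
  Cfsg.Agent.BpExc.TowChev Cfsg.Agent.BpExc.Fr Cfsg.Agent.BpExc.Pair Cfsg.Agent.BpExc.LangFr Cfsg.Agent.GpExc.Field
  Cfsg.Agent.BpExc.TorAll
open Cfsg.Agent.H469.Exc Cfsg.Agent.H469.Exc.SigFr
open Cfsg.Agent.Nodes.RGDFoldSL
open Cfsg.Agent.ChevalleyStructure.SL2Hom (up lo mem_closure_SL2)
open Cfsg.Agent.H167.EX
open Module

universe u v

/-! ### group theory -/

/-- a `t`-group is commutative if the central commutators are trivial -/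
theorem comm_of_central {G : Type*} [Group G] [Finite G] {t : ℕ} (ht : t.Prime) (hG : IsPGroup t G)
    (h : ∀ v w : G, (∀ x : G, (v * w * v⁻¹ * w⁻¹) * x = x * (v * w * v⁻¹ * w⁻¹)) → v * w * v⁻¹ * w⁻¹ = 1) :
    ∀ v w : G, v * w = w * v := by
  have hft : Fact t.Prime := ⟨ht⟩
  by_contra hcon
  push Not at hcon
  obtain ⟨v0, w0, h0⟩ := hcon
  have hnt : Nontrivial (G ⧸ Subgroup.center G) := by
    refine ⟨⟨(v0 : G ⧸ Subgroup.center G), 1, fun h1 => ?_⟩⟩
    rw [QuotientGroup.eq_one_iff, Subgroup.mem_center_iff] at h1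
    exact h0 (h1 w0).symm
  have hq : IsPGroup t (G ⧸ Subgroup.center G) := hG.to_quotient _
  have := hq.center_nontrivial
  obtain ⟨⟨c, hc⟩, hc1⟩ := exists_ne (1 : Subgroup.center (G ⧸ Subgroup.center G))
  obtain ⟨v, rfl⟩ := QuotientGroup.mk_surjective c
  apply hc1
  apply Subtype.ext
  rw [Subgroup.coe_one]
  rw [QuotientGroup.eq_one_iff, Subgroup.mem_center_iff]
  intro w
  have h1 : ((v * w * v⁻¹ * w⁻¹ : G) : G ⧸ Subgroup.center G) = 1 := by
    have h2 := Subgroup.mem_center_iff.1 hc (w : G ⧸ Subgroup.center G)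
    rw [QuotientGroup.mk_mul, QuotientGroup.mk_mul, QuotientGroup.mk_mul, ← h2, QuotientGroup.mk_inv,
      QuotientGroup.mk_inv]
    group
  rw [QuotientGroup.eq_one_iff, Subgroup.mem_center_iff] at h1
  have h2 := h v w fun x => (h1 x).symm
  have e : v * w = v * w * v⁻¹ * w⁻¹ * (w * v) := by group
  rw [e, h2, one_mul]

theorem mem_of_pow_cop {G : Type*} [Group G] {K : Subgroup G} {v : G} {m n : ℕ} (hm : m.Coprime n) (hv : v ^ m = 1)
    (h : v ^ n ∈ K) : v ∈ K := by
  have hcop : Nat.Coprime (orderOf v) n := Nat.Coprime.coprime_dvd_left (orderOf_dvd_of_pow_eq_one hv) hm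
  exact (Subgroup.zpowers_le.2 h) (mem_zpowers_pow_iff.2 hcop.symm)

/-- the conditions on the exponents `e j b` of the toral elements, mod `s` -/
structure ChkS (D : ChevalleyDatum) (s : ℕ) {ι : Type*} (e : ι → ℕ → ℤ) (g : ℕ → ℕ) : Prop where
  ne : ∀ b < D.nroots, ∃ j, ¬ (s : ℤ) ∣ e j b
  sep : ∀ b < D.nroots, ∀ b' < D.nroots, ∀ c : ℤ, (∀ j, (s : ℤ) ∣ e j b' - c * e j b) →
    b' = b ∨ b' = D.neg b ∨ b' = g b ∨ b' = D.neg (g b)

theorem zpow_prim {k : Type u} [Field k] {ζ : k} {s : ℕ} (hs : s.Prime) (hζ : IsPrimitiveRoot ζ s) {a b : ℤ}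
    (h : ζ ^ a = ζ ^ b) : (s : ℤ) ∣ a - b := by
  have h0 : ζ ≠ 0 := hζ.ne_zero hs.ne_zero
  have h1 : ζ ^ (a - b) = 1 := by rw [zpow_sub₀ h0, h, div_self (zpow_ne_zero _ h0)]
  exact (hζ.zpow_eq_one_iff_dvd _).1 h1

section

variable {D : ChevalleyDatum} {l : ℕ} {M : CoxeterMatrix (Fin l)} (hp : IsType D l M) {k : Type u} [Field k]

theorem ch_zpow' (p : ℕ) [Fact p.Prime] [CharP k p] (hk : LocFin k) {b : ℕ} (hb : b < D.nroots)
    {x : ↥(D.group k)} (hx : x ∈ TT D k) (c : ℤ) : ch hp (vec D l b) (x ^ c) = ch hp (vec D l b) x ^ c := by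
  obtain ⟨n, rfl | rfl⟩ := c.eq_nat_or_neg
  · rw [zpow_natCast, zpow_natCast, ch_pow hp p hk hb hx]
  · have hxn := pow_mem hx n
    have h4 : ch hp (vec D l b) ((x ^ n)⁻¹) * ch hp (vec D l b) x ^ n = 1 := by
      rw [← ch_pow hp p hk hb hx, ← ch_mul hp p hk hb (inv_mem hxn) hxn, inv_mul_cancel, ch_one hp p hk hb]
    rw [zpow_neg, zpow_natCast, zpow_neg, zpow_natCast]
    exact eq_inv_of_mul_eq_one_left h4

/-- **`t`-groups normalised by the toral elements of order `s` are toral.** -/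
theorem torA [IsAlgClosed k] (p : ℕ) [Fact p.Prime] [CharP k p] (hk : LocFin k) {s : ℕ} (hsp : s.Prime) (hs2 : s ≠ 2)
    {ζ : k} (hζ : IsPrimitiveRoot ζ s) {ι : Type*} {e : ι → ℕ → ℤ} {g : ℕ → ℕ} (K : ChkS D s e g) (O : Ort D g)
    (h0 : 0 < D.nroots) {G : Type*} [Group G] [Finite G] (f : G →* ↥(D.group k)) (hf : Function.Injective f)
    {Y : Subgroup G} (hYT : ∀ y ∈ Y, f y ∈ TT D k) (hYs : ∀ y ∈ Y, y ^ s = 1) (y : ι → G) (hy : ∀ j, y j ∈ Y)
    (hch : ∀ j, ∀ b < D.nroots, ch hp (vec D l b) (f (y j)) = ζ ^ e j b) {t : ℕ} (ht : t.Prime) (ht2 : t ≠ 2)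
    (hts : t ≠ s) (htp : t ≠ p) {R : Subgroup G} (hR : IsPGroup t R) (hYR : ∀ y ∈ Y, ∀ x ∈ R, y * x * y⁻¹ ∈ R) :
    ∀ x ∈ R, f x ∈ TT D k := by
  have hfs : Fact s.Prime := ⟨hsp⟩
  have hft : Fact t.Prime := ⟨ht⟩
  have hpp : p.Prime := Fact.out
  -- `Y` is elementary abelian
  have hYc : ∀ a ∈ Y, ∀ b ∈ Y, a * b = b * a := by
    intro a ha b hb
    apply hf
    rw [map_mul, map_mul]
    exact TT_comm hp _ (hYT a ha) _ (hYT b hb)
  have hYe : IsElementaryAbelian s Y := by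
    refine ⟨⟨⟨fun a b => Subtype.ext (hYc a a.2 b b.2)⟩⟩, fun a ha => hYs a ha⟩
  have hY1 : Y ≠ ⊥ := by
    rintro rfl
    obtain ⟨j, hj⟩ := K.ne 0 h0
    have h1 := hch j 0 h0
    rw [Subgroup.mem_bot.1 (hy j), map_one, ch_one hp p hk h0] at h1
    apply hj
    have h2 : ζ ^ e j 0 = ζ ^ (0 : ℤ) := by rw [zpow_zero, ← h1]
    have h3 := zpow_prim hsp hζ h2
    rwa [sub_zero] at h3
  have hRc : ¬ s ∣ Nat.card R := by
    intro h
    obtain ⟨n, hn⟩ := IsPGroup.iff_card.1 hR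
    rw [hn] at h
    exact hts ((Nat.prime_dvd_prime_iff_eq hsp ht).1 (hsp.dvd_of_dvd_pow h)).symm
  have hYn : Y ≤ Subgroup.normalizer (R : Set G) := by
    intro a ha
    have : Finite (R : Set G) := inferInstance
    exact Subgroup.mem_normalizer_fintype (fun v hv => hYR a ha v hv)
  have htodd : Odd t := ht.odd_of_ne_two ht2
  have hsodd : Odd s := hsp.odd_of_ne_two hs2
  -- the orders
  have hord : ∀ v ∈ R, ∃ n : ℕ, v ^ t ^ n = 1 := by
    intro v hv
    obtain ⟨n, hn⟩ := hR ⟨v, hv⟩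
    exact ⟨n, congrArg Subtype.val hn⟩
  have hcop : ∀ n m : ℕ, (t ^ n).Coprime (s ^ m) := fun n m =>
    Nat.Coprime.pow n m ((Nat.coprime_primes ht hsp).2 hts)
  have hlift : ∀ {K' : Subgroup ↥(D.group k)} {v : G} {m : ℕ}, v ∈ R → f v ^ s ^ m ∈ K' → f v ∈ K' := by
    intro K' v m hv h
    obtain ⟨n, hn⟩ := hord v hv
    refine mem_of_pow_cop (hcop n m) ?_ h
    rw [← map_pow, hn, map_one]
  -- no root is trivial on `Y`
  have hnoY : ∀ v ∈ R, (∀ a ∈ Y, v * a = a * v) → f v ∈ TT D k := by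
    intro v hv hc
    obtain ⟨m, hm⟩ := pow_mem_set hp hk p (S := f '' (Y : Set G)) (by
      rintro _ ⟨a, ha, rfl⟩
      exact hYT a ha) hsp (by
      rintro _ ⟨a, ha, rfl⟩
      exact ⟨1, by rw [pow_one, ← map_pow, hYs a ha, map_one]⟩) (g := f v) (by
      rintro _ ⟨a, ha, rfl⟩
      rw [← map_mul, hc a ha, map_mul])
    refine hlift hv ((sup_le (RGD.Sup_le fun a ha => ?_) le_rfl : _ ≤ TT D k) hm)
    exfalso
    obtain ⟨b, hb, rfl⟩ := (isRoot_iff hp M.toCoxeterSystem a).1 ha.1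
    obtain ⟨j, hj⟩ := K.ne b hb
    have h3 := ha.2 _ ⟨y j, hy j, rfl⟩
    rw [hch j b hb] at h3
    have h4 := zpow_prim hsp hζ (h3.trans (zpow_zero ζ).symm)
    rw [sub_zero] at h4
    exact hj h4
  -- coprime generation
  have hsup := Cfsg.Agent.Lib.CoprimeHyperplane.iSup_centralizer_hyperplane (p := s) hYe hY1 hRc hYn
  have hmain : (⨆ B : {B : Subgroup G // B ≤ Y ∧ B.relIndex Y = s},
      R ⊓ Subgroup.centralizer ((B : Subgroup G) : Set G)) ≤ (TT D k).comap f := by
    refine iSup_le ?_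
    rintro ⟨B, hBY, hBi⟩
    simp only
    set C : Subgroup G := R ⊓ Subgroup.centralizer (B : Set G) with hC
    have hpm : ∀ v ∈ C, f v ∈ SetC.MMs M.toCoxeterSystem hp.isCartan (XX D l k) (ch hp) (f '' (B : Set G)) ⊔
        TT D k := by
      intro v hv
      obtain ⟨m, hm⟩ := pow_mem_set hp hk p (S := f '' (B : Set G)) (by
        rintro _ ⟨a, ha, rfl⟩
        exact hYT a (hBY ha)) hsp (by
        rintro _ ⟨a, ha, rfl⟩
        exact ⟨1, by rw [pow_one, ← map_pow, hYs a (hBY ha), map_one]⟩) (g := f v) (by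
        rintro _ ⟨a, ha, rfl⟩
        rw [← map_mul, ← Subgroup.mem_centralizer_iff.1 hv.2 a ha, map_mul])
      exact hlift hv.1 hm
    by_cases hroot : ∃ b < D.nroots, ∀ a ∈ B, ch hp (vec D l b) (f a) = 1
    swap
    · intro v hv
      refine (sup_le (RGD.Sup_le fun a ha => ?_) le_rfl : _ ≤ TT D k) (hpm v hv)
      exfalso
      obtain ⟨b, hb, rfl⟩ := (isRoot_iff hp M.toCoxeterSystem a).1 ha.1
      exact hroot ⟨b, hb, fun a ha' => ha.2 _ ⟨a, ha', rfl⟩⟩
    obtain ⟨b, hb, hbB⟩ := hroot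
    obtain ⟨j0, hj0⟩ := K.ne b hb
    have hy0B : y j0 ∉ B := by
      intro h
      have h3 := hbB _ h
      rw [hch j0 b hb] at h3
      have h4 := zpow_prim hsp hζ (h3.trans (zpow_zero ζ).symm)
      rw [sub_zero] at h4
      exact hj0 h4
    -- `Y = B ⟨y j0⟩`
    have hYB : ∀ a ∈ Y, ∃ β ∈ B, ∃ c : ℤ, a = β * y j0 ^ c := by
      have h1 : B ⊔ Subgroup.zpowers (y j0) ≤ Y := sup_le hBY (Subgroup.zpowers_le.2 (hy j0))
      have h2 : B.relIndex (B ⊔ Subgroup.zpowers (y j0)) * (B ⊔ Subgroup.zpowers (y j0)).relIndex Y = s := by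
        rw [Subgroup.relIndex_mul_relIndex _ _ _ le_sup_left h1, hBi]
      have h3 : B.relIndex (B ⊔ Subgroup.zpowers (y j0)) ≠ 1 := by
        intro h
        rw [Subgroup.relIndex_eq_one] at h
        exact hy0B (h (Subgroup.mem_sup_right (Subgroup.mem_zpowers _)))
      have h4 : (B ⊔ Subgroup.zpowers (y j0)).relIndex Y = 1 := by
        rcases (Nat.dvd_prime hsp).1 (Dvd.intro _ h2) with h | h
        · exact absurd h h3
        · rw [h] at h2
          exact Nat.eq_of_mul_eq_mul_left hsp.pos (h2.trans (mul_one s).symm)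
      rw [Subgroup.relIndex_eq_one] at h4
      intro a ha
      have hn : Subgroup.zpowers (y j0) ≤ Subgroup.normalizer (B : Set G) := by
        rw [Subgroup.zpowers_le, Subgroup.mem_normalizer_iff]
        intro x
        constructor
        · intro hx
          rw [hYc _ (hy j0) x (hBY hx), mul_inv_cancel_right]
          exact hx
        · intro hx
          have h5 := hYc _ (hy j0) _ (hBY hx)
          have h6 : y j0 * x = x * y j0 → y j0 * x * (y j0)⁻¹ = x := fun h => by rw [h, mul_inv_cancel_right]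
          have h7 : y j0 * (y j0 * x * (y j0)⁻¹) = y j0 * x := by rw [h5, inv_mul_cancel_right]
          have h8 : y j0 * x * (y j0)⁻¹ = x := mul_left_cancel h7
          rwa [h8] at hx
      have h5 : a ∈ ((B ⊔ Subgroup.zpowers (y j0) : Subgroup G) : Set G) := h4 ha
      rw [Subgroup.coe_mul_of_right_le_normalizer_left _ _ hn] at h5
      obtain ⟨β, hβ, z, hz, rfl⟩ := h5
      obtain ⟨c, rfl⟩ := Subgroup.mem_zpowers_iff.1 hz
      exact ⟨β, hβ, c, rfl⟩
    -- the roots trivial on `B`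
    have hroots : ∀ b' < D.nroots, (∀ a ∈ B, ch hp (vec D l b') (f a) = 1) →
        b' = b ∨ b' = D.neg b ∨ b' = g b ∨ b' = D.neg (g b) := by
      intro b' hb' hb'B
      have hcong : ∀ {b1 : ℕ}, b1 < D.nroots → (∀ a ∈ B, ch hp (vec D l b1) (f a) = 1) → ∀ (j : ι) {β : G} {c : ℤ},
          β ∈ B → y j = β * y j0 ^ c → (s : ℤ) ∣ e j b1 - c * e j0 b1 := by
        intro b1 hb1 h1 j β c hβ hjc
        apply zpow_prim hsp hζ
        rw [← hch j b1 hb1, hjc, map_mul, ch_mul hp p hk hb1 (hYT β (hBY hβ)) (by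
          rw [map_zpow]; exact zpow_mem (hYT _ (hy j0)) c), h1 β hβ, one_mul, map_zpow,
          ch_zpow' hp p hk hb1 (hYT _ (hy j0)), hch j0 b1 hb1, ← zpow_mul, mul_comm]
      have hcs : IsCoprime (e j0 b) (s : ℤ) := by
        rw [isCoprime_comm]
        exact (Nat.prime_iff_prime_int.1 hsp).coprime_iff_not_dvd.2 hj0
      obtain ⟨a1, a2, ha12⟩ := hcs
      refine K.sep b hb b' hb' (e j0 b' * a1) fun j => ?_
      obtain ⟨β, hβ, c, hjc⟩ := hYB (y j) (hy j)
      obtain ⟨z1, hz1⟩ := hcong hb hbB j hβ hjc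
      obtain ⟨z2, hz2⟩ := hcong hb' hb'B j hβ hjc
      refine ⟨z2 + c * e j0 b' * a2 - e j0 b' * a1 * z1, ?_⟩
      linear_combination hz2 - e j0 b' * a1 * hz1 - c * e j0 b' * ha12
    set c := g b with hcdef
    have hcb : c < D.nroots := O.lt b hb
    set Q : Subgroup ↥(D.group k) := (ph hp k hb).range ⊔ (ph hp k hcb).range with hQ
    have hX1 : ∀ {s : ℕ} (hs : s < D.nroots), XX D l k (vec D l s) ≤ (ph hp k hs).range := by
      intro s hs y hy
      obtain ⟨t, ht⟩ := (LangThm.mem_XX_vec hp hs).1 hy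
      exact ⟨up t, by rw [ph_up]; exact (Subtype.ext ht : y = xs hp.inList s t).symm⟩
    have hX2 : ∀ {s : ℕ} (hs : s < D.nroots), XX D l k (vec D l (D.neg s)) ≤ (ph hp k hs).range := by
      intro s hs y hy
      obtain ⟨t, ht⟩ := (LangThm.mem_XX_vec hp (neg_lt hp.inList hs)).1 hy
      exact ⟨lo t, by rw [ph_lo]; exact (Subtype.ext ht : y = xs hp.inList (D.neg s) t).symm⟩
    have hMQ : SetC.MMs M.toCoxeterSystem hp.isCartan (XX D l k) (ch hp) (f '' (B : Set G)) ≤ Q := by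
      refine RGD.Sup_le fun a ha => ?_
      obtain ⟨b', hb', rfl⟩ := (isRoot_iff hp M.toCoxeterSystem a).1 ha.1
      rcases hroots b' hb' (fun a ha' => ha.2 _ ⟨a, ha', rfl⟩) with e | e | e | e
      · rw [e]; exact (hX1 hb).trans le_sup_left
      · rw [e]; exact (hX2 hb).trans le_sup_left
      · rw [e]; exact (hX1 hcb).trans le_sup_right
      · rw [e]; exact (hX2 hcb).trans le_sup_right
    have hCQ : ∀ v ∈ C, f v ∈ Q ⊔ TT D k := fun v hv => (sup_le_sup_right hMQ _ : _ ≤ _) (hpm v hv)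
    have hQ1 := Q_le_LC hp (k := k) O hb
    have hT1 := TT_le_LC hp hb p hk
    have hT2 := TT_le_LC hp hcb p hk
    have hQn := Q_norm hp p hk O hb
    -- elements of `Q` of odd order centralising both
    have hkill : ∀ u ∈ C, f u ∈ Q → f u ∈ Subgroup.centralizer ((ph hp k hb).range : Set ↥(D.group k)) →
        f u ∈ Subgroup.centralizer ((ph hp k hcb).range : Set ↥(D.group k)) → u = 1 := by
      intro u hu h1 h2 h3
      have h4 := sq_of_cent' hp p hk O hb h1 h2 h3
      obtain ⟨n, hn⟩ := hord u hu.1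
      apply hf
      rw [map_one]
      exact eq_one_of_odd h4 (htodd.pow (n := n)) (by rw [← map_pow, hn, map_one])
    -- `C` is commutative
    have hCcomm : ∀ v ∈ C, ∀ w ∈ C, v * w = w * v := by
      have hCp : IsPGroup t C := hR.to_le inf_le_left
      have := comm_of_central (G := C) ht hCp (by
        rintro ⟨v, hv⟩ ⟨w, hw⟩ hcen
        have hu : v * w * v⁻¹ * w⁻¹ ∈ C := mul_mem (mul_mem (mul_mem hv hw) (inv_mem hv)) (inv_mem hw)
        have hu1 : v * w * v⁻¹ * w⁻¹ * v = v * (v * w * v⁻¹ * w⁻¹) := congrArg Subtype.val (hcen ⟨v, hv⟩)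
        have hu2 : v * w * v⁻¹ * w⁻¹ * w = w * (v * w * v⁻¹ * w⁻¹) := congrArg Subtype.val (hcen ⟨w, hw⟩)
        have hu1' := congrArg f hu1
        have hu2' := congrArg f hu2
        simp only [map_mul, map_inv] at hu1' hu2'
        obtain ⟨n1, hn1⟩ := hord v hv.1
        obtain ⟨n2, hn2⟩ := hord w hw.1
        have hv' : f v ^ t ^ (n1 + n2) = 1 := by
          rw [← map_pow, pow_add, pow_mul, hn1, one_pow, map_one]
        have hw' : f w ^ t ^ (n1 + n2) = 1 := by
          rw [← map_pow, pow_add, mul_comm, pow_mul, hn2, one_pow, map_one]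
        have hodd : Odd (t ^ (n1 + n2)) := htodd.pow
        have hvQ := hCQ v hv
        have hwQ := hCQ w hw
        have hvw1 := comm_LC' hp hb p hk (O.one b hb) ((sup_le hQ1.1 hT1 : _ ≤ LC hp (k := k) hb) hvQ)
          ((sup_le hQ1.1 hT1 : _ ≤ LC hp (k := k) hb) hwQ) hodd hv' hw' hu1' hu2'
        have hvw2 := comm_LC' hp hcb p hk (O.one c hcb) ((sup_le hQ1.2 hT2 : _ ≤ LC hp (k := k) hcb) hvQ)
          ((sup_le hQ1.2 hT2 : _ ≤ LC hp (k := k) hcb) hwQ) hodd hv' hw' hu1' hu2'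
        have huQ := comm_mem_of_norm (TT_comm hp) hQn hvQ hwQ
        have e : f (v * w * v⁻¹ * w⁻¹) = f v * f w * (f v)⁻¹ * (f w)⁻¹ := by simp only [map_mul, map_inv]
        have hk1 : v * w * v⁻¹ * w⁻¹ = 1 :=
          hkill _ hu (by rw [e]; exact huQ) (by rw [e]; exact hvw1) (by rw [e]; exact hvw2)
        exact Subtype.ext hk1)
      intro v hv w hw
      exact congrArg Subtype.val (this ⟨v, hv⟩ ⟨w, hw⟩)
    -- `Y` centralises `C`
    intro v hv
    refine hnoY v hv.1 fun a ha => ?_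
    have hav : a * v * a⁻¹ ∈ C := by
      refine ⟨hYR a ha v hv.1, ?_⟩
      refine Subgroup.mem_centralizer_iff.2 fun β hβ => ?_
      have h1 : β * v = v * β := Subgroup.mem_centralizer_iff.1 hv.2 β hβ
      have h2 := hYc β (hBY hβ) a ha
      have h3 := hYc β (hBY hβ) a⁻¹ (inv_mem ha)
      calc β * (a * v * a⁻¹) = (β * a) * v * a⁻¹ := by group
        _ = a * (β * v) * a⁻¹ := by rw [h2]; group
        _ = a * v * (β * a⁻¹) := by rw [h1]; group
        _ = a * v * a⁻¹ * β := by rw [h3]; group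
    have hu : a * v * a⁻¹ * v⁻¹ ∈ C := mul_mem hav (inv_mem hv)
    obtain ⟨n, hn⟩ := hord v hv.1
    have hv' : f v ^ t ^ n = 1 := by rw [← map_pow, hn, map_one]
    have ha' : f a ^ s = 1 := by rw [← map_pow, hYs a ha, map_one]
    have hcc := congrArg f (hCcomm _ hav v hv)
    simp only [map_mul, map_inv] at hcc
    have htk : ((t ^ n : ℕ) : k) ≠ 0 := by
      intro h
      rw [CharP.cast_eq_zero_iff k p] at h
      exact htp ((Nat.prime_dvd_prime_iff_eq hpp ht).1 (hpp.dvd_of_dvd_pow h)).symm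
    have hvQ := hCQ v hv
    have hvw1 := comm_LC_norm hp hb p hk (O.one b hb) ((sup_le hQ1.1 hT1 : _ ≤ LC hp (k := k) hb) hvQ)
      (hT1 (hYT a ha)) (htodd.pow (n := n)) htk hv' hsodd ha' hcc
    have hvw2 := comm_LC_norm hp hcb p hk (O.one c hcb) ((sup_le hQ1.2 hT2 : _ ≤ LC hp (k := k) hcb) hvQ)
      (hT2 (hYT a ha)) (htodd.pow (n := n)) htk hv' hsodd ha' hcc
    have huQ := comm_mem_of_norm (TT_comm hp) hQn (Subgroup.mem_sup_right (hYT a ha) : f a ∈ Q ⊔ TT D k) hvQ
    have e1 : f (a * v * a⁻¹ * v⁻¹) = f a * f v * (f a)⁻¹ * (f v)⁻¹ := by simp only [map_mul, map_inv]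
    have h5 := hkill _ hu (by rw [e1]; exact huQ) (by rw [e1]; exact hvw1) (by rw [e1]; exact hvw2)
    have h6 : a * v = v * a := by
      have e : a * v = a * v * a⁻¹ * v⁻¹ * (v * a) := by group
      rw [e, h5, one_mul]
    exact h6.symm
  rw [hsup] at hmain
  exact fun x hx => hmain hx

end

end Cfsg.Agent.H167.RV
end

-- part: H167/RV/TorC
section
/-!
# TEAM RV: `FHall` from toral elements of order `s` (helper167)
-/

set_option autoImplicit false
set_option linter.unusedSectionVars false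

namespace Cfsg.Agent.H167.RV

open CoxeterSystem Cfsg Cfsg.Lie Cfsg.Lie.ChevalleyDatum
open Cfsg.Agent.ChevalleyStructure Cfsg.Agent.ChevalleyStructure.Elts Cfsg.Agent.ChevalleyStructure.CoxeterGeom
  Cfsg.Agent.ChevalleyStructure.CoxeterGeomTypes Cfsg.Agent.ChevalleyStructure.NPerm
open Cfsg.Agent.Tits.Roots Cfsg.Agent.Tits.Core Cfsg.Agent.Nodes Cfsg.Agent.Nodes.Reps Cfsg.Agent.Nodes.BNOf
  Cfsg.Agent.Nodes.RGDChev Cfsg.Agent.Nodes.Bruhat
open Cfsg.Agent.KFacts.RgdField Cfsg.Agent.KFacts.RgdChevCoord Cfsg.Agent.BpExc.TorCent Cfsg.Agent.BpExc.TorChev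
open Cfsg.Agent.GpExc.Field Cfsg.Agent.BpExc.Tow Cfsg.Agent.BpExc.TowChev Cfsg.Agent.BpExc.Fr
  Cfsg.Agent.BpExc.LangFr Cfsg.Agent.H129.TorusChar Cfsg.Agent.H129.TorusMain Cfsg.Agent.H123.ExcZ
open Cfsg.Agent.BpExc Cfsg.Agent.H795.LangT Cfsg.Agent.H795.Core Cfsg.Agent.H795.NotAbT
open Cfsg.Agent.H572.ExcA Cfsg.Agent.H572.ExcB Cfsg.Agent.H572.ExcC Cfsg.Agent.H572.ExcD Cfsg.Agent.H572.LatQ
  Cfsg.Agent.H572.LatForm Cfsg.Agent.H572.ExcE
open Cfsg.Agent.H988.CPi Cfsg.Agent.H571.RV Cfsg.Agent.H553.OddHall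
open Subgroup

universe u v

variable {D : ChevalleyDatum} {l : ℕ} {M : CoxeterMatrix (Fin l)} {hp : IsType D l M}
  {k : Type u} [Field k] [IsAlgClosed k] {r e : ℕ} [Fact r.Prime] [CharP k r]
  {G : Type v} [Group G] {κ : G →* ↥(D.group k)} {τ : MulAut ↥(D.group k)}
  {θ : (Fin l → ℤ) ≃+ (Fin l → ℤ)}

/-- the toral elements of order `s` -/
def TY (κ : G →* ↥(D.group k)) (hinj : Function.Injective κ) (hp : IsType D l M) (s : ℕ) : Subgroup G where
  carrier := {x | x ∈ TG κ ∧ x ^ s = 1}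
  one_mem' := ⟨one_mem _, one_pow _⟩
  mul_mem' := by
    rintro a b ⟨ha, ha1⟩ ⟨hb, hb1⟩
    refine ⟨mul_mem ha hb, ?_⟩
    have hc : Commute a b := by
      apply hinj
      rw [map_mul, map_mul]
      exact TT_comm hp _ ha _ hb
    rw [hc.mul_pow, ha1, hb1, one_mul]
  inv_mem' := by
    rintro a ⟨ha, ha1⟩
    exact ⟨inv_mem ha, by rw [inv_pow, ha1, inv_one]⟩

/-- **`FHall` from the toral elements of order `s`.** -/
theorem fhall_emb [Finite G] (hk : LocFin k) (h : Emb hp r e κ τ θ) {s : ℕ} (hs : s.Prime) (hs2 : s ≠ 2) {ζ : k}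
    (hζ : IsPrimitiveRoot ζ s) {ι : Type*} {ex : ι → ℕ → ℤ} {g : ℕ → ℕ} (K : ChkS D s ex g) (O : Ort D g)
    (h0 : 0 < D.nroots) (a : ι → G) (ha : ∀ j, a j ∈ TG κ)
    (hax : ∀ j b, b < D.nroots → cX hp (κ (a j)) (vec D l b) = ζ ^ ex j b)
    {π : Set ℕ} (h2 : 2 ∉ π) (hsπ : s ∈ π) (hrπ : r ∉ π) (hE : ∃ H : Subgroup G, IsPiHall π H)
    (hPN : ∀ t, t.Prime → t ∈ π → t ≠ s → t ∣ Nat.card G → PairN t s G) : FHall π G := by
  have has : ∀ j, a j ^ s = 1 := by
    intro j
    apply h.inj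
    have hj : κ (a j) ∈ TT D k := ha j
    rw [map_pow κ (a j) s, map_one]
    refine cX_inj hp (pow_mem hj s) (one_mem _) fun i => ?_
    rw [cX_pow hp hj, cX_one, ← vec_simple hp i, hax j _ (simple_lt hp.inList (lt_rank hp i)), ← zpow_natCast,
      ← zpow_mul, mul_comm, zpow_mul, zpow_natCast, hζ.pow_eq_one, one_zpow]
  refine fhall_of_tor hs h2 hsπ hE (TG κ) (fun x hx y hy => ?_) (TY κ h.inj hp s) ?_ ?_ hPN
  · apply h.inj
    rw [map_mul, map_mul]
    exact TT_comm hp _ hx _ hy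
  · rintro ⟨x, hx, hx1⟩
    exact ⟨1, Subtype.ext (by rw [pow_one]; exact hx1)⟩
  · intro t ht htπ hts htG R hR hRn x hx
    refine torA hp r hk hs hs2 hζ K O h0 κ h.inj (Y := TY κ h.inj hp s) (fun y hy => hy.1) (fun y hy => hy.2) a
      (fun j => ⟨ha j, has j⟩) (fun j b hb => ?_) ht ?_ hts ?_ hR hRn x hx
    · rw [← cX_vec hp (ha j) hb]
      exact hax j b hb
    · rintro rfl
      exact h2 htπ
    · rintro rfl
      exact hrπ htπ

/-- **the full case** -/
theorem fhall_full [Finite G] (hk : LocFin k) (h : Emb hp r e κ τ θ) {d : ℕ} {Bi : Fin l → Fin l → ℤ}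
    (hB : InvC D l d Bi) (hd : d ≠ 0) {ε : ℤ} (hθ : ∀ x, θ x = ε • x)
    (hcm : ∀ a b, τ a = a → τ b = b → ∃ x, κ x = a * b * a⁻¹ * b⁻¹) {s : ℕ} [hs : Fact s.Prime] (hs2 : s ≠ 2)
    (hsr : s ≠ r) (hq : (s : ℤ) ∣ (r : ℤ) ^ e - ε) {g : ℕ → ℕ}
    (K : ChkS D s (fun (j : Fin l) b => pairing (cartanOf D l) j (vec D l b)) g) (O : Ort D g)
    (h0 : 0 < D.nroots) {π : Set ℕ} (h2 : 2 ∉ π) (hsπ : s ∈ π) (hrπ : r ∉ π) (hE : ∃ H : Subgroup G, IsPiHall π H)
    (hPN : ∀ t, t.Prime → t ∈ π → t ≠ s → t ∣ Nat.card G → PairN t s G) : FHall π G := by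
  obtain ⟨ζ, hζ⟩ := exists_zeta_pow (k := k) (r := r) (s := s) (a := 1) hsr
  rw [pow_one] at hζ
  have h1 := fun j => exists_cor_simple h hB hd hθ hcm hζ.pow_eq_one hs.out.ne_zero hq hk j
  choose a ha hax using h1
  exact fhall_emb hk h hs.out hs2 hζ K O h0 a ha (fun j b _ => hax j _) h2 hsπ hrπ hE hPN

/-- **the full case, untwisted** -/
theorem fhall_untw (hp : IsType D l M) {F : Type u} [Field F] [Fintype F] (X : Dat D l) {s : ℕ} [hs : Fact s.Prime]
    (hs2 : s ≠ 2) (hsF : (s : F) ≠ 0) (w : M.Group) {ε : ℤ}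
    (hε : ∀ x, rep M.toCoxeterSystem hp.isCartan w x = ε • x) (hq : (s : ℤ) ∣ (Fintype.card F : ℤ) - ε)
    {g : ℕ → ℕ} (K : ChkS D s (fun (j : Fin l) b => pairing (cartanOf D l) j (vec D l b)) g) (O : Ort D g)
    (h0 : 0 < D.nroots) {π : Set ℕ} (h2 : 2 ∉ π) (hsπ : s ∈ π) {p : ℕ} [CharP F p] (hpπ : p ∉ π)
    (hE : ∃ H : Subgroup ↥(D.group F), IsPiHall π H)
    (hPN : ∀ t, t.Prime → t ∈ π → t ≠ s → t ∣ Nat.card ↥(D.group F) → PairN t s ↥(D.group F)) :
    FHall π ↥(D.group F) := by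
  obtain ⟨r, e, hr, hrF, hrk, he, hqF, hk⟩ :=
    Cfsg.Agent.H129.TorusUntw.exists_closure (F := F) rfl
  have hrp : p = r := CharP.eq F ‹_› hrF
  subst hrp
  have hsr : s ≠ p := by
    rintro rfl
    exact hsF (CharP.cast_eq_zero F s)
  have hGf : Finite ↥(D.group F) := inferInstance
  have hset := setup_untw' hp X hk he hqF
  obtain ⟨κ, τ, z, hEm, hκ, hb⟩ := exists_emb (hp := hp) hk hset.1 he hset.2.1 hset.2.2.1 hset.2.2.2.1
    hset.2.2.2.2.1 w
  have hθ : ∀ x, ((AddEquiv.refl (Fin l → ℤ)).trans (repAut M.toCoxeterSystem hp.isCartan w)) x = ε • x := hε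
  have hcm' := fun a b => comm_of_comm (κ := κ) (τ := τ) hκ hb hset.2.2.2.2.2 a b
  refine fhall_full hk hEm X.hB X.hd0 hθ hcm' hs2 hsr ?_ K O h0 h2 hsπ hpπ hE hPN
  rw [hqF] at hq
  push_cast at hq ⊢
  exact hq

end Cfsg.Agent.H167.RV
end

-- part: H167/RV/ChkS
section
/-!
# TEAM RV: the combinatorial checks mod `s` (helper167)
-/

set_option autoImplicit false

namespace Cfsg.Agent.H167.RV

open Cfsg Cfsg.Lie Cfsg.Lie.ChevalleyDatum Cfsg.Agent.ChevalleyStructure Cfsg.Agent.Nodes.RGDChev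
open Cfsg.Agent.H167.EX
open Cfsg.Agent.ChevalleyStructure.RootVec

/-- the coordinates of the roots -/
def crd (D : ChevalleyDatum) (l b : ℕ) : List ℤ := (List.range l).map fun i => rt D b i

/-- scalar product of lists -/
def dotL : List ℤ → List ℤ → ℤ
  | a :: x, b :: y => a * b + dotL x y
  | _, _ => 0

/-- the values mod `s` of `c ·` the functionals, as one number -/
def cdS (s : ℕ) (c : ℤ) (x : List ℤ) : List (List ℤ) → ℕ
  | [] => 0
  | n :: N => ((c * dotL n x) % s).toNat + s * cdS s c x N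

/-- the entry of the table: index, code, the allowed indices, the codes of the multiples -/
def entry (D : ChevalleyDatum) (s : ℕ) (N : List (List ℤ)) (g : List ℕ) (l b : ℕ) : (ℕ × ℕ) × List ℕ × List ℕ :=
  ((b, cdS s 1 (crd D l b) N), [b, D.neg b, g.getD b 0, D.neg (g.getD b 0)],
    (List.range s).map fun c : ℕ => cdS s (c : ℤ) (crd D l b) N)

def chkT (T : List ((ℕ × ℕ) × List ℕ × List ℕ)) : Bool :=
  T.all fun u => !(Nat.beq u.1.2 0) && T.all fun v => !(u.2.2.any (Nat.beq v.1.2)) || u.2.1.any (Nat.beq v.1.1)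

theorem dotL_eq {l : ℕ} (n : Fin l → ℤ) (x : Fin l → ℤ) :
    dotL (List.ofFn n) (List.ofFn x) = ∑ i, n i * x i := by
  induction l with
  | zero => simp [dotL]
  | succ l ih =>
    rw [List.ofFn_succ, List.ofFn_succ, Fin.sum_univ_succ]
    show n 0 * x 0 + dotL _ _ = _
    rw [ih]

theorem crd_eq (D : ChevalleyDatum) (l b : ℕ) : crd D l b = List.ofFn (vec D l b) := by
  unfold crd
  apply List.ext_getElem
  · simp
  · intro i h1 h2
    simp [vec_apply]

theorem cdS_eq {s : ℕ} {c : ℤ} {x x' : List ℤ} {N : List (List ℤ)}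
    (h : ∀ n ∈ N, (s : ℤ) ∣ dotL n x' - c * dotL n x) : cdS s 1 x' N = cdS s (c % s) x N := by
  induction N with
  | nil => rfl
  | cons n N ih =>
    show ((1 * dotL n x') % s).toNat + s * cdS s 1 x' N = ((c % s * dotL n x) % s).toNat + s * cdS s (c % s) x N
    rw [ih fun n' hn' => h n' (List.mem_cons_of_mem _ hn'), one_mul]
    have h1 := h n List.mem_cons_self
    have h2 : dotL n x' % s = (c * dotL n x) % s := ((Int.modEq_iff_dvd).2 h1).symm
    have h3 : (c % s * dotL n x) % s = (c * dotL n x) % s := (Int.mod_modEq c s).mul_right _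
    rw [h2, h3]

theorem cdS_zero {s : ℕ} {x : List ℤ} {N : List (List ℤ)} (h : ∀ n ∈ N, (s : ℤ) ∣ dotL n x) : cdS s 1 x N = 0 := by
  induction N with
  | nil => rfl
  | cons n N ih =>
    show ((1 * dotL n x) % s).toNat + s * cdS s 1 x N = 0
    rw [ih fun n' hn' => h n' (List.mem_cons_of_mem _ hn'), one_mul, Int.emod_eq_zero_of_dvd (h n List.mem_cons_self)]
    rfl

theorem chkS_of {D : ChevalleyDatum} {s l m : ℕ} (hs : 0 < s) (Nf : Fin m → Fin l → ℤ) {N : List (List ℤ)}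
    (hN : N = List.ofFn fun j => List.ofFn (Nf j)) {g : List ℕ}
    (h : chkT ((List.range D.nroots).map (entry D s N g l)) = true) :
    ChkS D s (fun j b => ∑ i, Nf j i * vec D l b i) (fun b => g.getD b 0) := by
  have hdot : ∀ j b, dotL (List.ofFn (Nf j)) (crd D l b) = ∑ i, Nf j i * vec D l b i := fun j b => by
    rw [crd_eq, dotL_eq]
  have h1 := List.all_eq_true.1 h
  have key : ∀ b < D.nroots, cdS s 1 (crd D l b) N ≠ 0 ∧ ∀ b' < D.nroots,
      cdS s 1 (crd D l b') N ∈ ((List.range s).map fun c : ℕ => cdS s (c : ℤ) (crd D l b) N) →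
      b' ∈ [b, D.neg b, g.getD b 0, D.neg (g.getD b 0)] := by
    intro b hb
    have h2 := h1 _ (List.mem_map.2 ⟨b, List.mem_range.2 hb, rfl⟩)
    rw [Bool.and_eq_true] at h2
    refine ⟨fun h0 => ?_, fun b' hb' hm => ?_⟩
    · have h3 : (!(Nat.beq (cdS s 1 (crd D l b) N) 0)) = true := h2.1
      rw [h0] at h3
      exact absurd h3 (by decide)
    · have h3 := List.all_eq_true.1 h2.2 _ (List.mem_map.2 ⟨b', List.mem_range.2 hb', rfl⟩)
      rw [Bool.or_eq_true, Bool.not_eq_true'] at h3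
      rcases h3 with h3 | h3
      · exfalso
        have h4 : ((entry D s N g l b).2.2.any (Nat.beq (entry D s N g l b').1.2)) = true :=
          List.any_eq_true.2 ⟨_, hm, Nat.beq_refl _⟩
        rw [h4] at h3
        exact absurd h3 (by decide)
      · obtain ⟨x, hx, hx'⟩ := List.any_eq_true.1 h3
        have h4 : b' = x := Nat.eq_of_beq_eq_true hx'
        rw [h4]
        exact hx
  refine ⟨fun b hb => ?_, fun b hb b' hb' c hc => ?_⟩
  · by_contra hcon
    push Not at hcon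
    apply (key b hb).1
    apply cdS_zero
    intro n hn
    rw [hN, List.mem_ofFn] at hn
    obtain ⟨j, rfl⟩ := hn
    rw [hdot]
    exact hcon j
  · have h2 : cdS s 1 (crd D l b') N = cdS s (c % s) (crd D l b) N := by
      apply cdS_eq
      intro n hn
      rw [hN, List.mem_ofFn] at hn
      obtain ⟨j, rfl⟩ := hn
      rw [hdot, hdot]
      exact hc j
    have hs' : (0 : ℤ) < s := by exact_mod_cast hs
    obtain ⟨n, hn⟩ : ∃ n : ℕ, c % s = n := ⟨(c % s).toNat, (Int.toNat_of_nonneg (Int.emod_nonneg _ hs'.ne')).symm⟩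
    have hns : n < s := by
      have := Int.emod_lt_of_pos c hs'
      rw [hn] at this
      exact_mod_cast this
    have h3 := (key b hb).2 b' hb' (by
      rw [h2, hn]
      exact List.mem_map.2 ⟨n, List.mem_range.2 hns, rfl⟩)
    simpa using h3

/-- strong orthogonality, trivial case -/
theorem ort_id {D : ChevalleyDatum} {w : List ℕ} (h : oneB D w = true) : Ort D (fun b => (List.range D.nroots).getD b 0)
    where
  one := of_oneB h
  lt b hb := by
    rw [List.getD_eq_getElem _ _ (by simpa using hb), List.getElem_range]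
    exact hb
  ort b hb := Or.inl (by rw [List.getD_eq_getElem _ _ (by simpa using hb), List.getElem_range])

theorem ort_of {D : ChevalleyDatum} {g w : List ℕ} (h2 : oneB D w = true) (h4 : ortB D g = true) :
    Ort D (fun b => g.getD b 0) where
  one := of_oneB h2
  lt b hb := by
    have h5 := List.all_eq_true.1 h4 b (List.mem_range.2 hb)
    rw [Bool.and_eq_true, decide_eq_true_iff] at h5
    exact h5.1
  ort b hb := by
    have h5 := List.all_eq_true.1 h4 b (List.mem_range.2 hb)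
    rw [Bool.and_eq_true, Bool.or_eq_true, decide_eq_true_iff, decide_eq_true_iff, Bool.and_eq_true, Bool.and_eq_true,
      Bool.and_eq_true, Bool.and_eq_true, decide_eq_true_iff] at h5
    rcases h5.2 with h6 | ⟨⟨⟨⟨h6, h7⟩, h8⟩, h9⟩, h10⟩
    · exact Or.inl h6
    · exact Or.inr ⟨h6, h7, h8, h9, h10⟩

end Cfsg.Agent.H167.RV
end

-- part: H167/RV/Pack
section
/-!
# TEAM RV: the checks of `ChkS` with packed numbers (helper167)

The codes of the table are the 32-bit fields of one number `C`; for a multiple `m` the bits 31 of the fields of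
`(C ^^^ m * O) + (2^31 - 1) * O` are the fields of `C` different from `m`.
-/

set_option autoImplicit false

namespace Cfsg.Agent.H167.RV

open Cfsg Cfsg.Lie Cfsg.Lie.ChevalleyDatum

/-- packing of a list into fields of 32 bits -/
def pk : List ℕ → ℕ
  | [] => 0
  | a :: l => a + 2 ^ 32 * pk l

/-- the bits 31 of the allowed fields -/
def alw : List ℕ → ℕ
  | [] => 0
  | a :: l => Nat.lor (2 ^ (32 * a + 31)) (alw l)

theorem pk_mul (m : ℕ) (l : List ℕ) : m * pk l = pk (l.map (m * ·)) := by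
  induction l with
  | nil => rfl
  | cons a l ih =>
    show m * (a + 2 ^ 32 * pk l) = m * a + 2 ^ 32 * pk (l.map (m * ·))
    rw [← ih]; ring

theorem pk_add {α : Type*} (f g : α → ℕ) (l : List α) : pk (l.map f) + pk (l.map g) = pk (l.map fun x => f x + g x) := by
  induction l with
  | nil => rfl
  | cons a l ih =>
    show f a + 2 ^ 32 * pk (l.map f) + (g a + 2 ^ 32 * pk (l.map g)) = f a + g a + 2 ^ 32 * pk (l.map fun x => f x + g x)
    rw [← ih]; ring

theorem add_mul_xor {a b x y : ℕ} (ha : a < 2 ^ 32) (hb : b < 2 ^ 32) :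
    (a + 2 ^ 32 * x) ^^^ (b + 2 ^ 32 * y) = (a ^^^ b) + 2 ^ 32 * (x ^^^ y) := by
  have hab : a ^^^ b < 2 ^ 32 := Nat.xor_lt_two_pow ha hb
  refine Nat.eq_of_testBit_eq fun i => ?_
  rw [Nat.testBit_xor, add_comm a, add_comm b, add_comm (a ^^^ b), Nat.testBit_two_pow_mul_add _ ha,
    Nat.testBit_two_pow_mul_add _ hb, Nat.testBit_two_pow_mul_add _ hab]
  split_ifs <;> rw [Nat.testBit_xor]

theorem pk_xor {α : Type*} (f g : α → ℕ) (l : List α) (hf : ∀ x ∈ l, f x < 2 ^ 32) (hg : ∀ x ∈ l, g x < 2 ^ 32) :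
    pk (l.map f) ^^^ pk (l.map g) = pk (l.map fun x => f x ^^^ g x) := by
  induction l with
  | nil => simp [pk]
  | cons a l ih =>
    show (f a + 2 ^ 32 * pk (l.map f)) ^^^ (g a + 2 ^ 32 * pk (l.map g)) =
      (f a ^^^ g a) + 2 ^ 32 * pk (l.map fun x => f x ^^^ g x)
    rw [← ih (fun x hx => hf x (List.mem_cons_of_mem _ hx)) (fun x hx => hg x (List.mem_cons_of_mem _ hx)),
      add_mul_xor (hf a List.mem_cons_self) (hg a List.mem_cons_self)]

/-- the bits 31 -/
theorem testBit_pk (l : List ℕ) (hl : ∀ a ∈ l, a < 2 ^ 32) (i : ℕ) (hi : i < l.length) :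
    (pk l).testBit (32 * i + 31) = (l[i]).testBit 31 := by
  induction l generalizing i with
  | nil => simp at hi
  | cons a l ih =>
    show (a + 2 ^ 32 * pk l).testBit (32 * i + 31) = _
    rw [add_comm a, Nat.testBit_two_pow_mul_add _ (hl a List.mem_cons_self)]
    cases i with
    | zero => simp
    | succ i =>
      rw [if_neg (by omega), show 32 * (i + 1) + 31 - 32 = 32 * i + 31 by omega,
        ih (fun b hb => hl b (List.mem_cons_of_mem _ hb)) i (by simpa using hi)]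
      simp

theorem mem_of_alw {l : List ℕ} {i : ℕ} (h : (alw l).testBit (32 * i + 31) = true) : i ∈ l := by
  induction l with
  | nil =>
    exfalso
    change (0 : ℕ).testBit _ = true at h
    rw [Nat.zero_testBit] at h
    exact absurd h (by decide)
  | cons a l ih =>
    change (2 ^ (32 * a + 31) ||| alw l).testBit (32 * i + 31) = true at h
    rw [Nat.testBit_or, Bool.or_eq_true, Nat.testBit_two_pow, decide_eq_true_iff] at h
    rcases h with h | h
    · rw [show i = a by omega]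
      exact List.mem_cons_self
    · exact List.mem_cons_of_mem _ (ih h)

/-- the packed check: `C` the codes, `O` the ones, `F = 2^31 * O` -/
def chkP (C O F : ℕ) (T : List ((ℕ × ℕ) × List ℕ × List ℕ)) : Bool :=
  T.all fun u => !(Nat.beq u.1.2 0) && Nat.blt u.1.2 2147483648 && u.2.2.all fun m =>
    Nat.blt m 2147483648 &&
    Nat.beq (Nat.land (Nat.lor (Nat.add (Nat.xor C (Nat.mul m O)) (Nat.mul 2147483647 O)) (alw u.2.1)) F) F

theorem chkT_of_P {T : List ((ℕ × ℕ) × List ℕ × List ℕ)} {C O F : ℕ} (hC : pk (T.map fun u => u.1.2) = C)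
    (hO : pk (T.map fun _ => 1) = O) (hF : 2147483648 * O = F) (hi : (T.map fun u => u.1.1) = List.range T.length)
    (h : chkP C O F T = true) : chkT T = true := by
  have h1 : ∀ u ∈ T, u.1.2 ≠ 0 ∧ u.1.2 < 2147483648 ∧ ∀ m ∈ u.2.2, m < 2147483648 ∧
      ((((C ^^^ (m * O)) + 2147483647 * O) ||| alw u.2.1) &&& F) = F := by
    intro u hu
    have h2 := List.all_eq_true.1 h u hu
    rw [Bool.and_eq_true, Bool.and_eq_true] at h2
    refine ⟨fun h0 => ?_, by rw [← Nat.blt_eq]; exact h2.1.2, fun m hm => ?_⟩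
    · have h3 := h2.1.1
      rw [h0] at h3
      exact absurd h3 (by decide)
    · have h3 := List.all_eq_true.1 h2.2 m hm
      rw [Bool.and_eq_true] at h3
      exact ⟨by rw [← Nat.blt_eq]; exact h3.1, Nat.eq_of_beq_eq_true h3.2⟩
  refine List.all_eq_true.2 fun u hu => ?_
  obtain ⟨hu0, -, hum⟩ := h1 u hu
  rw [Bool.and_eq_true]
  refine ⟨?_, List.all_eq_true.2 fun v hv => ?_⟩
  · rw [Bool.not_eq_true']
    exact Bool.eq_false_iff.2 fun h3 => hu0 (Nat.eq_of_beq_eq_true h3)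
  · rw [Bool.or_eq_true, Bool.not_eq_true']
    by_cases hm : v.1.2 ∈ u.2.2
    · right
      obtain ⟨hm1, hm2⟩ := hum _ hm
      set m := v.1.2 with hmdef
      obtain ⟨i, hi', hvi⟩ := List.getElem_of_mem hv
      have hidx : v.1.1 = i := by
        have h4 : (T.map fun u => u.1.1)[i]'(by simpa using hi') = (List.range T.length)[i]'(by simpa using hi') :=
          List.getElem_of_eq hi _
        rw [List.getElem_map, List.getElem_range, hvi] at h4
        exact h4
      refine List.any_eq_true.2 ⟨v.1.1, ?_, Nat.beq_refl _⟩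
      rw [hidx]
      apply mem_of_alw
      -- the bit of `F`
      have hFb : F.testBit (32 * i + 31) = true := by
        rw [← hF, ← hO, pk_mul, testBit_pk _ (by
          intro a ha
          simp only [List.mem_map] at ha
          obtain ⟨_, ⟨_, _, rfl⟩, rfl⟩ := ha
          norm_num) i (by simpa using hi')]
        simp only [List.getElem_map]
        decide
      have hZ : ((C ^^^ (m * O)) + 2147483647 * O).testBit (32 * i + 31) = false := by
        have hcl : ∀ x ∈ T, x.1.2 < 2 ^ 32 := fun x hx => lt_of_lt_of_le (h1 x hx).2.1 (by norm_num)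
        have hx31 : ∀ x ∈ T, x.1.2 ^^^ m < 2 ^ 31 := fun x hx =>
          Nat.xor_lt_two_pow (by have := (h1 x hx).2.1; omega) (by omega)
        have e1 : m * O = pk (T.map fun _ => m) := by
          rw [← hO, pk_mul, List.map_map]
          congr 1
          refine List.map_congr_left fun _ _ => ?_
          show m * 1 = m
          rw [mul_one]
        have e2 : 2147483647 * O = pk (T.map fun _ => 2147483647) := by
          rw [← hO, pk_mul, List.map_map]
          rfl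
        rw [e1, e2, ← hC, pk_xor _ _ _ hcl (fun _ _ => by omega), pk_add, testBit_pk _ (by
          intro a ha
          simp only [List.mem_map] at ha
          obtain ⟨x, hx, rfl⟩ := ha
          have := hx31 x hx
          omega) i (by simpa using hi')]
        simp only [List.getElem_map]
        have : (T[i]).1.2 = m := by rw [hvi]
        rw [this, Nat.xor_self]
        decide
      have h5 := congrArg (fun n => Nat.testBit n (32 * i + 31)) hm2
      simp only [Nat.testBit_and, Nat.testBit_or, hFb, hZ, Bool.false_or, Bool.and_true] at h5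
      exact h5
    · left
      refine Bool.eq_false_iff.2 fun h3 => hm ?_
      obtain ⟨x, hx, hx'⟩ := List.any_eq_true.1 h3
      rw [Nat.eq_of_beq_eq_true hx']
      exact hx

/-- the table from the list of the coordinates and the list `g` -/
def fastTab (s n : ℕ) (N R : List (List ℤ)) (g : List ℕ) : List ((ℕ × ℕ) × List ℕ × List ℕ) :=
  (R.zip g).zipIdx.map fun u => ((u.2, cdS s 1 u.1.1 N), [u.2, Nat.sub (Nat.sub n 1) u.2, u.1.2, Nat.sub (Nat.sub n 1) u.1.2],
    (List.range s).map fun c : ℕ => cdS s (c : ℤ) u.1.1 N)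

/-- the packed check -/
def fastChk (T : List ((ℕ × ℕ) × List ℕ × List ℕ)) : Bool :=
  chkP (pk (T.map fun u => u.1.2)) (pk (T.map fun _ => 1)) (2147483648 * pk (T.map fun _ => 1)) T

theorem chkT_fast {D : ChevalleyDatum} {s n l t : ℕ} {N R : List (List ℤ)} {g : List ℕ}
    (h : H167.EX.Fast.ok D n t = true) (hn : D.nroots = n) (h1 : (List.range D.nroots).map (crd D l) = R)
    (hg : g.length = n) (h2 : fastChk (fastTab s n N R g) = true) :
    chkT ((List.range D.nroots).map (entry D s N g l)) = true := by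
  have e : (List.range D.nroots).map (entry D s N g l) = fastTab s n N R g := by
    subst h1
    delta fastTab entry
    rw [H167.EX.Fast.neg_eq h]
    refine List.ext_getElem (by simp [hn, hg]) fun i h5 h6 => ?_
    have hi : i < g.length := by simpa [hn, hg] using h5
    simp only [List.getElem_map, List.getElem_range, List.getElem_zipIdx, List.getElem_zip, Nat.zero_add,
      List.getD_eq_getElem _ _ hi]
  have hi : (((List.range D.nroots).map (entry D s N g l)).map fun u => u.1.1) =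
      List.range ((List.range D.nroots).map (entry D s N g l)).length := by
    rw [List.map_map, List.length_map, List.length_range]
    exact List.map_id _
  rw [← e] at h2
  exact chkT_of_P rfl rfl rfl hi h2

/-! ### `E8` -/

/-- the coordinates of the roots of `E8` -/
noncomputable def R8 : List (List ℤ) :=
  (by
  refine (?fq9001 : ((pk61l (fun i1 => (pk61l (fun i2 => (pk61z (pk61d (nat_lit 4) 
    (nat_lit 0x468ac864268ac864248ac864246ac8642468c8642468a8642468a6642468a8442468a64424688644246686442446864422468644024686442468a6622468a6422468864224668642244686422246864202468642246884422466844224468442224684420246844224666442244664422246644202466442244464422244644202446442222464420224644200246442246664222446642222466422024664222444642222446422024464222224642202246422002464222444442222444422024444222224442202244422002444222222442202224422002244220002442224444222224442220244422222244222022442220024422222224222022242220022422200024222222222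220222222200222222000222220000222222222202022222020022220200022202000022020000020200000002244442202244422002444220222442200224422000244220222242200222422000224220000242202222222002222220002222200002222000002220222220200222202000222020000220200000202000000020222222000222220000222200000222000000220000000200222220000222200000222000000220000000200022220000022200000022000000020000222000000220000000200000220000000200000020000000100000000100000011000000001000000110000011100000000100000011000001110000111100000000100000011000001110000111100011111000000001000000110000011100001111000111110011111100000000100000101000011010001110100111101011111010000011100001111000111110011111101111111000013110001131100111311011113110001331100113311011133110013331101133311013333110000000010000010100001101000111010011110101111101111111010000111100011111001111110111111111111111000131110011311101113111111131110013311101133111111331110133311111333111133331110001331100113311011133111111331100133311011333111113331101333311113333111333331100135311011353111113531101335311113353111333531101355311113553111335531113555311001353310113533111135331013353311133533113335331013553311135533113355331135553310135733111357331133573311355733113577331013575311135753113357531135575311357753113579531135795510135753311357533133575331355753313577533135795331357973313579553135797531357b7531359b7531379b7531579b7533579b753)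 i2))) (Nat.mul (nat_lit 8) i1) (Nat.mul (nat_lit 8) (Nat.succ i1)) List.nil)) (nat_lit 0) (nat_lit 240) List.nil) : List (List ℤ))
    = ?xq9001 → (List (List ℤ))) ?hq9001; (case hq9001 => (set_option maxRecDepth 1000000 in conv => lhs; reduce)); intro _; exact ?xq9001 : List (List ℤ))

theorem n8 : chevE8.nroots = 240 := by decide +kernel

theorem crd8 : (List.range chevE8.nroots).map (crd chevE8 8) = R8 := by decide +kernel

end Cfsg.Agent.H167.RV
end

-- part: H167/RV/ChkSE6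
section
/-!
# TEAM RV: the combinatorial checks mod `3`, `E6` (helper167)
-/

set_option autoImplicit false

namespace Cfsg.Agent.H167.RV

open Cfsg Cfsg.Lie Cfsg.Lie.ChevalleyDatum Cfsg.Agent.ChevalleyStructure Cfsg.Agent.Nodes.RGDChev
open Cfsg.Agent.ChevalleyStructure.CoxeterGeom Cfsg.Agent.ChevalleyStructure.CoxeterGeomTypes
open Cfsg.Agent.H167.EX

def NE6 : List (List ℤ) :=
  [[2, 0, -1, 0, 0, 0], [0, 2, 0, -1, 0, 0], [-1, 0, 2, -1, 0, 0], [0, -1, -1, 2, -1, 0], [0, 0, 0, -1, 2, -1],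
  [0, 0, 0, 0, -1, 2]]

theorem NE6_eq : NE6 = List.ofFn fun j => List.ofFn (cartanOf chevE6 6 j) := by decide +kernel

private theorem _root_.Cfsg.Agent.KO387f22b.e0.{ku, kv} {α : Type kv} {M : List α → Sort ku} (φ : ∀ l, M l) {z : M List.nil} {s : ∀ a l, M l → M (List.cons a l)} (h0 : φ List.nil = z) (hs : ∀ a l, φ (List.cons a l) = s a l (φ l)) (l : List α) : φ l = @List.rec α M z s l := List.rec h0 (fun a l ih => (hs a l).trans (congrArg (s a l) ih)) l
private noncomputable def _root_.Cfsg.Agent.KO387f22b.k8.{ku0, ku1} : type_of% @List.map.{ku0, ku1} := @(fun x0 x1 x2 x3 => @List.rec.{(ku1+1), ku0} @x0 @(fun x4 => @List.{ku1} @x1) [] @(fun x4 x5 x6 => (@x2 @x4) :: @x6) @x3)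
private theorem _root_.Cfsg.Agent.KO387f22b.e8.{ku0, ku1} : @List.map.{ku0, ku1} = @_root_.Cfsg.Agent.KO387f22b.k8.{ku0, ku1} := by delta _root_.Cfsg.Agent.KO387f22b.k8; funext a0 a1 a2 a3; refine (_root_.Cfsg.Agent.KO387f22b.e0 (fun a3 => @List.map.{ku0, ku1} a0 a1 a2 a3) ?_ (fun c0 c1 => ?_) a3 :) <;> (rfl')
private noncomputable def _root_.Cfsg.Agent.KO387f22b.k9 : type_of% @Int.add := @(letI c0 := @Int.rec.{1}; letI c1 := @Int.ofNat; letI c2 := @Nat.add; letI c3 := @Nat.rec.{1}; letI c4 := @Nat.sub; letI c5 := @Nat.succ; letI c6 := @Int.negSucc; @(fun x0 x1 => @c0 @(fun x2 => ℤ) @(fun x2 => @c0 @(fun x3 => ℤ) @(fun x3 => @c1 (@c2 @x2 @x3)) @(fun x3 => @c3 @(fun x4 => ℤ) (@c1 (@c4 @x2 (@c5 @x3))) @(fun x4 x5 => @c6 @x4) (@c4 (@c5 @x3) @x2)) @x1) @(fun x2 => @c0 @(fun x3 => ℤ) @(fun x3 => @c3 @(fun x4 => ℤ) (@c1 (@c4 @x3 (@c5 @x2))) @(fun x4 x5 => @c6 @x4) (@c4 (@c5 @x2) @x3)) @(fun x3 => @c6 (@c5 (@c2 @x2 @x3))) @x1) @x0))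
private theorem _root_.Cfsg.Agent.KO387f22b.e9 : @Int.add = @_root_.Cfsg.Agent.KO387f22b.k9 := by delta _root_.Cfsg.Agent.KO387f22b.k9; rfl'
private noncomputable def _root_.Cfsg.Agent.KO387f22b.k10 : (by first | exact type_of% @Cfsg.Agent.ChevalleyStructure.RootVecTab.dig | exact Unit : Sort _) := by first | (refine @Subtype.val _ (fun g => @Cfsg.Agent.ChevalleyStructure.RootVecTab.dig = @g) (@Subtype.mk _ _ (@(fun x0 x1 => @Nat.mod (@Nat.shiftRight @x0 (@Nat.mul (nat_lit 6) @x1)) (nat_lit 64))) ?_); rfl') | exact @Cfsg.Agent.ChevalleyStructure.RootVecTab.dig | exact ()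
private theorem _root_.Cfsg.Agent.KO387f22b.e10 : (by first | exact @Cfsg.Agent.ChevalleyStructure.RootVecTab.dig = @_root_.Cfsg.Agent.KO387f22b.k10 | exact True : Prop) := by first | (delta _root_.Cfsg.Agent.KO387f22b.k10; exact @Subtype.property _ (fun g => @Cfsg.Agent.ChevalleyStructure.RootVecTab.dig = @g) _) | rfl | trivial
private noncomputable def _root_.Cfsg.Agent.KO387f22b.oEq.{ku} (α : Sort ku) (a b : Nat) (f t : α) : α := @Decidable.rec (a = b) (fun _ => α) (fun _ => f) (fun _ => t) (Nat.decEq a b)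
private noncomputable def _root_.Cfsg.Agent.KO387f22b.k11.{ku} (α : Sort ku) (a b : Nat) (f t : α) : α := @Bool.rec (fun _ => α) f t (Nat.beq a b)
private theorem _root_.Cfsg.Agent.KO387f22b.e11.{ku} : @_root_.Cfsg.Agent.KO387f22b.oEq.{ku} = @_root_.Cfsg.Agent.KO387f22b.k11.{ku} := funext fun α => funext fun a => funext fun b => funext fun f => funext fun t => by delta _root_.Cfsg.Agent.KO387f22b.oEq _root_.Cfsg.Agent.KO387f22b.k11; cases h : Nat.beq a b <;> cases Nat.decEq a b <;> rename_i g <;> first | rfl | exact absurd g (Nat.ne_of_beq_eq_false h) | exact absurd (Nat.eq_of_beq_eq_true h) g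
private noncomputable def _root_.Cfsg.Agent.KO387f22b.k12 : (by first | exact type_of% @Cfsg.Agent.ChevalleyStructure.RootVecTab.packTab | exact Unit : Sort _) := by first | (refine @Subtype.val _ (fun g => @Cfsg.Agent.ChevalleyStructure.RootVecTab.packTab = @g) (@Subtype.mk _ _ (@(letI c0 := @Cfsg.Agent.KO387f22b.k11.{1}; letI c1 := @Cfsg.Lie.ChevalleyDatum.nroots; @(fun x0 => @c0 ℕ (@c1 @x0) (nat_lit 12) (@c0 ℕ (@c1 @x0) (nat_lit 8) (@c0 ℕ (@c1 @x0) (nat_lit 24) (@c0 ℕ (@c1 @x0) (nat_lit 48) (@c0 ℕ (@c1 @x0) (nat_lit 72) (@c0 ℕ (@c1 @x0) (nat_lit 126) @Cfsg.Agent.ChevalleyStructure.RootVecTab.packE8 @Cfsg.Agent.ChevalleyStructure.RootVecTab.packE7) @Cfsg.Agent.ChevalleyStructure.RootVecTab.packE6) @Cfsg.Agent.ChevalleyStructure.RootVecTab.packF4) @Cfsg.Agent.ChevalleyStructure.RootVecTab.packD4) @Cfsg.Agent.ChevalleyStructure.RootVecTab.packB2) @Cfsg.Agent.ChevalleyStructure.RootVecTab.packG2))) ?_); rewrite [← Cfsg.Agent.KO387f22b.e11.{1}];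 (try delta Cfsg.Agent.ChevalleyStructure.RootVecTab.packTab); (try generalize @Cfsg.Agent.ChevalleyStructure.RootVecTab.packE8 = g0); (try generalize @Cfsg.Agent.ChevalleyStructure.RootVecTab.packE7 = g1); (try generalize @Cfsg.Agent.ChevalleyStructure.RootVecTab.packE6 = g2); (try generalize @Cfsg.Agent.ChevalleyStructure.RootVecTab.packF4 = g3); (try generalize @Cfsg.Agent.ChevalleyStructure.RootVecTab.packD4 = g4); (try generalize @Cfsg.Agent.ChevalleyStructure.RootVecTab.packB2 = g5); (try generalize @Cfsg.Agent.ChevalleyStructure.RootVecTab.packG2 = g6); rfl') | exact @Cfsg.Agent.ChevalleyStructure.RootVecTab.packTab | exact ()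
private theorem _root_.Cfsg.Agent.KO387f22b.e12 : (by first | exact @Cfsg.Agent.ChevalleyStructure.RootVecTab.packTab = @_root_.Cfsg.Agent.KO387f22b.k12 | exact True : Prop) := by first | (delta _root_.Cfsg.Agent.KO387f22b.k12; exact @Subtype.property _ (fun g => @Cfsg.Agent.ChevalleyStructure.RootVecTab.packTab = @g) _) | rfl | trivial
private noncomputable def _root_.Cfsg.Agent.KO387f22b.k13 : (by first | exact type_of% @Cfsg.Agent.ChevalleyStructure.RootVecTab.code | exact Unit : Sort _) := by first | (refine @Subtype.val _ (fun g => @Cfsg.Agent.ChevalleyStructure.RootVecTab.code = @g) (@Subtype.mk _ _ (@(letI c0 := @Nat.mul; letI c1 := @Cfsg.Lie.ChevalleyDatum.rank; @(fun x0 x1 => @Nat.mod (@Nat.shiftRight (@Cfsg.Agent.KO387f22b.k12 @x0) (@c0 (@c0 (nat_lit 6) (@c1 @x0)) @x1)) (@Nat.pow (nat_lit 2) (@c0 (nat_lit 6) (@c1 @x0)))))) ?_); rewrite [← Cfsg.Agent.KO387f22b.e12]; (try delta Cfsg.Agent.ChevalleyStructure.RootVecTab.code); (try generalize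 @Cfsg.Agent.ChevalleyStructure.RootVecTab.packTab = g0); rfl') | exact @Cfsg.Agent.ChevalleyStructure.RootVecTab.code | exact ()
private theorem _root_.Cfsg.Agent.KO387f22b.e13 : (by first | exact @Cfsg.Agent.ChevalleyStructure.RootVecTab.code = @_root_.Cfsg.Agent.KO387f22b.k13 | exact True : Prop) := by first | (delta _root_.Cfsg.Agent.KO387f22b.k13; exact @Subtype.property _ (fun g => @Cfsg.Agent.ChevalleyStructure.RootVecTab.code = @g) _) | rfl | trivial
private noncomputable def _root_.Cfsg.Agent.KO387f22b.k14 : type_of% @instDecidableAnd := @(fun x0 x1 x2 x3 => @Decidable.rec.{1} _ @(fun x4 => @Decidable (@And @x0 @x1)) @(fun x4 => @Decidable.isFalse _ (@instDecidableAnd._proof_2 _ _ @x4)) @(fun x4 => @Decidable.rec.{1} _ @(fun x5 => @Decidable (@And @x0 @x1)) @(fun x5 => @Decidable.isFalse _ (@instDecidableAnd._proof_1 _ _ @x5)) @(fun x5 => @Decidable.isTrue _ (@And.intro _ _ @x4 @x5)) @x3) @x2)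
private theorem _root_.Cfsg.Agent.KO387f22b.e14 : @instDecidableAnd = @_root_.Cfsg.Agent.KO387f22b.k14 := by delta _root_.Cfsg.Agent.KO387f22b.k14; exact Subsingleton.elim _ _
private noncomputable def _root_.Cfsg.Agent.KO387f22b.k15 : type_of% @Bool.decEq := @(letI c0 := @Bool.rec.{1}; letI c1 := @Decidable.isTrue; letI c2 := @rfl.{1}; letI c3 := @Decidable.isFalse; letI c4 := @Bool.noConfusion.{0}; @(fun x0 x1 => @c0 @(fun x2 => @Decidable (@Eq.{1} _ @x2 @x1)) (@c0 @(fun x2 => @Decidable (@Eq.{1} _ @Bool.false @x2)) (@c1 _ (@c2 _ _)) (@c3 _ @(fun x2 => @c4 _ _ _ @x2)) @x1) (@c0 @(fun x2 => @Decidable (@Eq.{1} _ @Bool.true @x2)) (@c3 _ @(fun x2 => @c4 _ _ _ @x2)) (@c1 _ (@c2 _ _)) @x1) @x0))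
private noncomputable def _root_.Cfsg.Agent.KO387f22b.k16 : type_of% @Nat.decLe := @(fun x0 x1 => @Decidable.rec.{1} _ @(fun x2 => @Decidable (@LE.le.{0} _ _ @x0 @x1)) @(fun x2 => @Decidable.isFalse _ (@Nat.not_le_of_not_ble_eq_true _ _ @x2)) @(fun x2 => @Decidable.isTrue _ (@Nat.le_of_ble_eq_true _ _ @x2)) (@Cfsg.Agent.KO387f22b.k15 (@Nat.ble @x0 @x1) @Bool.true))
private theorem _root_.Cfsg.Agent.KO387f22b.e16 : @Nat.decLe = @_root_.Cfsg.Agent.KO387f22b.k16 := by delta _root_.Cfsg.Agent.KO387f22b.k16; exact Subsingleton.elim _ _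
private noncomputable def _root_.Cfsg.Agent.KO387f22b.k17 : (by first | exact type_of% @Cfsg.Agent.ChevalleyStructure.RootVec.rt | exact Unit : Sort _) := by first | (refine @Subtype.val _ (fun g => @Cfsg.Agent.ChevalleyStructure.RootVec.rt = @g) (@Subtype.mk _ _ (@(letI c0 := @Cfsg.Lie.ChevalleyDatum.rank; letI c1 := @Int.ofNat; letI c2 := @Nat.sub; letI c3 := @Nat.succ; @(fun x0 x1 x2 => @Decidable.rec.{1} _ @(fun x3 => ℤ) @(fun x3 => @c1 (nat_lit 0)) @(fun x3 => @Cfsg.Agent.KO387f22b.k9 (@c1 (@Cfsg.Agent.KO387f22b.k10 (@Cfsg.Agent.KO387f22b.k13 @x0 @x1) (@c2 (@c2 (@c0 @x0) (nat_lit 1)) @x2))) (@Int.negSucc (nat_lit 7))) (@Cfsg.Agent.KO387f22b.k14 _ _ (@Cfsg.Agent.KO387f22b.k16 (@c3 @x1) (@Cfsg.Lie.ChevalleyDatum.nroots @x0)) (@Cfsg.Agent.KO387f22b.k16 (@c3 @x2) (@c0 @x0)))))) ?_); rewrite [← Cfsg.Agent.KO387f22b.e16, ← Cfsg.Agent.KO387f22b.e14, ← Cfsg.Agent.KO387f22b.e13, ← Cfsg.Agent.KO387f22b.e10, ← Cfsg.Agent.KO387f22b.e9]; (try delta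 Cfsg.Agent.ChevalleyStructure.RootVec.rt); (try generalize @Cfsg.Agent.ChevalleyStructure.RootVecTab.dig = g0); (try generalize @Cfsg.Agent.ChevalleyStructure.RootVecTab.code = g1); rfl') | exact @Cfsg.Agent.ChevalleyStructure.RootVec.rt | exact ()
private theorem _root_.Cfsg.Agent.KO387f22b.e17 : (by first | exact @Cfsg.Agent.ChevalleyStructure.RootVec.rt = @_root_.Cfsg.Agent.KO387f22b.k17 | exact True : Prop) := by first | (delta _root_.Cfsg.Agent.KO387f22b.k17; exact @Subtype.property _ (fun g => @Cfsg.Agent.ChevalleyStructure.RootVec.rt = @g) _) | rfl | trivial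
private theorem _root_.Cfsg.Agent.KO387f22b.e18.{ku} {M : Nat → Sort ku} (φ : ∀ n, M n) {z : M Nat.zero} {s : ∀ n, M n → M (Nat.succ n)} (h0 : φ Nat.zero = z) (hs : ∀ n, φ (Nat.succ n) = s n (φ n)) (n : Nat) : φ n = @Nat.rec M z s n := Nat.rec h0 (fun n ih => (hs n).trans (congrArg (s n) ih)) n
private noncomputable def _root_.Cfsg.Agent.KO387f22b.k19 : type_of% @List.range.loop := @(fun x0 x1 => @Nat.rec.{1} @(fun x2 => (@List.{0} ℕ) → @List.{0} ℕ) @(fun x2 => @x2) @(fun x2 x3 x4 => @x3 (@x2 :: @x4)) @x0 @x1)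
private theorem _root_.Cfsg.Agent.KO387f22b.e19 : @List.range.loop = @_root_.Cfsg.Agent.KO387f22b.k19 := by delta _root_.Cfsg.Agent.KO387f22b.k19; funext a0 a1; refine (congrFun (_root_.Cfsg.Agent.KO387f22b.e18 (fun a0 a1 => @List.range.loop a0 a1) ?_ (fun c0 => ?_) a0) a1 :) <;> (rfl')
private noncomputable def _root_.Cfsg.Agent.KO387f22b.k20 : (by first | exact type_of% @Cfsg.Agent.H167.RV.crd | exact Unit : Sort _) := by first | (refine @Subtype.val _ (fun g => @Cfsg.Agent.H167.RV.crd = @g) (@Subtype.mk _ _ (@(fun x0 x1 x2 => @Cfsg.Agent.KO387f22b.k8.{0, 0} _ _ @(fun x3 => @Cfsg.Agent.KO387f22b.k17 @x0 @x2 @x3) (@Cfsg.Agent.KO387f22b.k19 @x1 []))) ?_); rewrite [← Cfsg.Agent.KO387f22b.e19, ← Cfsg.Agent.KO387f22b.e17, ← Cfsg.Agent.KO387f22b.e8.{0, 0}]; (try delta Cfsg.Agent.H167.RV.crd); (try generalize @Cfsg.Agent.ChevalleyStructure.RootVec.rt = g0); rfl') | exact @Cfsg.Agent.H167.RV.crd | exact ()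
private theorem _root_.Cfsg.Agent.KO387f22b.e20 : (by first | exact @Cfsg.Agent.H167.RV.crd = @_root_.Cfsg.Agent.KO387f22b.k20 | exact True : Prop) := by first | (delta _root_.Cfsg.Agent.KO387f22b.k20; exact @Subtype.property _ (fun g => @Cfsg.Agent.H167.RV.crd = @g) _) | rfl | trivial
private noncomputable def _root_.Cfsg.Agent.KO387f22b.k21 : type_of% @List.range := @(fun x0 => @Cfsg.Agent.KO387f22b.k19 @x0 [])
private theorem _root_.Cfsg.Agent.KO387f22b.e21 : @List.range = @_root_.Cfsg.Agent.KO387f22b.k21 := by delta _root_.Cfsg.Agent.KO387f22b.k21; rewrite [← Cfsg.Agent.KO387f22b.e19]; rfl'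
private noncomputable def _root_.Cfsg.Agent.KO387f22b.k28.{ku0} : type_of% @List.all.{ku0} := @(fun x0 x1 x2 => @List.rec.{(ku0+1), ku0} @x0 @(fun x3 => (@x0 → @Bool) → @Bool) @(fun x3 => @Bool.true) @(fun x3 x4 x5 x6 => @Bool.rec.{1} @(fun x7 => @Bool) @Bool.false (@x5 @x6) (@x6 @x3)) @x1 @x2)
private theorem _root_.Cfsg.Agent.KO387f22b.e28.{ku0} : @List.all.{ku0} = @_root_.Cfsg.Agent.KO387f22b.k28.{ku0} := by delta _root_.Cfsg.Agent.KO387f22b.k28; funext a0 a1 a2; refine (congrFun (_root_.Cfsg.Agent.KO387f22b.e0 (fun a1 a2 => @List.all.{ku0} a0 a1 a2) ?_ (fun c0 c1 => ?_) a1) a2 :) <;> (rfl')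
private noncomputable def _root_.Cfsg.Agent.KO387f22b.k29 : (by first | exact type_of% @Cfsg.Agent.H167.RV.alw | exact Unit : Sort _) := by first | (refine @Subtype.val _ (fun g => @Cfsg.Agent.H167.RV.alw = @g) (@Subtype.mk _ _ (@(fun x0 => @List.rec.{1, 0} ℕ @(fun x1 => ℕ) (nat_lit 0) @(fun x1 x2 x3 => @Nat.lor (@Nat.pow (nat_lit 2) (@Nat.add (@Nat.mul (nat_lit 32) @x1) (nat_lit 31))) @x3) @x0)) ?_); funext a0; refine (_root_.Cfsg.Agent.KO387f22b.e0 (fun a0 => @Cfsg.Agent.H167.RV.alw a0) ?_ (fun c0 c1 => ?_) a0 :) <;> (rfl')) | exact @Cfsg.Agent.H167.RV.alw | exact ()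
private theorem _root_.Cfsg.Agent.KO387f22b.e29 : (by first | exact @Cfsg.Agent.H167.RV.alw = @_root_.Cfsg.Agent.KO387f22b.k29 | exact True : Prop) := by first | (delta _root_.Cfsg.Agent.KO387f22b.k29; exact @Subtype.property _ (fun g => @Cfsg.Agent.H167.RV.alw = @g) _) | rfl | trivial
private noncomputable def _root_.Cfsg.Agent.KO387f22b.k30 : (by first | exact type_of% @Cfsg.Agent.H167.RV.chkP | exact Unit : Sort _) := by first | (refine @Subtype.val _ (fun g => @Cfsg.Agent.H167.RV.chkP = @g) (@Subtype.mk _ _ (@(letI c0 := @Bool.rec.{1}; letI c1 := @Bool.false; letI c2 := @Prod.snd.{0, 0}; letI c3 := @Nat.beq; letI c4 := @Nat.mul; letI c5 := @Prod.fst.{0, 0}; letI c6 := @Nat.ble; letI c7 := @Nat.succ; @(fun x0 x1 x2 x3 => @Cfsg.Agent.KO387f22b.k28.{0} _ @x3 @(fun x4 => @c0 @(fun x5 => @Bool) @c1 (@Cfsg.Agent.KO387f22b.k28.{0} _ (@c2 _ _ (@c2 _ _ @x4)) @(fun x5 => @c0 @(fun x6 => @Bool) @c1 (@c3 (@Nat.land (@Nat.lor (@Nat.add (@Nat.xor @x0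 (@c4 @x5 @x1)) (@c4 (nat_lit 2147483647) @x1)) (@Cfsg.Agent.KO387f22b.k29 (@c5 _ _ (@c2 _ _ @x4)))) @x2) @x2) (@c6 (@c7 @x5) (nat_lit 2147483648)))) (@c0 @(fun x5 => @Bool) @c1 (@c6 (@c7 (@c2 _ _ (@c5 _ _ @x4))) (nat_lit 2147483648)) (@c0 @(fun x5 => @Bool) @Bool.true @c1 (@c3 (@c2 _ _ (@c5 _ _ @x4)) (nat_lit 0)))))))) ?_); rewrite [← Cfsg.Agent.KO387f22b.e29, ← Cfsg.Agent.KO387f22b.e28.{0}]; (try delta Cfsg.Agent.H167.RV.chkP); (try generalize @Cfsg.Agent.H167.RV.alw = g0); rfl') | exact @Cfsg.Agent.H167.RV.chkP | exact ()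
private theorem _root_.Cfsg.Agent.KO387f22b.e30 : (by first | exact @Cfsg.Agent.H167.RV.chkP = @_root_.Cfsg.Agent.KO387f22b.k30 | exact True : Prop) := by first | (delta _root_.Cfsg.Agent.KO387f22b.k30; exact @Subtype.property _ (fun g => @Cfsg.Agent.H167.RV.chkP = @g) _) | rfl | trivial
private noncomputable def _root_.Cfsg.Agent.KO387f22b.k31 : (by first | exact type_of% @Cfsg.Agent.H167.RV.pk | exact Unit : Sort _) := by first | (refine @Subtype.val _ (fun g => @Cfsg.Agent.H167.RV.pk = @g) (@Subtype.mk _ _ (@(fun x0 => @List.rec.{1, 0} ℕ @(fun x1 => ℕ) (nat_lit 0) @(fun x1 x2 x3 => @Nat.add @x1 (@Nat.mul (@Nat.pow (nat_lit 2) (nat_lit 32)) @x3)) @x0)) ?_); funext a0; refine (_root_.Cfsg.Agent.KO387f22b.e0 (fun a0 => @Cfsg.Agent.H167.RV.pk a0) ?_ (fun c0 c1 => ?_) a0 :) <;> (rfl')) | exact @Cfsg.Agent.H167.RV.pk | exact ()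
private theorem _root_.Cfsg.Agent.KO387f22b.e31 : (by first | exact @Cfsg.Agent.H167.RV.pk = @_root_.Cfsg.Agent.KO387f22b.k31 | exact True : Prop) := by first | (delta _root_.Cfsg.Agent.KO387f22b.k31; exact @Subtype.property _ (fun g => @Cfsg.Agent.H167.RV.pk = @g) _) | rfl | trivial
private noncomputable def _root_.Cfsg.Agent.KO387f22b.k32 : (by first | exact type_of% @Cfsg.Agent.H167.RV.fastChk | exact Unit : Sort _) := by first | (refine @Subtype.val _ (fun g => @Cfsg.Agent.H167.RV.fastChk = @g) (@Subtype.mk _ _ (@(letI c0 := @Cfsg.Agent.KO387f22b.k31; letI c1 := @Cfsg.Agent.KO387f22b.k8.{0, 0}; @(fun x0 => @Cfsg.Agent.KO387f22b.k30 (@c0 (@c1 _ _ @(fun x1 => @Prod.snd.{0, 0} _ _ (@Prod.fst.{0, 0} _ _ @x1)) @x0)) (@c0 (@c1 _ _ @(fun x1 => nat_lit 1) @x0)) (@Nat.mul (nat_lit 2147483648) (@c0 (@c1 _ _ @(fun x1 => nat_lit 1) @x0))) @x0))) ?_); rewrite [← Cfsg.Agent.KO387f22b.e8.{0, 0}, ← Cfsg.Agent.KO387f22b.e31, ← Cfsg.Agent.KO387f22b.e30];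 (try delta Cfsg.Agent.H167.RV.fastChk); (try generalize @Cfsg.Agent.H167.RV.chkP = g0); (try generalize @Cfsg.Agent.H167.RV.pk = g1); rfl') | exact @Cfsg.Agent.H167.RV.fastChk | exact ()
private theorem _root_.Cfsg.Agent.KO387f22b.e32 : (by first | exact @Cfsg.Agent.H167.RV.fastChk = @_root_.Cfsg.Agent.KO387f22b.k32 | exact True : Prop) := by first | (delta _root_.Cfsg.Agent.KO387f22b.k32; exact @Subtype.property _ (fun g => @Cfsg.Agent.H167.RV.fastChk = @g) _) | rfl | trivial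
private noncomputable def _root_.Cfsg.Agent.KO387f22b.k33s : (by first | exact Subtype (fun g => @HMod.hMod.{0, 0, 0} (ℤ) (ℤ) (ℤ) _ = @g) | exact Unit : Sort _) := by first | (refine @Subtype.mk _ _ (@(letI c0 := @Int.rec.{1}; letI c1 := @Int.ofNat; letI c2 := @Nat.mod; letI c3 := @Nat.succ; letI c4 := @Nat.sub; @(fun x0 x1 => @c0 @(fun x2 => ℤ) @(fun x2 => @c1 (@c2 @x2 (@c0 @(fun x3 => ℕ) @(fun x3 => @x3) @(fun x3 => @c3 @x3) @x1))) @(fun x2 => @Nat.rec.{1} @(fun x3 => ℤ) (@c1 (@c4 (@c0 @(fun x3 => ℕ) @(fun x3 => @x3) @(fun x3 => @c3 @x3) @x1) (@c3 (@c2 @x2 (@c0 @(fun x3 => ℕ) @(fun x3 => @x3) @(fun x3 => @c3 @x3) @x1))))) @(fun x3 x4 => @Int.negSucc @x3) (@c4 (@c3 (@c2 @x2 (@c0 @(fun x3 => ℕ) @(fun x3 => @x3) @(fun x3 => @c3 @x3) @x1))) (@c0 @(fun x3 => ℕ) @(fun x3 => @x3) @(fun x3 => @c3 @x3) @x1))) @x0))) ?_; rfl') | exact ⟨_, rfl⟩ | exact ()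
private noncomputable def _root_.Cfsg.Agent.KO387f22b.k33 : (by first | exact type_of% (@Subtype.val _ _ _root_.Cfsg.Agent.KO387f22b.k33s) | exact Unit : Sort _) := by first | exact @Subtype.val _ _ _root_.Cfsg.Agent.KO387f22b.k33s | exact ()
private theorem _root_.Cfsg.Agent.KO387f22b.e33 : (by first | exact type_of% (show _ = @_root_.Cfsg.Agent.KO387f22b.k33 from @Subtype.property _ _ _root_.Cfsg.Agent.KO387f22b.k33s) | exact True : Prop) := by first | exact @Subtype.property _ _ _root_.Cfsg.Agent.KO387f22b.k33s | trivial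
private noncomputable def _root_.Cfsg.Agent.KO387f22b.k34 : type_of% @Int.mul := @(letI c0 := @Int.rec.{1}; letI c1 := @Int.ofNat; letI c2 := @Nat.mul; letI c3 := @Nat.rec.{1}; letI c4 := @Int.negSucc; letI c5 := @Nat.succ; @(fun x0 x1 => @c0 @(fun x2 => ℤ) @(fun x2 => @c0 @(fun x3 => ℤ) @(fun x3 => @c1 (@c2 @x2 @x3)) @(fun x3 => @c3 @(fun x4 => ℤ) (@c1 (nat_lit 0)) @(fun x4 x5 => @c4 @x4) (@c2 @x2 (@c5 @x3))) @x1) @(fun x2 => @c0 @(fun x3 => ℤ) @(fun x3 => @c3 @(fun x4 => ℤ) (@c1 (nat_lit 0)) @(fun x4 x5 => @c4 @x4) (@c2 (@c5 @x2) @x3)) @(fun x3 => @c1 (@c2 (@c5 @x2) (@c5 @x3))) @x1) @x0))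
private theorem _root_.Cfsg.Agent.KO387f22b.e34 : @Int.mul = @_root_.Cfsg.Agent.KO387f22b.k34 := by delta _root_.Cfsg.Agent.KO387f22b.k34; rfl'
private noncomputable def _root_.Cfsg.Agent.KO387f22b.k36 : (by first | exact type_of% @Cfsg.Agent.H167.RV.dotL | exact Unit : Sort _) := by first | (refine @Subtype.val _ (fun g => @Cfsg.Agent.H167.RV.dotL = @g) (@Subtype.mk _ _ (@(letI c0 := @List.rec.{1, 0}; letI c1 := @Int.ofNat; @(fun x0 x1 => @c0 ℤ @(fun x2 => (@List.{0} ℤ) → ℤ) @(fun x2 => @c1 (nat_lit 0)) @(fun x2 x3 x4 x5 => @c0 ℤ @(fun x6 => ((@Nat.hasNotBit (nat_lit 2) (@List.ctorIdx.{0} _ @x6)) → ℤ) → ℤ) @(fun x6 => @x6 (@Nat.ne_of_beq_eq_false _ _ (@Eq.refl.{1} _ @Bool.false))) @(fun x6 x7 x8 x9 => @Cfsg.Agent.KO387f22b.k9 (@Cfsg.Agent.KO387f22b.k34 @x2 @x6) (@x4 @x7)) @x5 @(fun x6 => @c1 (nat_lit 0))) @x0 @x1))) ?_); rewrite [← Cfsg.Agent.KO387f22b.e34, ← Cfsg.Agent.KO387f22b.e9]; funext a0 a1; refine (congrFun (_root_.Cfsg.Agent.KO387f22b.e0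 (fun a0 a1 => @Cfsg.Agent.H167.RV.dotL a0 a1) ?_ (fun c0 c1 => ?_) a0) a1 :) <;> [(funext b0; (rfl')); (funext b0; (cases b0 with | @nil  => (rfl') | @cons b0_0 b0_1 => (rfl')))]) | exact @Cfsg.Agent.H167.RV.dotL | exact ()
private theorem _root_.Cfsg.Agent.KO387f22b.e36 : (by first | exact @Cfsg.Agent.H167.RV.dotL = @_root_.Cfsg.Agent.KO387f22b.k36 | exact True : Prop) := by first | (delta _root_.Cfsg.Agent.KO387f22b.k36; exact @Subtype.property _ (fun g => @Cfsg.Agent.H167.RV.dotL = @g) _) | rfl | trivial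
private noncomputable def _root_.Cfsg.Agent.KO387f22b.k37 : (by first | exact type_of% @Cfsg.Agent.H167.RV.cdS | exact Unit : Sort _) := by first | (refine @Subtype.val _ (fun g => @Cfsg.Agent.H167.RV.cdS = @g) (@Subtype.mk _ _ (@(fun x0 x1 x2 x3 => @List.rec.{1, 0} (@List.{0} ℤ) @(fun x4 => ℕ) (nat_lit 0) @(fun x4 x5 x6 => @Nat.add (@Int.rec.{1} @(fun x7 => ℕ) @(fun x7 => @x7) @(fun x7 => nat_lit 0) (@Cfsg.Agent.KO387f22b.k33 (@Cfsg.Agent.KO387f22b.k34 @x1 (@Cfsg.Agent.KO387f22b.k36 @x4 @x2)) (@Int.ofNat @x0))) (@Nat.mul @x0 @x6)) @x3)) ?_); rewrite [← Cfsg.Agent.KO387f22b.e36, ← Cfsg.Agent.KO387f22b.e34, ← Cfsg.Agent.KO387f22b.e33]; funext a0 a1 a2 a3; refine (_root_.Cfsg.Agent.KO387f22b.e0 (fun a3 => @Cfsg.Agent.H167.RV.cdS a0 a1 a2 a3) ?_ (fun c0 c1 => ?_) a3 :) <;> ((try delta Cfsg.Agent.H167.RV.cdS Cfsg.Agent.H167.RV.cdS._f); (try generalize @Cfsg.Agent.H167.RV.dotL = g0); rfl')) | exact @Cfsg.Agent.H167.RV.cdS | exact ()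
private theorem _root_.Cfsg.Agent.KO387f22b.e37 : (by first | exact @Cfsg.Agent.H167.RV.cdS = @_root_.Cfsg.Agent.KO387f22b.k37 | exact True : Prop) := by first | (delta _root_.Cfsg.Agent.KO387f22b.k37; exact @Subtype.property _ (fun g => @Cfsg.Agent.H167.RV.cdS = @g) _) | rfl | trivial
private noncomputable def _root_.Cfsg.Agent.KO387f22b.k38.{ku0} : type_of% @List.zipIdx.{ku0} := @(fun x0 x1 x2 => @List.rec.{(ku0+1), ku0} @x0 @(fun x3 => ℕ → @List.{ku0} (@x0 × ℕ)) @(fun x3 => []) @(fun x3 x4 x5 x6 => ((@x3, @x6)) :: (@x5 (@Nat.add @x6 (nat_lit 1)))) @x1 @x2)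
private theorem _root_.Cfsg.Agent.KO387f22b.e38.{ku0} : @List.zipIdx.{ku0} = @_root_.Cfsg.Agent.KO387f22b.k38.{ku0} := by delta _root_.Cfsg.Agent.KO387f22b.k38; funext a0 a1 a2; refine (congrFun (_root_.Cfsg.Agent.KO387f22b.e0 (fun a1 a2 => @List.zipIdx.{ku0} a0 a1 a2) ?_ (fun c0 c1 => ?_) a1) a2 :) <;> (rfl')
private noncomputable def _root_.Cfsg.Agent.KO387f22b.k40.{ku0, ku1, ku2} : type_of% @List.zipWith.{ku0, ku1, ku2} := @(fun x0 x1 x2 x3 x4 x5 => @List.rec.{(max (ku1+1) (ku2+1)), ku0} @x0 @(fun x6 => (@List.{ku1} @x1) → @List.{ku2} @x2) @(fun x6 => []) @(fun x6 x7 x8 x9 => @List.rec.{(ku2+1), ku1} @x1 @(fun x10 => @List.{ku2} @x2) [] @(fun x10 x11 x12 => (@x3 @x6 @x10) :: (@x8 @x11)) @x9) @x4 @x5)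
private theorem _root_.Cfsg.Agent.KO387f22b.e40.{ku0, ku1, ku2} : @List.zipWith.{ku0, ku1, ku2} = @_root_.Cfsg.Agent.KO387f22b.k40.{ku0, ku1, ku2} := by delta _root_.Cfsg.Agent.KO387f22b.k40; funext a0 a1 a2 a3 a4 a5; refine (congrFun (_root_.Cfsg.Agent.KO387f22b.e0 (fun a4 a5 => @List.zipWith.{ku0, ku1, ku2} a0 a1 a2 a3 a4 a5) ?_ (fun c0 c1 => ?_) a4) a5 :) <;> [(funext b0; (rfl')); (funext b0; (cases b0 with | @nil  => (rfl') | @cons b0_0 b0_1 => (rfl')))]
private noncomputable def _root_.Cfsg.Agent.KO387f22b.k41 : (by first | exact type_of% @Cfsg.Agent.H167.RV.fastTab | exact Unit : Sort _) := by first | (refine @Subtype.val _ (fun g => @Cfsg.Agent.H167.RV.fastTab = @g) (@Subtype.mk _ _ (@(letI c0 := @Prod.snd.{0, 0}; letI c1 := @Int.ofNat; letI c2 := @Prod.fst.{0, 0}; letI c3 := @Nat.sub; @(fun x0 x1 x2 x3 x4 => @Cfsg.Agent.KO387f22b.k8.{0, 0} _ _ @(fun x5 => ((@c0 _ _ @x5, @Cfsg.Agent.KO387f22b.k37 @x0 (@c1 (nat_lit 1)) (@c2 _ _ (@c2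 _ _ @x5)) @x2), ((@c0 _ _ @x5) :: ((@c3 (@c3 @x1 (nat_lit 1)) (@c0 _ _ @x5)) :: ((@c0 _ _ (@c2 _ _ @x5)) :: ((@c3 (@c3 @x1 (nat_lit 1)) (@c0 _ _ (@c2 _ _ @x5))) :: []))), @Cfsg.Agent.KO387f22b.k8.{0, 0} _ _ @(fun x6 => @Cfsg.Agent.KO387f22b.k37 @x0 (@c1 @x6) (@c2 _ _ (@c2 _ _ @x5)) @x2) (@Cfsg.Agent.KO387f22b.k19 @x0 [])))) (@Cfsg.Agent.KO387f22b.k38.{0} _ (@Cfsg.Agent.KO387f22b.k40.{0, 0, 0} _ _ _ (@Prod.mk.{0, 0} _ _) @x3 @x4) (nat_lit 0))))) ?_); rewrite [← Cfsg.Agent.KO387f22b.e40.{0, 0, 0}, ← Cfsg.Agent.KO387f22b.e38.{0}, ← Cfsg.Agent.KO387f22b.e19, ← Cfsg.Agent.KO387f22b.e37, ← Cfsg.Agent.KO387f22b.e8.{0, 0}]; (try delta Cfsg.Agent.H167.RV.fastTab); (try generalize @Cfsg.Agent.H167.RV.cdS = g0); rfl') | exact @Cfsg.Agent.H167.RV.fastTab | exact ()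
private theorem _root_.Cfsg.Agent.KO387f22b.e41 : (by first | exact @Cfsg.Agent.H167.RV.fastTab = @_root_.Cfsg.Agent.KO387f22b.k41 | exact True : Prop) := by first | (delta _root_.Cfsg.Agent.KO387f22b.k41; exact @Subtype.property _ (fun g => @Cfsg.Agent.H167.RV.fastTab = @g) _) | rfl | trivial

theorem chkE6_three : chkT ((List.range chevE6.nroots).map (entry chevE6 3 NE6 (List.range chevE6.nroots) 6)) = true :=
  chkT_fast Fast.okE6 rfl rfl (by decide +kernel) (by (first | (rewrite [Cfsg.Agent.KO387f22b.e32, Cfsg.Agent.KO387f22b.e41, Cfsg.Agent.KO387f22b.e8.{0, 0}, Cfsg.Agent.KO387f22b.e20, Cfsg.Agent.KO387f22b.e21]; decide +kernel) | decide +kernel))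

theorem ortE6' : Ort chevE6 (fun b => (List.range chevE6.nroots).getD b 0) := ort_id oneE6

theorem chkSE6_three : ChkS chevE6 3 (fun (j : Fin 6) b => pairing (cartanOf chevE6 6) j (vec chevE6 6 b))
    (fun b => (List.range chevE6.nroots).getD b 0) := chkS_of (by norm_num) _ NE6_eq chkE6_three

/-- the functionals fixed by the graph automorphism -/
def NfE6 : Fin 4 → Fin 6 → ℤ :=
  ![![1, 0, 0, 0, 0, 1], ![0, 0, 1, 0, 1, 0], ![0, 1, 0, 0, 0, 0], ![0, 0, 0, 1, 0, 0]]

def NgE6 : List (List ℤ) := [[1, 0, 0, 0, 0, 1], [0, 0, 1, 0, 1, 0], [0, 1, 0, 0, 0, 0], [0, 0, 0, 1, 0, 0]]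

theorem NgE6_eq : NgE6 = List.ofFn fun j => List.ofFn (NfE6 j) := by decide +kernel

theorem chkgE6 : chkT ((List.range chevE6.nroots).map (entry chevE6 3 NgE6 gE6 6)) = true :=
  chkT_fast Fast.okE6 rfl rfl (by decide +kernel) (by (first | (rewrite [Cfsg.Agent.KO387f22b.e32, Cfsg.Agent.KO387f22b.e41, Cfsg.Agent.KO387f22b.e8.{0, 0}, Cfsg.Agent.KO387f22b.e20, Cfsg.Agent.KO387f22b.e21]; decide +kernel) | decide +kernel))

theorem ortgE6 : Ort chevE6 (fun b => gE6.getD b 0) := ort_of oneE6 ortE6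

theorem chkSgE6 : ChkS chevE6 3 (fun (j : Fin 4) b => ∑ i, NfE6 j i * vec chevE6 6 b i) (fun b => gE6.getD b 0) :=
  chkS_of (by norm_num) _ NgE6_eq chkgE6

end Cfsg.Agent.H167.RV
end

-- part: H167/RV/ChkSE7
section
/-!
# TEAM RV: the combinatorial checks mod `3` and mod `5`, `E7` (helper167)
-/

set_option autoImplicit false

namespace Cfsg.Agent.H167.RV

open Cfsg Cfsg.Lie Cfsg.Lie.ChevalleyDatum Cfsg.Agent.ChevalleyStructure Cfsg.Agent.Nodes.RGDChev
open Cfsg.Agent.ChevalleyStructure.CoxeterGeom Cfsg.Agent.ChevalleyStructure.CoxeterGeomTypes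
open Cfsg.Agent.H167.EX

def NE7 : List (List ℤ) :=
  [[2, 0, -1, 0, 0, 0, 0], [0, 2, 0, -1, 0, 0, 0], [-1, 0, 2, -1, 0, 0, 0], [0, -1, -1, 2, -1, 0, 0],
  [0, 0, 0, -1, 2, -1, 0], [0, 0, 0, 0, -1, 2, -1], [0, 0, 0, 0, 0, -1, 2]]

theorem NE7_eq : NE7 = List.ofFn fun j => List.ofFn (cartanOf chevE7 7 j) := by decide +kernel

theorem chkE7_three : chkT ((List.range chevE7.nroots).map (entry chevE7 3 NE7 (List.range chevE7.nroots) 7)) = true :=
  chkT_fast Fast.okE7 rfl rfl (by decide +kernel) (by (first | (rewrite [Cfsg.Agent.KO387f22b.e32, Cfsg.Agent.KO387f22b.e41, Cfsg.Agent.KO387f22b.e8.{0, 0}, Cfsg.Agent.KO387f22b.e20, Cfsg.Agent.KO387f22b.e21]; decide +kernel) | decide +kernel))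

theorem chkE7_five : chkT ((List.range chevE7.nroots).map (entry chevE7 5 NE7 (List.range chevE7.nroots) 7)) = true :=
  chkT_fast Fast.okE7 rfl rfl (by decide +kernel) (by (first | (rewrite [Cfsg.Agent.KO387f22b.e32, Cfsg.Agent.KO387f22b.e41, Cfsg.Agent.KO387f22b.e8.{0, 0}, Cfsg.Agent.KO387f22b.e20, Cfsg.Agent.KO387f22b.e21]; decide +kernel) | decide +kernel))

theorem ortE7 : Ort chevE7 (fun b => (List.range chevE7.nroots).getD b 0) := ort_id oneE7

theorem chkSE7_three : ChkS chevE7 3 (fun (j : Fin 7) b => pairing (cartanOf chevE7 7) j (vec chevE7 7 b))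
    (fun b => (List.range chevE7.nroots).getD b 0) := chkS_of (by norm_num) _ NE7_eq chkE7_three

theorem chkSE7_five : ChkS chevE7 5 (fun (j : Fin 7) b => pairing (cartanOf chevE7 7) j (vec chevE7 7 b))
    (fun b => (List.range chevE7.nroots).getD b 0) := chkS_of (by norm_num) _ NE7_eq chkE7_five

end Cfsg.Agent.H167.RV
end

-- part: H167/RV/ChkSE8
section
/-!
# TEAM RV: the combinatorial checks mod `3` and mod `5`, `E8` (helper167)
-/

set_option autoImplicit false

namespace Cfsg.Agent.H167.RV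

open Cfsg Cfsg.Lie Cfsg.Lie.ChevalleyDatum Cfsg.Agent.ChevalleyStructure Cfsg.Agent.Nodes.RGDChev
open Cfsg.Agent.ChevalleyStructure.CoxeterGeom Cfsg.Agent.ChevalleyStructure.CoxeterGeomTypes
open Cfsg.Agent.H167.EX

noncomputable def NE8 : List (List ℤ) :=
  (by
  refine (?fq9003 : (fun (Oz : (n : Nat) → OfNat Int n → Int) (Iz : (n : Nat) → OfNat Int n) (Gz : Int → Int) => ((pk61l (fun i1 => (pk61l (fun i2 => (pk61y Oz Iz Gz (pk61d (nat_lit 3) 
    (nat_lit 0x84000030800006100000c200001848000301000220000044) i2))) (Nat.mul (nat_lit 8) i1) (Nat.mul (nat_lit 8) (Nat.succ i1)) List.nil)) (nat_lit 0) (nat_lit 8) List.nil) : List (List ℤ)))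
    = ?xq9003 → (List (List ℤ))) ?hq9003; (case hq9003 => (set_option maxRecDepth 1000000 in conv => lhs; reduce)); intro _; exact ?xq9003 (@OfNat.ofNat Int) (@instOfNat) (@Neg.neg Int Int.instNegInt) : List (List ℤ))

theorem NE8_eq : NE8 = List.ofFn fun j => List.ofFn (cartanOf chevE8 8 j) := by decide +kernel

theorem chkE8_three : chkT ((List.range chevE8.nroots).map (entry chevE8 3 NE8 (List.range chevE8.nroots) 8)) = true :=
  chkT_fast Fast.okE8 n8 crd8 (by decide +kernel) (by (first | (rewrite [Cfsg.Agent.KO387f22b.e32, Cfsg.Agent.KO387f22b.e41, Cfsg.Agent.KO387f22b.e21]; decide +kernel) | decide +kernel))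

theorem chkE8_five : chkT ((List.range chevE8.nroots).map (entry chevE8 5 NE8 (List.range chevE8.nroots) 8)) = true :=
  chkT_fast Fast.okE8 n8 crd8 (by decide +kernel) (by (first | (rewrite [Cfsg.Agent.KO387f22b.e32, Cfsg.Agent.KO387f22b.e41, Cfsg.Agent.KO387f22b.e21]; decide +kernel) | decide +kernel))

theorem ortE8 : Ort chevE8 (fun b => (List.range chevE8.nroots).getD b 0) := ort_id oneE8

theorem chkSE8_three : ChkS chevE8 3 (fun (j : Fin 8) b => pairing (cartanOf chevE8 8) j (vec chevE8 8 b))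
    (fun b => (List.range chevE8.nroots).getD b 0) := chkS_of (by norm_num) _ NE8_eq chkE8_three

theorem chkSE8_five : ChkS chevE8 5 (fun (j : Fin 8) b => pairing (cartanOf chevE8 8) j (vec chevE8 8 b))
    (fun b => (List.range chevE8.nroots).getD b 0) := chkS_of (by norm_num) _ NE8_eq chkE8_five

end Cfsg.Agent.H167.RV
end

-- part: H167/RV/TorD
section
/-!
# TEAM RV: the exceptional groups, `3 ∈ π`, or `5 ∣ q² - 1` (helper167)
-/

set_option autoImplicit false
set_option linter.unusedSectionVars false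

namespace Cfsg.Agent.H167.RV

open CoxeterSystem Cfsg Cfsg.Lie Cfsg.Lie.ChevalleyDatum
open Cfsg.Agent.ChevalleyStructure Cfsg.Agent.ChevalleyStructure.Elts Cfsg.Agent.ChevalleyStructure.CoxeterGeom
  Cfsg.Agent.ChevalleyStructure.CoxeterGeomTypes Cfsg.Agent.ChevalleyStructure.NPerm
open Cfsg.Agent.Tits.Roots Cfsg.Agent.Tits.Core Cfsg.Agent.Nodes Cfsg.Agent.Nodes.Reps Cfsg.Agent.Nodes.BNOf
  Cfsg.Agent.Nodes.RGDChev Cfsg.Agent.Nodes.Bruhat
open Cfsg.Agent.KFacts.RgdField Cfsg.Agent.KFacts.RgdChevCoord Cfsg.Agent.BpExc.TorCent Cfsg.Agent.BpExc.TorChev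
open Cfsg.Agent.GpExc.Field Cfsg.Agent.BpExc.Tow Cfsg.Agent.BpExc.TowChev Cfsg.Agent.BpExc.Fr
  Cfsg.Agent.BpExc.LangFr Cfsg.Agent.H129.TorusChar Cfsg.Agent.H129.TorusMain Cfsg.Agent.H123.ExcZ
open Cfsg.Agent.BpExc Cfsg.Agent.H795.LangT Cfsg.Agent.H795.Core Cfsg.Agent.H795.NotAbT
open Cfsg.Agent.H572.ExcA Cfsg.Agent.H572.ExcB Cfsg.Agent.H572.ExcC Cfsg.Agent.H572.ExcD Cfsg.Agent.H572.LatQ
  Cfsg.Agent.H572.LatForm Cfsg.Agent.H572.ExcE Cfsg.Agent.H572.ExcF
open Cfsg.Agent.H988.CPi Cfsg.Agent.H571.RV Cfsg.Agent.H553.OddHall Cfsg.Agent.H565.CharCnt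
open Cfsg.Agent.H167.EX (gE6)
open Cfsg.Agent.BpExc.RowsUntw Cfsg.Agent.H720.TwFr Cfsg.Agent.H795.NotAbRows
open Cfsg.Agent.H565.NM (cast_ne_zero_of_char)
open Subgroup

universe u v

theorem isPiHall_map' {π : Set ℕ} {S : Type u} {T : Type v} [Group S] [Group T] (e : S ≃* T) {H : Subgroup S}
    (h : IsPiHall π H) : IsPiHall π (H.map e.toMonoidHom) := by
  refine ⟨fun p hp hd => h.1 p hp ?_, fun p hp hpi hd => h.2 p hp hpi ?_⟩
  · rwa [Subgroup.card_map_of_injective (f := e.toMonoidHom) e.injective] at hd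
  · rwa [show (H.map e.toMonoidHom).index = H.index from Subgroup.index_map_equiv H e] at hd

theorem FHall.of_equiv {G : Type u} [Group G] {G' : Type v} [Group G'] {π : Set ℕ} (e : G ≃* G') (h : FHall π G') :
    FHall π G := by
  obtain ⟨r, hr, H, A, hH, hAH, hn, hc, hA, hi⟩ := h
  refine ⟨r, hr, H.map e.symm.toMonoidHom, A.map e.symm.toMonoidHom, isPiHall_map' e.symm hH,
    Subgroup.map_mono hAH, ?_, ?_, ?_, ?_⟩
  · rintro _ ⟨x, hx, rfl⟩
    rw [Subgroup.mem_normalizer_iff]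
    intro y
    have h1 := Subgroup.mem_normalizer_iff.1 (hn hx) (e y)
    constructor
    · rintro ⟨a, ha, rfl⟩
      have h2 : x * a * x⁻¹ ∈ A := (Subgroup.mem_normalizer_iff.1 (hn hx) a).1 ha
      refine ⟨_, h2, ?_⟩
      simp only [map_mul, map_inv]
    · rintro ⟨a, ha, h3⟩
      have h4 : a = x * e y * x⁻¹ := by
        have h5 := congrArg e h3
        simpa using h5
      have h5 : e y ∈ A := h1.2 (by rw [← h4]; exact ha)
      exact ⟨e y, h5, by simp⟩
  · rintro _ ⟨a, ha, rfl⟩ _ ⟨b, hb, rfl⟩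
    rw [← map_mul, ← map_mul, hc a ha b hb]
  · rw [Subgroup.card_map_of_injective e.symm.injective]
    exact hA
  · have : (A.map e.symm.toMonoidHom).relIndex (H.map e.symm.toMonoidHom) = A.relIndex H :=
      Subgroup.relIndex_map_map_of_injective A H e.symm.injective
    rw [this]
    exact hi

theorem exists_hall_equiv {G : Type u} [Group G] {G' : Type v} [Group G'] {π : Set ℕ} (e : G ≃* G')
    (h : ∃ H : Subgroup G, IsPiHall π H) : ∃ H : Subgroup G', IsPiHall π H := by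
  obtain ⟨H, hH⟩ := h
  exact ⟨_, isPiHall_map' e hH⟩

section Fun

variable {D : ChevalleyDatum} {l : ℕ} {M : CoxeterMatrix (Fin l)} {hp : IsType D l M}
  {k : Type u} [Field k] [IsAlgClosed k] {r e : ℕ} [Fact r.Prime] [CharP k r]
  {G : Type v} [Group G] {κ : G →* ↥(D.group k)} {τ : MulAut ↥(D.group k)}
  {θ : (Fin l → ℤ) ≃+ (Fin l → ℤ)}

/-- **the functionals** -/
theorem fhall_fun [Finite G] (hk : LocFin k) (h : Emb hp r e κ τ θ) {d : ℕ} {Bi : Fin l → Fin l → ℤ}
    (hB : InvC D l d Bi) (hd : d ≠ 0) (hmem : ∀ y, τ y = y → ∃ x, κ x = y) {s : ℕ} [hs : Fact s.Prime] (hs2 : s ≠ 2)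
    (hsr : s ≠ r) {m : ℕ} (Nf : Fin m → Fin l → ℤ)
    (hN : ∀ j x, (s : ℤ) ∣ (∑ i, Nf j i * (θ x) i) - (r : ℤ) ^ e * ∑ i, Nf j i * x i) {g : ℕ → ℕ}
    (K : ChkS D s (fun j b => ∑ i, Nf j i * vec D l b i) g) (O : Ort D g)
    (h0 : 0 < D.nroots) {π : Set ℕ} (h2 : 2 ∉ π) (hsπ : s ∈ π) (hrπ : r ∉ π) (hE : ∃ H : Subgroup G, IsPiHall π H)
    (hPN : ∀ t, t.Prime → t ∈ π → t ≠ s → t ∣ Nat.card G → PairN t s G) : FHall π G := by
  obtain ⟨ζ, hζ⟩ := exists_zeta_pow (k := k) (r := r) (s := s) (a := 1) hsr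
  rw [pow_one] at hζ
  have hNz : NeZero s := ⟨hs.out.ne_zero⟩
  have h1 : ∀ j, ∃ a ∈ TG κ, ∀ x, cX hp (κ a) x = ζ ^ (∑ i, Nf j i * x i) := by
    intro j
    let c : (Fin l → ℤ) →+ ZMod s :=
      { toFun := fun x => ((∑ i, Nf j i * x i : ℤ) : ZMod s)
        map_zero' := by simp
        map_add' := fun x z => by
          rw [← Int.cast_add, ← Finset.sum_add_distrib]
          congr 1
          exact Finset.sum_congr rfl fun i _ => by rw [Pi.add_apply, mul_add] }
    obtain ⟨t, ht, hct, htN, hτt⟩ := exists_tor_fix hp hB hd h.frob h.fr hζ c (fun x => by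
      show ((∑ i, Nf j i * (θ x) i : ℤ) : ZMod s) = ((r ^ e : ℕ) : ZMod s) * ((∑ i, Nf j i * x i : ℤ) : ZMod s)
      have h3 := (ZMod.intCast_zmod_eq_zero_iff_dvd _ _).2 (hN j x)
      push_cast at h3 ⊢
      exact sub_eq_zero.1 h3)
    obtain ⟨x, rfl⟩ := hmem t hτt
    refine ⟨x, ht, fun z => ?_⟩
    rw [hct]
    exact (zpow_eq_pow_val hζ _)
  choose a ha hax using h1
  exact fhall_emb hk h hs.out hs2 hζ K O h0 a ha (fun j b _ => hax j _) h2 hsπ hrπ hE hPN

end Fun

variable {G : Type v} [Group G] [Finite G] {π : Set ℕ} {p : ℕ}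

section Untw

variable {F : Type u} [Field F] [Fintype F] [CharP F p] (h2 : 2 ∉ π) (hpπ : p ∉ π)
  (hE : ∃ H : Subgroup G, IsPiHall π H)

include h2 hpπ hE

/-- `E₇(q)`, `3 ∈ π` -/
theorem fhall_e7_three (h3 : 3 ∈ π) (e : G ≃* ↥(chevE7.group F)) : FHall π G := by
  have hp : p.Prime := CharP.char_is_prime F p
  have h3F : (3 : F) ≠ 0 := by exact_mod_cast cast_ne_zero_of_char (F := F) hp Nat.prime_three (ne_of_mem hpπ h3)
  have : Fact (Nat.Prime 3) := ⟨Nat.prime_three⟩
  obtain ⟨ε, hε, hq⟩ := exists_eps _ (three_cases h3F)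
  obtain ⟨w, hw⟩ := exists_w e7T negE7 hε
  refine FHall.of_equiv e (fhall_untw e7T datE7 (s := 3) (by norm_num) (by exact_mod_cast h3F) w hw hq chkSE7_three
    ortE7 (by decide +kernel) h2 h3 hpπ (exists_hall_equiv e hE) fun t ht htπ ht3 _ => ?_)
  exact e7_three h3F ht (ne_of_mem h2 htπ) ht3

/-- `E₈(q)`, `3 ∈ π` -/
theorem fhall_e8_three (h3 : 3 ∈ π) (e : G ≃* ↥(chevE8.group F)) : FHall π G := by
  have hp : p.Prime := CharP.char_is_prime F p
  have h3F : (3 : F) ≠ 0 := by exact_mod_cast cast_ne_zero_of_char (F := F) hp Nat.prime_three (ne_of_mem hpπ h3)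
  have : Fact (Nat.Prime 3) := ⟨Nat.prime_three⟩
  obtain ⟨ε, hε, hq⟩ := exists_eps _ (three_cases h3F)
  obtain ⟨w, hw⟩ := exists_w e8T negE8 hε
  refine FHall.of_equiv e (fhall_untw e8T datE8 (s := 3) (by norm_num) (by exact_mod_cast h3F) w hw hq chkSE8_three
    ortE8 (by decide +kernel) h2 h3 hpπ (exists_hall_equiv e hE) fun t ht htπ ht3 _ => ?_)
  exact e8_three h3F ht (ne_of_mem h2 htπ) ht3

/-- `E₇(q)`, `3 ∉ π`, `5 ∈ π`, `5 ∣ q² - 1` -/
theorem fhall_e7_five (h3 : 3 ∉ π) (h5 : 5 ∈ π)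
    (hq : (5 : ℤ) ∣ (Fintype.card F : ℤ) - 1 ∨ (5 : ℤ) ∣ (Fintype.card F : ℤ) - (-1 : ℤ))
    (e : G ≃* ↥(chevE7.group F)) : FHall π G := by
  have hp : p.Prime := CharP.char_is_prime F p
  have h5F : (5 : F) ≠ 0 := by exact_mod_cast cast_ne_zero_of_char (F := F) hp Nat.prime_five (ne_of_mem hpπ h5)
  have : Fact (Nat.Prime 5) := ⟨Nat.prime_five⟩
  obtain ⟨ε, hε, hq'⟩ := exists_eps (s := 5) _ hq
  obtain ⟨w, hw⟩ := exists_w e7T negE7 hε
  refine FHall.of_equiv e (fhall_untw e7T datE7 (s := 5) (by norm_num) (by exact_mod_cast h5F) w hw hq' chkSE7_five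
    ortE7 (by decide +kernel) h2 h5 hpπ (exists_hall_equiv e hE) fun t ht htπ ht5 _ => ?_)
  exact e7_five h5F hq ht (ne_of_mem h2 htπ) (ne_of_mem h3 htπ) ht5

/-- `E₈(q)`, `3 ∉ π`, `5 ∈ π`, `5 ∣ q² - 1` -/
theorem fhall_e8_five (h3 : 3 ∉ π) (h5 : 5 ∈ π)
    (hq : (5 : ℤ) ∣ (Fintype.card F : ℤ) - 1 ∨ (5 : ℤ) ∣ (Fintype.card F : ℤ) - (-1 : ℤ))
    (e : G ≃* ↥(chevE8.group F)) : FHall π G := by
  have hp : p.Prime := CharP.char_is_prime F p
  have h5F : (5 : F) ≠ 0 := by exact_mod_cast cast_ne_zero_of_char (F := F) hp Nat.prime_five (ne_of_mem hpπ h5)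
  have : Fact (Nat.Prime 5) := ⟨Nat.prime_five⟩
  obtain ⟨ε, hε, hq'⟩ := exists_eps (s := 5) _ hq
  obtain ⟨w, hw⟩ := exists_w e8T negE8 hε
  refine FHall.of_equiv e (fhall_untw e8T datE8 (s := 5) (by norm_num) (by exact_mod_cast h5F) w hw hq' chkSE8_five
    ortE8 (by decide +kernel) h2 h5 hpπ (exists_hall_equiv e hE) fun t ht htπ ht5 _ => ?_)
  have := five_le ht (ne_of_mem h2 htπ) (ne_of_mem h3 htπ)
  exact e8_five h5F hq ht (ne_of_mem h2 htπ) (ne_of_mem h3 htπ) ht5

/-- `E₆(q)`, `3 ∈ π`, `3 ∣ q - 1` -/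
theorem fhall_e6_three_one (h3 : 3 ∈ π) (hq3 : Fintype.card F % 3 = 1) (e : G ≃* ↥(chevE6.group F)) :
    FHall π G := by
  have hp : p.Prime := CharP.char_is_prime F p
  have h3F : (3 : F) ≠ 0 := by exact_mod_cast cast_ne_zero_of_char (F := F) hp Nat.prime_three (ne_of_mem hpπ h3)
  have : Fact (Nat.Prime 3) := ⟨Nat.prime_three⟩
  have hq : ((3 : ℕ) : ℤ) ∣ (Fintype.card F : ℤ) - 1 := by omega
  refine FHall.of_equiv e (fhall_untw e6T datE6 (s := 3) (by norm_num) (by exact_mod_cast h3F) 1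
    (fun x => by rw [map_one, Module.End.one_apply, one_smul]) hq chkSE6_three
    ortE6' (by decide +kernel) h2 h3 hpπ (exists_hall_equiv e hE) fun t ht htπ ht3 _ => ?_)
  exact e6_three_one h3F hq3 ht (ne_of_mem h2 htπ) ht3

omit h2 hpπ hE in
theorem sum_gE6 (j : Fin 4) (x : Fin 6 → ℤ) :
    ∑ i, NfE6 j i * (H565.E6Lat.g x) i = ∑ i, NfE6 j i * x i := by
  obtain ⟨a0, a1, a2, a3, a4, a5⟩ := H565.E6Lat.g_apply x
  simp only [Fin.sum_univ_succ, Fin.sum_univ_zero, Fin.succ_zero_eq_one, Fin.reduceSucc, a0, a1, a2, a3, a4, a5]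
  fin_cases j <;> simp [NfE6] <;> ring

/-- `E₆(q)`, `3 ∈ π`, `3 ∣ q + 1` -/
theorem fhall_e6_three_two (h3 : 3 ∈ π) (hq3 : Fintype.card F % 3 = 2) (e : G ≃* ↥(chevE6.group F)) :
    FHall π G := by
  have hp : p.Prime := CharP.char_is_prime F p
  have h3F : (3 : F) ≠ 0 := by exact_mod_cast cast_ne_zero_of_char (F := F) hp Nat.prime_three (ne_of_mem hpπ h3)
  have : Fact (Nat.Prime 3) := ⟨Nat.prime_three⟩
  refine FHall.of_equiv e ?_
  have hE' := exists_hall_equiv e hE
  have hGf : Finite ↥(chevE6.group F) := inferInstance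
  have hPN : ∀ t, t.Prime → t ∈ π → t ≠ 3 → t ∣ Nat.card ↥(chevE6.group F) → PairN t 3 ↥(chevE6.group F) := by
    intro t ht htπ ht3 _
    have : Fact t.Prime := ⟨ht⟩
    exact H565.RowP1.pairN_E6 h3F hq3 (ne_of_mem h2 htπ) ht3
  obtain ⟨r, n, hr, hrF, hrk, he, hqF, hk⟩ := Cfsg.Agent.H129.TorusUntw.exists_closure (F := F) rfl
  have hrp : p = r := CharP.eq F ‹_› hrF
  subst hrp
  have h3r : 3 ≠ p := (ne_of_mem hpπ h3)
  have hroot : ∀ a : F, ∃ b : F, b ^ 3 = a := exists_root_of_coprime three_ne_zero (by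
    refine Nat.Coprime.symm ((Nat.Prime.coprime_iff_not_dvd Nat.prime_three).2 fun h2 => ?_)
    omega)
  have hset := setup_untw_all hp6 hk (algebraMap F (AlgebraicClosure F)) he hqF invC_E6 three_ne_zero hroot 3
  obtain ⟨κ, τ, z, hEm, hκ, hb⟩ := exists_emb (hp := hp6) hk hset.inj he hset.frob hset.fr hset.fix hset.fin
    Cfsg.Agent.H795.NotAbData.E6.c6
  have hθ : ∀ x, ((AddEquiv.refl (Fin 6 → ℤ)).trans (repAut CoxeterMatrix.E₆.toCoxeterSystem hp6.isCartan
      Cfsg.Agent.H795.NotAbData.E6.c6)) x = (-1 : ℤ) • H565.E6Lat.g x := by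
    intro x
    have h1 := eps_of_mat (hp := hp6) (g := permE rho6) (w := Cfsg.Agent.H795.NotAbData.E6.c6)
      (U := Cfsg.Agent.H795.NotAbData.E6.c6M) (ε := -1) perm6_mat
      (Cfsg.Agent.H795.NotAbData.E6.is_c6 hp6) (by decide +kernel) (H565.E6Lat.g x)
    have h2 : permE rho6 (H565.E6Lat.g x) = x := H565.E6Lat.g_g x
    rw [h2] at h1
    rw [H565.RowP1.refl_trans hp6, h1]
  refine fhall_fun hk hEm invC_E6 three_ne_zero (fun y hy => ?_) (by norm_num) h3r NfE6 (fun j x => ?_) chkSgE6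
    ortgE6 (by decide +kernel) h2 h3 hpπ hE' hPN
  · obtain ⟨x, hx⟩ := Cfsg.Agent.H129.TorusUntw.fix_range hp6 CoxeterMatrix.E₆.toCoxeterSystem
      (algebraMap F (AlgebraicClosure F)) hqF invC_E6 three_ne_zero hroot (hb y hy)
    refine ⟨x, ?_⟩
    rw [hκ, hx]
    group
  · rw [hθ]
    have h1 : ∑ i, NfE6 j i * ((-1 : ℤ) • H565.E6Lat.g x) i = -∑ i, NfE6 j i * x i := by
      rw [← sum_gE6 j x, ← Finset.sum_neg_distrib]
      exact Finset.sum_congr rfl fun i _ => by
        show NfE6 j i * ((-1 : ℤ) • H565.E6Lat.g x i) = _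
        rw [smul_eq_mul]; ring
    rw [h1]
    obtain ⟨c, hc⟩ : (3 : ℤ) ∣ (p : ℤ) ^ n + 1 := by
      have : ((p : ℤ) ^ n) = (Fintype.card F : ℤ) := by rw [hqF]; push_cast; rfl
      rw [this]
      omega
    refine ⟨-c * ∑ i, NfE6 j i * x i, ?_⟩
    push_cast
    linear_combination (-∑ i, NfE6 j i * x i) * hc

end Untw

section Tw

variable {K : Type u} [Field K] [Fintype K] [CharP K p] {q : ℕ} (hq : IsPrimePow q) (h2 : 2 ∉ π) (hpπ : p ∉ π)
  (hE : ∃ H : Subgroup G, IsPiHall π H)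

include hq h2 hpπ hE

set_option maxRecDepth 100000 in
/-- `²E₆(q)`, `3 ∈ π`, `3 ∣ q + 1` -/
theorem fhall_2E6_three_two (h3 : 3 ∈ π) (hF : Fintype.card K = q ^ 2) (hq3 : q % 3 = 2)
    (e : G ≃* ↥(twistedE6 K q)) : FHall π G := by
  have hp : p.Prime := CharP.char_is_prime K p
  have h3F : (3 : K) ≠ 0 := by exact_mod_cast cast_ne_zero_of_char (F := K) hp Nat.prime_three (ne_of_mem hpπ h3)
  have : Fact (Nat.Prime 3) := ⟨Nat.prime_three⟩
  refine FHall.of_equiv e ?_
  have hE' := exists_hall_equiv e hE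
  have hG : Finite ↥(twistedE6 K q) := inferInstance
  have hPN : ∀ t, t.Prime → t ∈ π → t ≠ 3 → t ∣ Nat.card ↥(twistedE6 K q) → PairN t 3 ↥(twistedE6 K q) :=
    fun t ht htπ ht3 _ => twE6_three_two h3F hq hF hq3 ht (ne_of_mem h2 htπ) ht3
  obtain ⟨r, n, hr, hrF, hrk, hn0, hn, hk⟩ := Cfsg.Agent.H795.Tw.exists_closure_q two_ne_zero hq hF
  have hrp : p = r := CharP.eq K ‹_› hrF
  subst hrp
  have hpr : 3 ≠ p := (ne_of_mem hpπ h3)
  have : Fact (Nat.Prime 5) := ⟨by norm_num⟩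
  have hset := Cfsg.Agent.H795.Tw.setup_six (algebraMap K (AlgebraicClosure K)) p hk hn0 hn hF (p := 5) (by norm_num)
  have hcm := comm_mem_of_split (TT_comm Cfsg.Agent.H720.TwFr.hp6) hset.norm hset.fix (fun y hy => by
      have hφ : ∀ t : AlgebraicClosure K, iterateFrobenius (AlgebraicClosure K) p n t = t ^ q :=
        fun t => by rw [iterateFrobenius_def, hn]
      obtain ⟨x, hx, t, ht, e⟩ := EmbInst.twE6_split (f := algebraMap K (AlgebraicClosure K)) hq hF hφ y.2
        (by rw [← Cfsg.Agent.H720.TwFr.coe_sig6, hy])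
      exact ⟨⟨x, hx⟩, ⟨t, diagonal_le_group Cfsg.Agent.H720.TwFr.hp6.inList _ ht⟩, ht, Subtype.ext e⟩)
  obtain ⟨κ, τ, z, hEm, hκ, hb⟩ := exists_emb (hp := hp6) hk hset.inj hn0 hset.frob hset.fr hset.fix hset.fin
    Cfsg.Agent.H795.NotAbData.E6.c6
  have hcm' := fun a b => comm_of_comm (κ := κ) (τ := τ) hκ hb hcm a b
  have hθ0 : ∀ x, rep CoxeterMatrix.E₆.toCoxeterSystem hp6.isCartan Cfsg.Agent.H795.NotAbData.E6.c6
      (permE rho6 x) = (-1 : ℤ) • x :=
    eps_of_mat (hp := Cfsg.Agent.H720.TwFr.hp6) (g := permE rho6) (w := Cfsg.Agent.H795.NotAbData.E6.c6)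
      (U := Cfsg.Agent.H795.NotAbData.E6.c6M) (ε := -1) perm6_mat
      (Cfsg.Agent.H795.NotAbData.E6.is_c6 Cfsg.Agent.H720.TwFr.hp6) (by decide +kernel)
  have hθ : ∀ x, ((permE rho6).trans (repAut CoxeterMatrix.E₆.toCoxeterSystem hp6.isCartan
      Cfsg.Agent.H795.NotAbData.E6.c6)) x = (-1 : ℤ) • x := hθ0
  refine fhall_full hk hEm datE6.hB datE6.hd0 hθ hcm' (by norm_num) hpr ?_ chkSE6_three
    ortE6' (by decide +kernel) h2 h3 hpπ hE' hPN
  have h1 : ((p : ℤ) ^ n) = (q : ℤ) := by rw [hn]; push_cast; rfl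
  rw [h1]
  push_cast
  omega

/-- `²E₆(q)`, `3 ∈ π`, `3 ∣ q - 1` -/
theorem fhall_2E6_three_one (h3 : 3 ∈ π) (hF : Fintype.card K = q ^ 2) (hq3 : q % 3 = 1)
    (e : G ≃* ↥(twistedE6 K q)) : FHall π G := by
  have hp : p.Prime := CharP.char_is_prime K p
  have h3F : (3 : K) ≠ 0 := by exact_mod_cast cast_ne_zero_of_char (F := K) hp Nat.prime_three (ne_of_mem hpπ h3)
  have : Fact (Nat.Prime 3) := ⟨Nat.prime_three⟩
  refine FHall.of_equiv e ?_
  have hE' := exists_hall_equiv e hE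
  have hG : Finite ↥(twistedE6 K q) := inferInstance
  have hPN : ∀ t, t.Prime → t ∈ π → t ≠ 3 → t ∣ Nat.card ↥(twistedE6 K q) → PairN t 3 ↥(twistedE6 K q) := by
    intro t ht htπ ht3 _
    have : Fact t.Prime := ⟨ht⟩
    exact H565.RowP1.pairN_twE6 h3F hq hF hq3 (ne_of_mem h2 htπ) ht3
  obtain ⟨r, n, hr, hrF, hrk, hn0, hn, hk⟩ := Cfsg.Agent.H795.Tw.exists_closure_q two_ne_zero hq hF
  have hrp : p = r := CharP.eq K ‹_› hrF
  subst hrp
  have hpr : 3 ≠ p := (ne_of_mem hpπ h3)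
  have : Fact (Nat.Prime 5) := ⟨by norm_num⟩
  have hset := Cfsg.Agent.H795.Tw.setup_six (algebraMap K (AlgebraicClosure K)) p hk hn0 hn hF (p := 5) (by norm_num)
  obtain ⟨κ, τ, z, hEm, hκ, hb⟩ := exists_emb (hp := hp6) hk hset.inj hn0 hset.frob hset.fr hset.fix hset.fin 1
  have hθ : ∀ x, ((permE rho6).trans (repAut CoxeterMatrix.E₆.toCoxeterSystem hp6.isCartan
      (1 : CoxeterMatrix.E₆.Group))) x = H565.E6Lat.g x := by
    intro x
    show rep CoxeterMatrix.E₆.toCoxeterSystem hp6.isCartan 1 (permE rho6 x) = H565.E6Lat.g x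
    rw [map_one, Module.End.one_apply]
  refine fhall_fun hk hEm invC_E6 three_ne_zero (fun y hy => ?_) (by norm_num) hpr NfE6 (fun j x => ?_) chkSgE6
    ortgE6 (by decide +kernel) h2 h3 hpπ hE' hPN
  · have h1 := desc6 (algebraMap K (AlgebraicClosure K)) p hk hn0 hn hF (hb y hy)
    have h2 : Nat.gcd 3 (q + 1) = 1 := by
      refine (Nat.Prime.coprime_iff_not_dvd Nat.prime_three).2 fun h5 => ?_
      omega
    rw [h2, pow_one] at h1
    obtain ⟨x, hx⟩ := h1
    refine ⟨x, ?_⟩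
    rw [hκ, hx]
    group
  · rw [hθ, sum_gE6]
    obtain ⟨c, hc⟩ : (3 : ℤ) ∣ (p : ℤ) ^ n - 1 := by
      have : ((p : ℤ) ^ n) = (q : ℤ) := by rw [hn]; push_cast; rfl
      rw [this]
      omega
    refine ⟨-c * ∑ i, NfE6 j i * x i, ?_⟩
    push_cast
    linear_combination (-∑ i, NfE6 j i * x i) * hc

end Tw

end Cfsg.Agent.H167.RV
end

-- part: H167/RV/ChkSE8b
section
/-!
# TEAM RV: the combinatorial checks mod `5`, `E8`, `q² ≡ -1 (mod 5)` (helper167)
-/

set_option autoImplicit false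

namespace Cfsg.Agent.H167.RV

open Cfsg Cfsg.Lie Cfsg.Lie.ChevalleyDatum Cfsg.Agent.ChevalleyStructure Cfsg.Agent.Nodes.RGDChev
open Cfsg.Agent.ChevalleyStructure.CoxeterGeom Cfsg.Agent.ChevalleyStructure.CoxeterGeomTypes
open Cfsg.Agent.H167.EX
open Cfsg.Agent.H574.ExcE8Five (fv gv)

/-- the element `θ` of order 4 on the indices of the roots -/
noncomputable def gE8 : List ℕ :=
  (by
  refine (?fq9004 : (fun (On : (n : Nat) → OfNat Nat n → Nat) (In : (n : Nat) → OfNat Nat n) => ((pk61l (fun i1 => (pk61o On In (pk61d (nat_lit 8) 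
    (nat_lit 0x416d8797c119c040df3f61818cbe6c9608182d3d6b95bfd5deea172c3c6a5760a37dadbb3e4b4d94808bbda1d4dd0406160d2a3a23565f7a7f8abca0d3dccbe6e8ef22555e78a8467e899eca20c92b3b694a8d937cacbad1030f1527537babb9d0e5520c29394979029fd2dbe1ee0b28384821545d376745aa88b8929bcea7b7c7e4010e141d50ed76a6b6c6e39d0a1f3644749cc8dae0ec1e3543735c62a586b4c426cf25516671a94777919acd00070924131c4f336570759099ccb5c5e2d9e9eb121b4e32646f5ba2a4b13442724c8f9885b3c3d805111a305a84b2c2d7e7598331636e8eb010af2fd62e586882ae) i1))) (nat_lit 0) (nat_lit 240) List.nil) : List ℕ))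
    = ?xq9004 → (List ℕ)) ?hq9004; (case hq9004 => (set_option maxRecDepth 1000000 in conv => lhs; reduce)); intro _; exact ?xq9004 (@OfNat.ofNat Nat) instOfNatNat : List ℕ)

/-- the functionals of the `q0`-eigenspace of `θ` -/
def NfE8 (q0 : ℤ) (j : Fin 4) (i : Fin 8) : ℤ := fv j i + q0 * gv j i

def NE8_2 : List (List ℤ) :=
  [[1, 0, 0, 1, 0, -4, 2, 4], [0, 1, 0, -3, 0, 4, -1, 1], [0, 0, 1, 0, 0, -3, 2, 2], [0, 0, 0, 1, 1, -1, -3, -1]]

def NE8_3 : List (List ℤ) :=
  [[1, 0, 0, 1, 0, -5, 3, 6], [0, 1, 0, -4, 0, 6, -2, 1], [0, 0, 1, 0, 0, -4, 3, 3], [0, 0, 0, 2, 1, -2, -4, -1]]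

theorem NE8_2_eq : NE8_2 = List.ofFn fun j => List.ofFn (NfE8 2 j) := by decide +kernel

theorem NE8_3_eq : NE8_3 = List.ofFn fun j => List.ofFn (NfE8 3 j) := by decide +kernel

theorem chkE8_two' : chkT ((List.range chevE8.nroots).map (entry chevE8 5 NE8_2 gE8 8)) = true :=
  chkT_fast Fast.okE8 n8 crd8 (by decide +kernel) (by (first | (rewrite [Cfsg.Agent.KO387f22b.e32, Cfsg.Agent.KO387f22b.e41]; decide +kernel) | decide +kernel))

theorem chkE8_three' : chkT ((List.range chevE8.nroots).map (entry chevE8 5 NE8_3 gE8 8)) = true :=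
  chkT_fast Fast.okE8 n8 crd8 (by decide +kernel) (by (first | (rewrite [Cfsg.Agent.KO387f22b.e32, Cfsg.Agent.KO387f22b.e41]; decide +kernel) | decide +kernel))

theorem ortBE8 : ortB chevE8 gE8 = true := Fast.ortB_of Fast.okE8 (by decide +kernel)

theorem ortgE8 : Ort chevE8 (fun b => gE8.getD b 0) := ort_of oneE8 ortBE8

theorem chkSE8_2 : ChkS chevE8 5 (fun (j : Fin 4) b => ∑ i, NfE8 2 j i * vec chevE8 8 b i) (fun b => gE8.getD b 0) :=
  chkS_of (by norm_num) _ NE8_2_eq chkE8_two'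

theorem chkSE8_3 : ChkS chevE8 5 (fun (j : Fin 4) b => ∑ i, NfE8 3 j i * vec chevE8 8 b i) (fun b => gE8.getD b 0) :=
  chkS_of (by norm_num) _ NE8_3_eq chkE8_three'

end Cfsg.Agent.H167.RV
end

-- part: H167/RV/TorE
section
/-!
# TEAM RV: `E8(q)`, `5 ∈ π`, `q² ≡ -1 (mod 5)`, and the final rows `E6`, `2E6`, `E8` (helper167)
-/

set_option autoImplicit false
set_option linter.unusedSectionVars false

namespace Cfsg.Agent.H167.RV

open CoxeterSystem Cfsg Cfsg.Lie Cfsg.Lie.ChevalleyDatum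
open Cfsg.Agent.ChevalleyStructure Cfsg.Agent.ChevalleyStructure.Elts Cfsg.Agent.ChevalleyStructure.CoxeterGeom
  Cfsg.Agent.ChevalleyStructure.CoxeterGeomTypes Cfsg.Agent.ChevalleyStructure.NPerm
open Cfsg.Agent.Tits.Roots Cfsg.Agent.Tits.Core Cfsg.Agent.Nodes Cfsg.Agent.Nodes.Reps Cfsg.Agent.Nodes.BNOf
  Cfsg.Agent.Nodes.RGDChev Cfsg.Agent.Nodes.Bruhat
open Cfsg.Agent.KFacts.RgdField Cfsg.Agent.KFacts.RgdChevCoord Cfsg.Agent.BpExc.TorCent Cfsg.Agent.BpExc.TorChev
open Cfsg.Agent.GpExc.Field Cfsg.Agent.BpExc.Tow Cfsg.Agent.BpExc.TowChev Cfsg.Agent.BpExc.Fr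
  Cfsg.Agent.BpExc.LangFr Cfsg.Agent.H129.TorusChar Cfsg.Agent.H129.TorusMain Cfsg.Agent.H123.ExcZ
open Cfsg.Agent.BpExc Cfsg.Agent.H795.LangT Cfsg.Agent.H795.Core Cfsg.Agent.H795.NotAbT
open Cfsg.Agent.H572.ExcA Cfsg.Agent.H572.ExcB Cfsg.Agent.H572.ExcC Cfsg.Agent.H572.ExcD Cfsg.Agent.H572.LatQ
  Cfsg.Agent.H572.LatForm Cfsg.Agent.H572.ExcE Cfsg.Agent.H572.ExcF
open Cfsg.Agent.H988.CPi Cfsg.Agent.H571.RV Cfsg.Agent.H553.OddHall Cfsg.Agent.H565.CharCnt
open Cfsg.Agent.BpExc.RowsUntw Cfsg.Agent.H720.TwFr Cfsg.Agent.H795.NotAbRows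
open Cfsg.Agent.H565.NM (cast_ne_zero_of_char)
open Cfsg.Agent.H574.ExcE8Five (th th_mat dot dot_apply cvec dot_cvec_th fv gv)
open Subgroup

universe u v

variable {G : Type v} [Group G] [Finite G] {π : Set ℕ} {p : ℕ}

/-- the functionals -/
theorem NfE8_eq (q0 : ℤ) (j : Fin 4) (x : Fin 8 → ℤ) :
    ∑ i, NfE8 q0 j i * x i = dot (cvec (fun i => if i = j then 1 else 0) q0) x := by
  rw [dot_apply]
  refine Finset.sum_congr rfl fun m _ => ?_
  have : cvec (fun i => if i = j then 1 else 0) q0 m = NfE8 q0 j m := by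
    unfold cvec NfE8
    rw [Finset.sum_eq_single j]
    · show (if j = j then (1 : ℤ) else 0) * _ = _
      rw [if_pos rfl, one_mul]
    · intro b _ hb
      show (if b = j then (1 : ℤ) else 0) * _ = _
      rw [if_neg hb, zero_mul]
    · intro h
      exact absurd (Finset.mem_univ j) h
  rw [this, mul_comm]

theorem th_eq (x : Fin 8 → ℤ) : ((AddEquiv.refl (Fin 8 → ℤ)).trans (repAut CoxeterMatrix.E₈.toCoxeterSystem
    e8T.isCartan Cfsg.Agent.H795.NotAbData.E8.u5)) x = th x := by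
  unfold th
  generalize Cfsg.Agent.H795.NotAbData.E8.u5 = w
  rfl

section Untw

variable {F : Type u} [Field F] [Fintype F] [CharP F p] (h2 : 2 ∉ π) (hpπ : p ∉ π)
  (hE : ∃ H : Subgroup G, IsPiHall π H)

include h2 hpπ hE

/-- `E₈(q)`, `3 ∉ π`, `5 ∈ π`, `5 ∣ q² + 1` -/
theorem fhall_e8_four (h3 : 3 ∉ π) (h5 : 5 ∈ π) (hq : 5 ∣ Fintype.card F ^ 2 + 1)
    (e : G ≃* ↥(chevE8.group F)) : FHall π G := by
  have hp : p.Prime := CharP.char_is_prime F p
  have h5F : (5 : F) ≠ 0 := by exact_mod_cast cast_ne_zero_of_char (F := F) hp Nat.prime_five (ne_of_mem hpπ h5)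
  have : Fact (Nat.Prime 5) := ⟨Nat.prime_five⟩
  refine FHall.of_equiv e ?_
  have hE' := exists_hall_equiv e hE
  have hGf : Finite ↥(chevE8.group F) := inferInstance
  have hPN : ∀ t, t.Prime → t ∈ π → t ≠ 5 → t ∣ Nat.card ↥(chevE8.group F) → PairN t 5 ↥(chevE8.group F) := by
    intro t ht htπ ht5 _
    have := five_le ht (ne_of_mem h2 htπ) (ne_of_mem h3 htπ)
    exact Cfsg.Agent.H574.ExcE8Five.pairN_E8_five hq ht (seven_le ht (ne_of_mem h2 htπ) (ne_of_mem h3 htπ) ht5)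
  obtain ⟨r, n, hr, hrF, hrk, he, hqF, hk⟩ := Cfsg.Agent.H129.TorusUntw.exists_closure (F := F) rfl
  have hrp : p = r := CharP.eq F ‹_› hrF
  subst hrp
  have h5r : 5 ≠ p := (ne_of_mem hpπ h5)
  have hset := Cfsg.Agent.H795.NotAbRows.setup_untw_all (D := chevE8) (M := CoxeterMatrix.E₈) e8T hk
    (algebraMap F (AlgebraicClosure F)) he hqF invC_E8 one_ne_zero (fun b => ⟨b, pow_one b⟩) 5
  obtain ⟨κ, τ, z, hEm, hκ, hb⟩ := exists_emb (hp := e8T) hk hset.inj he hset.frob hset.fr hset.fix hset.fin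
    Cfsg.Agent.H795.NotAbData.E8.u5
  have hmem : ∀ y, τ y = y → ∃ x, κ x = y := by
    intro y hy
    obtain ⟨x, hx⟩ := Cfsg.Agent.H129.TorusUntw.fix_range e8T CoxeterMatrix.E₈.toCoxeterSystem
      (algebraMap F (AlgebraicClosure F)) hqF invC_E8 one_ne_zero (fun b => ⟨b, pow_one b⟩) (hb y hy)
    refine ⟨x, ?_⟩
    rw [hκ, hx]
    group
  have hθ : ∀ x, ((AddEquiv.refl (Fin 8 → ℤ)).trans (repAut CoxeterMatrix.E₈.toCoxeterSystem e8T.isCartan
      Cfsg.Agent.H795.NotAbData.E8.u5)) x = th x := fun x => th_eq x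
  have hqZ : (5 : ℤ) ∣ ((p : ℤ) ^ n) ^ 2 + 1 := by
    rw [hqF] at hq
    exact_mod_cast hq
  -- the general computation
  have key : ∀ q0 : ℤ, (5 : ℤ) ∣ (p : ℤ) ^ n - q0 → ∀ (j : Fin 4) (x : Fin 8 → ℤ),
      ((5 : ℕ) : ℤ) ∣ (∑ i, NfE8 q0 j i * (((AddEquiv.refl (Fin 8 → ℤ)).trans (repAut
        CoxeterMatrix.E₈.toCoxeterSystem e8T.isCartan Cfsg.Agent.H795.NotAbData.E8.u5)) x) i) -
        (p : ℤ) ^ n * ∑ i, NfE8 q0 j i * x i := by
    rintro q0 ⟨c, hc⟩ j x
    rw [hθ, NfE8_eq, NfE8_eq, dot_cvec_th]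
    obtain ⟨d, hd⟩ := hqZ
    generalize dot (cvec (fun i => if i = j then 1 else 0) q0) x = A
    generalize ∑ r, x r * ∑ i, (if i = j then (1 : ℤ) else 0) * gv i r = B
    have hpn : (p : ℤ) ^ n = q0 + 5 * c := by linear_combination hc
    rw [hpn] at hd ⊢
    refine ⟨-(c * A) - (d - 2 * q0 * c - 5 * c ^ 2) * B, ?_⟩
    push_cast
    linear_combination -B * hd
  have hcase : (5 : ℤ) ∣ (p : ℤ) ^ n - 2 ∨ (5 : ℤ) ∣ (p : ℤ) ^ n - 3 := by
    generalize (p : ℤ) ^ n = a at hqZ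
    have h0 : a % 5 = 0 ∨ a % 5 = 1 ∨ a % 5 = 2 ∨ a % 5 = 3 ∨ a % 5 = 4 := by omega
    have h1 := Int.emod_emod_of_dvd (a ^ 2 + 1) (dvd_refl (5 : ℤ))
    have h2 : (a ^ 2 + 1) % 5 = 0 := Int.emod_eq_zero_of_dvd hqZ
    rw [pow_two, Int.add_emod, Int.mul_emod] at h2
    rcases h0 with h | h | h | h | h <;> rw [h] at h2 <;> first | (exfalso; revert h2; decide) | skip
    · left; omega
    · right; omega
  rcases hcase with h | h
  · exact fhall_fun hk hEm invC_E8 one_ne_zero hmem (by norm_num) h5r (NfE8 2) (key 2 h) chkSE8_2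
      ortgE8 (by decide +kernel) h2 h5 hpπ hE' hPN
  · exact fhall_fun hk hEm invC_E8 one_ne_zero hmem (by norm_num) h5r (NfE8 3) (key 3 h) chkSE8_3
      ortgE8 (by decide +kernel) h2 h5 hpπ hE' hPN

/-- **`E₆(q)`** -/
theorem fhall_e6 (e : G ≃* ↥(chevE6.group F)) : FHall π G := by
  by_cases h3 : 3 ∈ π
  · have hp : p.Prime := CharP.char_is_prime F p
    have h3F : (3 : F) ≠ 0 := by exact_mod_cast cast_ne_zero_of_char (F := F) hp Nat.prime_three (ne_of_mem hpπ h3)
    have h4 := three_cases h3F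
    by_cases h1 : Fintype.card F % 3 = 1
    · exact fhall_e6_three_one h2 hpπ hE h3 h1 e
    · exact fhall_e6_three_two h2 hpπ hE h3 (by omega) e
  · exact fhall_e6_five h2 hpπ hE h3 e

/-- **`E₈(q)`** -/
theorem fhall_e8 (e : G ≃* ↥(chevE8.group F)) : FHall π G := by
  by_cases h3 : 3 ∈ π
  · exact fhall_e8_three h2 hpπ hE h3 e
  by_cases h5 : 5 ∈ π
  · have hp : p.Prime := CharP.char_is_prime F p
    have h5F : (5 : F) ≠ 0 := by exact_mod_cast cast_ne_zero_of_char (F := F) hp Nat.prime_five (ne_of_mem hpπ h5)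
    have h0 : ¬ 5 ∣ Fintype.card F := by
      intro h
      obtain ⟨p, n, hp, hpp, hc⟩ := FiniteField.card' F
      rw [hc] at h
      have h2 := Nat.prime_five.dvd_of_dvd_pow h
      have h3' := (Nat.prime_dvd_prime_iff_eq Nat.prime_five hpp).1 h2
      subst h3'
      exact h5F (by exact_mod_cast CharP.cast_eq_zero F 5)
    have h1 : Fintype.card F % 5 = 1 ∨ Fintype.card F % 5 = 4 ∨ Fintype.card F % 5 = 2 ∨ Fintype.card F % 5 = 3 := by
      omega
    rcases h1 with h1 | h1 | h1 | h1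
    · exact fhall_e8_five h2 hpπ hE h3 h5 (Or.inl (by omega)) e
    · exact fhall_e8_five h2 hpπ hE h3 h5 (Or.inr (by omega)) e
    · exact fhall_e8_four h2 hpπ hE h3 h5 (by rw [Nat.dvd_iff_mod_eq_zero, Nat.add_mod, Nat.pow_mod, h1]) e
    · exact fhall_e8_four h2 hpπ hE h3 h5 (by rw [Nat.dvd_iff_mod_eq_zero, Nat.add_mod, Nat.pow_mod, h1]) e
  · exact fhall_e8_one h2 hpπ hE (r := 7) (Or.inr (Or.inr rfl)) (fun t ht htπ ht7 =>
      eleven_le ht (ne_of_mem h2 htπ) (ne_of_mem h3 htπ) (ne_of_mem h5 htπ) ht7) e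

end Untw

section Tw

variable {K : Type u} [Field K] [Fintype K] [CharP K p] {q : ℕ} (hq : IsPrimePow q) (h2 : 2 ∉ π) (hpπ : p ∉ π)
  (hE : ∃ H : Subgroup G, IsPiHall π H)

include hq h2 hpπ hE

/-- **`²E₆(q)`** -/
theorem fhall_2E6 (hF : Fintype.card K = q ^ 2) (e : G ≃* ↥(twistedE6 K q)) : FHall π G := by
  by_cases h3 : 3 ∈ π
  · have hp : p.Prime := CharP.char_is_prime K p
    have h3F : (3 : K) ≠ 0 := by exact_mod_cast cast_ne_zero_of_char (F := K) hp Nat.prime_three (ne_of_mem hpπ h3)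
    have h4 := three_cases h3F
    have h0 : q % 3 ≠ 0 := by
      intro h0
      have h5 : 3 ∣ q := Nat.dvd_of_mod_eq_zero h0
      have h6 : 3 ∣ Fintype.card K := by rw [hF]; exact dvd_pow h5 two_ne_zero
      omega
    by_cases h1 : q % 3 = 2
    · exact fhall_2E6_three_two hq h2 hpπ hE h3 hF h1 e
    · exact fhall_2E6_three_one hq h2 hpπ hE h3 hF (by omega) e
  · exact fhall_2E6_five hq h2 hpπ hE h3 hF e

end Tw

end Cfsg.Agent.H167.RV
end

private theorem dce_7b5c6461efe8 : _root_.True := by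
  try have : _root_.True := by simp only [_root_.Cfsg.Agent.H167.RV.dotL.eq_2]
  try have : _root_.True := by simp only [_root_.Cfsg.Agent.H167.RV.dotL.eq_def]
  try have : _root_.True := by simp only [_root_.Cfsg.Agent.H167.RV.dotL.eq_1]
  try have : _root_.True := by simp only [_root_.Cfsg.Agent.H167.RV.pk.eq_2]
  try have : _root_.True := by simp only [_root_.Cfsg.Agent.H167.RV.pk.eq_def]
  try have : _root_.True := by simp only [_root_.Cfsg.Agent.H167.RV.NfE6.eq_1]
  try have : _root_.True := by simp only [_root_.Cfsg.Agent.H167.RV.pk.eq_1]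
  try have : _root_.True := by simp only [_root_.Cfsg.Agent.H167.RV.dotL._sparseCasesOn_1.else_eq]
  exact _root_.True.intro
end

-- part: H555/RV/Ree
section
prune_inst 0x30005100050000000000001000001c02e2000500000b800191800a060e867e0100020e20f8200b02112280a4403a8048104400290010000020008600411900a08cab72c22274a900e60007c0f887100000000000000000000000000000041000000000000
set_option linter.all false
open scoped Cfsg.Agent.FastGrp

-- part: H555/RV/ZComm
section
/-!
# A normal complement of a self-centralising abelian Sylow 2-subgroup (helper555)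

`comm_of_compl` : `H = N Q`, `N` normal of odd order with cyclic Sylow subgroups, `Q` an abelian Sylow 2-subgroup with
`C_H(Q) ≤ Q`: `N` is abelian.
-/

set_option autoImplicit false

namespace Cfsg.Agent.H555.RV

open Subgroup
open scoped commutatorElement

universe u

variable {H : Type u} [Group H] [Finite H]

omit [Finite H] in
/-- `H'` centralises a cyclic normal subgroup -/
theorem commutator_le_centralizer {Z : Subgroup H} (hZ : Z.Normal) (hc : IsCyclic Z) :
    commutator H ≤ centralizer (Z : Set H) := by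
  rw [commutator_def, Subgroup.commutator_le]
  intro g _ h _
  obtain ⟨z, hz⟩ := hc.exists_generator
  have key : ∀ g : H, ∃ a : ℤ, (MulAut.conjNormal g : MulAut Z) z = z ^ a := by
    intro g
    obtain ⟨a, ha⟩ := hz ((MulAut.conjNormal g : MulAut Z) z)
    exact ⟨a, ha.symm⟩
  obtain ⟨a, ha⟩ := key g
  obtain ⟨b, hb⟩ := key h
  have h1 : Commute (MulAut.conjNormal g : MulAut Z) (MulAut.conjNormal h : MulAut Z) := by
    apply MulEquiv.ext
    intro w
    obtain ⟨k, rfl⟩ := hz w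
    show (MulAut.conjNormal g : MulAut Z) ((MulAut.conjNormal h : MulAut Z) (z ^ k)) =
      (MulAut.conjNormal h : MulAut Z) ((MulAut.conjNormal g : MulAut Z) (z ^ k))
    have e1 : (MulAut.conjNormal g : MulAut Z) ((MulAut.conjNormal h : MulAut Z) (z ^ k)) = ((z ^ a) ^ b) ^ k := by
      rw [map_zpow, hb, map_zpow, map_zpow, ha]
    have e2 : (MulAut.conjNormal h : MulAut Z) ((MulAut.conjNormal g : MulAut Z) (z ^ k)) = ((z ^ b) ^ a) ^ k := by
      rw [map_zpow, ha, map_zpow, map_zpow, hb]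
    rw [e1, e2, ← zpow_mul z a b, ← zpow_mul z b a, mul_comm a b]
  have h2 : (MulAut.conjNormal ⁅g, h⁆ : MulAut Z) = 1 := by
    rw [map_commutatorElement, commutatorElement_eq_one_iff_commute]
    exact h1
  rw [mem_centralizer_iff]
  intro y hy
  have h3 := congrArg (fun f : MulAut Z => ((f ⟨y, hy⟩ : Z) : H)) h2
  have h4 : ⁅g, h⁆ * y * ⁅g, h⁆⁻¹ = y := h3
  exact (mul_inv_eq_iff_eq_mul.1 h4).symm

theorem comm_of_compl {N : Subgroup H} (hN : N.Normal) (Q : Sylow 2 H) (hc : IsComplement' N (Q : Subgroup H))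
    (hQ : ∀ a ∈ Q, ∀ b ∈ Q, a * b = b * a) (hC : centralizer ((Q : Subgroup H) : Set H) ≤ Q)
    (hcyc : ∀ r : ℕ, r.Prime → r ≠ 2 → ∀ R : Subgroup H, IsPGroup r R → IsCyclic R) :
    ¬ 2 ∣ Nat.card N ∧ ∀ a ∈ N, ∀ b ∈ N, a * b = b * a := by
  have hf2 : Fact (Nat.Prime 2) := ⟨Nat.prime_two⟩
  have hNi : Nat.card N = (Q : Subgroup H).index := by
    have h1 := hc.card_mul_card
    have h2 := (Q : Subgroup H).card_mul_index
    rw [← h2, mul_comm] at h1
    exact Nat.eq_of_mul_eq_mul_left Nat.card_pos h1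
  have hodd : ¬ 2 ∣ Nat.card N := by rw [hNi]; exact Q.not_dvd_index
  refine ⟨hodd, ?_⟩
  -- `Q` is self-normalising
  have hdisj : ∀ x ∈ N, x ∈ (Q : Subgroup H) → x = 1 := by
    intro x hx hxQ
    have h1 := hc.disjoint
    rw [disjoint_iff] at h1
    have h2 : x ∈ N ⊓ (Q : Subgroup H) := ⟨hx, hxQ⟩
    rw [h1] at h2
    exact h2
  have hself : normalizer ((Q : Subgroup H) : Set H) ≤ Q := by
    intro g hg
    obtain ⟨⟨n, q⟩, hnq⟩ := hc.2 g
    have hnq : (n : H) * q = g := hnq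
    have hn : (n : H) ∈ normalizer ((Q : Subgroup H) : Set H) := by
      have h1 : (n : H) = g * (q : H)⁻¹ := by rw [← hnq]; group
      rw [h1]
      exact mul_mem hg (inv_mem (le_normalizer q.2))
    have hnC : (n : H) ∈ centralizer ((Q : Subgroup H) : Set H) := by
      rw [mem_centralizer_iff]
      intro y hy
      have h1 : (n : H) * y * (n : H)⁻¹ * y⁻¹ = 1 := by
        apply hdisj
        · have h2 : (n : H) * y * (n : H)⁻¹ * y⁻¹ = (n : H) * (y * (n : H)⁻¹ * y⁻¹) := by group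
          rw [h2]
          exact mul_mem n.2 (hN.conj_mem _ (inv_mem n.2) y)
        · exact mul_mem ((mem_normalizer_iff.1 hn y).1 hy) (inv_mem hy)
      have h2 : (n : H) * y * (n : H)⁻¹ = y := by rwa [mul_inv_eq_one] at h1
      exact (mul_inv_eq_iff_eq_mul.1 h2).symm
    rw [← hnq]
    exact mul_mem (hC hnC) q.2
  -- Frattini: `H = H' Q`
  have hHQ : commutator H ⊔ (Q : Subgroup H) = ⊤ := by
    set M : Subgroup H := commutator H ⊔ (Q : Subgroup H) with hM
    have hMn : M.Normal := Subgroup.Normal.of_commutator_le _ le_sup_left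
    have hQM : (Q : Subgroup H) ≤ M := le_sup_right
    have h1 := Sylow.normalizer_sup_eq_top (Q.subtype hQM)
    rw [eq_top_iff, ← h1]
    apply sup_le _ le_rfl
    have h2 : (((Q.subtype hQM : Sylow 2 M) : Subgroup M).map M.subtype) = (Q : Subgroup H) := by
      rw [Sylow.coe_subtype, subgroupOf_map_subtype, inf_eq_left.2 hQM]
    rw [h2]
    exact hself.trans hQM
  -- `N ≤ H'`
  have hNH : N ≤ commutator H := by
    intro x hx
    have h1 : (QuotientGroup.mk' (commutator H)) x ∈ (Q : Subgroup H).map (QuotientGroup.mk' (commutator H)) := by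
      have h2 : (⊤ : Subgroup H).map (QuotientGroup.mk' (commutator H)) =
          (Q : Subgroup H).map (QuotientGroup.mk' (commutator H)) := by
        rw [← hHQ, Subgroup.map_sup]
        have h3 : (commutator H).map (QuotientGroup.mk' (commutator H)) = ⊥ := by
          rw [Subgroup.map_eq_bot_iff, QuotientGroup.ker_mk']
        rw [h3, bot_sup_eq]
      rw [← h2]
      exact mem_map_of_mem _ trivial
    obtain ⟨y, hy, hyx⟩ := h1
    obtain ⟨k, hk⟩ := Q.2 ⟨y, hy⟩
    have hk : y ^ 2 ^ k = 1 := congrArg Subtype.val hk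
    have h2 : ((QuotientGroup.mk' (commutator H)) x) ^ 2 ^ k = 1 := by rw [← hyx, ← map_pow, hk, map_one]
    have h3 : ((QuotientGroup.mk' (commutator H)) x) ^ Nat.card N = 1 := by
      have h4 : x ^ Nat.card N = 1 := by
        have h5 : (⟨x, hx⟩ : N) ^ Nat.card N = 1 := pow_card_eq_one'
        exact congrArg Subtype.val h5
      rw [← map_pow, h4, map_one]
    have h4 : Nat.Coprime (2 ^ k) (Nat.card N) :=
      Nat.Coprime.pow_left _ ((Nat.Prime.coprime_iff_not_dvd Nat.prime_two).2 hodd)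
    have h5 := Nat.dvd_gcd (orderOf_dvd_of_pow_eq_one h2) (orderOf_dvd_of_pow_eq_one h3)
    rw [h4, Nat.dvd_one, orderOf_eq_one_iff] at h5
    rw [← QuotientGroup.eq_one_iff]
    exact h5
  -- `N` is a `Z`-group
  have hZ : IsZGroup N := by
    refine ⟨fun p hp P => ?_⟩
    by_cases hp2 : p = 2
    · subst hp2
      have h1 : Nat.card (P : Subgroup N) = 1 := by
        obtain ⟨k, hk⟩ := P.2.exists_card_eq
        rcases Nat.eq_zero_or_pos k with rfl | hk0
        · simpa only [_root_.Subgroup.card_eq_one, _root_.pow_zero] using hk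
        · exfalso
          apply hodd
          have h2 : Nat.card (P : Subgroup N) ∣ Nat.card N := card_subgroup_dvd_card _
          rw [hk] at h2
          exact (dvd_pow_self 2 (by omega)).trans h2
      have : Subsingleton (P : Subgroup N) := (Nat.card_eq_one_iff_unique.1 h1).1
      exact isCyclic_of_subsingleton
    · have h1 := hcyc p hp hp2 ((P : Subgroup N).map N.subtype) (P.2.map _)
      exact isCyclic_of_injective ((P : Subgroup N).equivMapOfInjective _ N.subtype_injective).toMonoidHom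
        ((P : Subgroup N).equivMapOfInjective _ N.subtype_injective).injective
  have hcc : IsCyclic (commutator N) := IsZGroup.isCyclic_commutator N
  set Z : Subgroup H := (commutator N).map N.subtype with hZd
  have hZn : Z.Normal := by
    have : (commutator N).Characteristic := inferInstance
    exact ConjAct.normal_of_characteristic_of_normal
  have hZc : IsCyclic Z := isCyclic_of_surjective
    ((commutator N).equivMapOfInjective _ N.subtype_injective).toMonoidHom
    ((commutator N).equivMapOfInjective _ N.subtype_injective).surjective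
  have hcent : commutator N ≤ center N := by
    intro x hx
    rw [mem_center_iff]
    intro y
    have h1 := commutator_le_centralizer hZn hZc (hNH y.2)
    have h2 := mem_centralizer_iff.1 h1 (x : H) ⟨x, hx, rfl⟩
    exact Subtype.ext h2.symm
  have hcy : IsCyclic (Abelianization N) := inferInstance
  have hcy' : IsCyclic (N ⧸ commutator N) := hcy
  have h1 := (QuotientGroup.mk' (commutator N)).isMulCommutative_of_isCyclic_of_ker_le_center
    (by rw [QuotientGroup.ker_mk']; exact hcent)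
  intro a ha b hb
  exact congrArg Subtype.val (h1.is_comm.comm ⟨a, ha⟩ ⟨b, hb⟩)

end Cfsg.Agent.H555.RV
end

-- part: H555/RV/Ree
section
/-!
# TEAM RV, box R3: the Ree groups `²G₂(q)` (helper555)

`2 ∈ π`, `3 ∉ π`: `DB π S → FTwo π S`.
-/

set_option autoImplicit false

namespace Cfsg.Agent.H555.RV.ReeRow

open Subgroup Cfsg Cfsg.Agent.H988.CPi Cfsg.Agent.H571.DExt Cfsg.Agent.H571.RV Cfsg.Agent.H959.RV
open Cfsg.Agent.H14.RowReeJOne Cfsg.Agent.H14

universe u

variable {π : Set ℕ}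

/-- the second possibility: `V : 7` -/
structure FS (π : Set ℕ) {S : Type u} [Group S] (H V : Subgroup S) : Prop where
  card : Nat.card V = 8
  cen : centralizer (V : Set S) ≤ V
  nrm : H ≤ normalizer (V : Set S)
  mem : ∀ t ∈ H, t * t = 1 → t ∈ V
  seven : 7 ∣ Nat.card H

theorem two_or {S : Type u} [Group S] [Finite S] (h2 : 2 ∈ π) (h3 : 3 ∉ π) (h8 : Eight S) {H : Subgroup S}
    (hH : IsPiHall π H) : FTwo π S ∨ ∃ V : Subgroup S, FS π H V := by
  have hf2 : Fact (Nat.Prime 2) := ⟨Nat.prime_two⟩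
  have hH3 : ¬ 3 ∣ Nat.card H := fun h => h3 (hH.1 3 Nat.prime_three h)
  have hi2 : ¬ 2 ∣ H.index := hH.2 2 Nat.prime_two h2
  obtain ⟨Q⟩ : Nonempty (Sylow 2 H) := inferInstance
  have hPp : IsPGroup 2 ((Q : Subgroup H).map H.subtype) := Q.2.map _
  have hPi : ¬ 2 ∣ ((Q : Subgroup H).map H.subtype).index := by
    rw [index_map_subtype]
    intro h
    rcases (Nat.prime_two.dvd_mul).1 h with h | h
    · exact Q.not_dvd_index h
    · exact hi2 h
  set P : Sylow 2 S := hPp.toSylow hPi with hP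
  have hPe : (P : Subgroup S) = (Q : Subgroup H).map H.subtype := rfl
  obtain ⟨hP8, hPs, hPC, hPN⟩ := h8.1 P
  have hPH : (P : Subgroup S) ≤ H := by rw [hPe]; exact map_subtype_le _
  have hQP : ∀ x : H, x ∈ (Q : Subgroup H) ↔ (x : S) ∈ (P : Subgroup S) := by
    intro x
    rw [hPe, mem_map]
    constructor
    · intro h; exact ⟨x, h, rfl⟩
    · rintro ⟨y, hy, hyx⟩
      have : y = x := Subtype.ext hyx
      rwa [← this]
  have hQ8 : Nat.card Q = 8 := by
    rw [← hP8]
    exact (card_map_of_injective H.subtype_injective).symm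
  have hQs : ∀ x ∈ Q, x * x = 1 := fun x hx => Subtype.ext (hPs x ((hQP x).1 hx))
  have hQC : centralizer ((Q : Subgroup H) : Set H) ≤ Q := by
    intro x hx
    rw [hQP]
    apply hPC
    rw [mem_centralizer_iff] at hx ⊢
    intro y hy
    have := hx ⟨y, hPH hy⟩ ((hQP _).2 hy)
    exact congrArg Subtype.val this
  have hcyc : ∀ r : ℕ, r.Prime → 5 ≤ r → ∀ R : Subgroup H, IsPGroup r R → IsCyclic R := by
    intro r hr h5 R hR
    have := h8.2 r hr h5 _ (hR.map H.subtype)
    exact isCyclic_of_injective (R.equivMapOfInjective _ H.subtype_injective).toMonoidHom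
      (R.equivMapOfInjective _ H.subtype_injective).injective
  have hd := HallEight.dichotomy Q hQ8 hQs hQC (by
      refine dvd_trans ?_ hPN
      have h1 : (normalizer ((Q : Subgroup H) : Set H)).map H.subtype ≤ normalizer ((P : Subgroup S) : Set S) := by
        rintro _ ⟨x, hx, rfl⟩
        apply mem_normalizer_fintype
        intro y hy
        exact (hQP _).1 ((mem_normalizer_iff.1 hx ⟨y, hPH hy⟩).1 ((hQP _).2 hy))
      have h2 := card_dvd_of_le h1
      rwa [card_map_of_injective H.subtype_injective] at h2) hH3 hcyc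
  rcases hd with hd | ⟨N, hN, hc⟩
  · have hHP : H ≤ normalizer ((P : Subgroup S) : Set S) := by
      intro g hg
      apply mem_normalizer_fintype
      intro y hy
      exact (hQP (@HMul.hMul _ _ _ instHMul (@HMul.hMul _ _ _ instHMul ⟨g, hg⟩ ⟨y, hPH hy⟩) ⟨g, hg⟩⁻¹)).1 (hd.conj_mem _ ((hQP ⟨y, hPH hy⟩).2 hy) ⟨g, hg⟩)
    have h168 : Nat.card H ∣ 168 := (card_dvd_of_le hHP).trans hPN
    obtain ⟨k, hk⟩ : 8 ∣ Nat.card H := by rw [← hP8]; exact card_dvd_of_le hPH
    have hk21 : k ∣ 21 := by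
      rw [hk, show 168 = 8 * 21 by norm_num] at h168
      exact Nat.dvd_of_mul_dvd_mul_left (by norm_num) h168
    have hk' : k = 1 ∨ k = 7 := by
      have h5 : k ≤ 21 := Nat.le_of_dvd (by norm_num) hk21
      rw [hk] at hH3
      interval_cases k <;> (clear * - hf2 hPp hPi hH3 hk21; omega)
    rcases hk' with rfl | rfl
    · left
      refine ⟨H, ⊥, hH, bot_le, ?_, ?_, ?_, ?_⟩
      · intro x _
        apply mem_normalizer_fintype
        intro y hy
        have hy : y = 1 := hy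
        subst hy
        show x * 1 * x⁻¹ = 1
        simp
      · intro a ha b hb
        rw [mem_bot] at ha hb
        rw [ha, hb]
      · rw [card_bot]; norm_num
      · intro p hp hpd
        rw [relIndex_bot_left, hk] at hpd
        exact (Nat.prime_dvd_prime_iff_eq hp Nat.prime_two).1 (hp.dvd_of_dvd_pow (n := 3) (by simpa using hpd))
    · right
      refine ⟨P, hP8, hPC, hHP, ?_, by rw [hk]; norm_num⟩
      intro t ht htt
      have hidx : (Q : Subgroup H).index = 7 := by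
        have h5 := (Q : Subgroup H).card_mul_index
        rw [hQ8, hk] at h5
        omega
      have h5 := Subgroup.pow_index_mem (Q : Subgroup H) ⟨t, ht⟩
      rw [hidx] at h5
      have h6 : (⟨t, ht⟩ : H) ^ 7 = ⟨t, ht⟩ := by
        have h7 : (⟨t, ht⟩ : H) ^ 2 = 1 := by rw [pow_two]; exact Subtype.ext htt
        calc (⟨t, ht⟩ : H) ^ 7 = ((⟨t, ht⟩ : H) ^ 2) ^ 3 * ⟨t, ht⟩ := by rw [← pow_mul, ← pow_succ]
          _ = ⟨t, ht⟩ := by rw [h7, one_pow, one_mul]
      rw [h6] at h5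
      exact (hQP ⟨t, ht⟩).1 h5
  · left
    have hQc : ∀ a ∈ Q, ∀ b ∈ Q, a * b = b * a := by
      intro a ha b hb
      have h1 := hQs a ha
      have h2 := hQs b hb
      have h3 := hQs _ (mul_mem ha hb)
      calc a * b = (a * b)⁻¹ := (inv_eq_of_mul_eq_one_right h3).symm
        _ = b⁻¹ * a⁻¹ := mul_inv_rev _ _
        _ = b * a := by rw [inv_eq_of_mul_eq_one_right h1, inv_eq_of_mul_eq_one_right h2]
    obtain ⟨hodd, hcomm⟩ := comm_of_compl hN Q hc hQc hQC (by
      intro r hr hr2 R hR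
      by_cases h5 : 5 ≤ r
      · exact hcyc r hr h5 R hR
      · have hr3 : r = 3 := by
          have := hr.two_le
          interval_cases r
          · omega
          · rfl
          · exact absurd hr (by norm_num)
        subst hr3
        have hf3 : Fact (Nat.Prime 3) := ⟨Nat.prime_three⟩
        have h1 : Nat.card R = 1 := by
          obtain ⟨k, hk⟩ := hR.exists_card_eq
          rcases Nat.eq_zero_or_pos k with rfl | hk0
          · simpa only [_root_.Subgroup.card_eq_one, _root_.pow_zero] using hk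
          · exfalso
            apply hH3
            have h2 : Nat.card R ∣ Nat.card H := card_subgroup_dvd_card _
            rw [hk] at h2
            exact (dvd_pow_self 3 (by omega)).trans h2
        have : Subsingleton R := (Nat.card_eq_one_iff_unique.1 h1).1
        exact isCyclic_of_subsingleton)
    refine ⟨H, N.map H.subtype, hH, map_subtype_le _, ?_, ?_, ?_, ?_⟩
    · intro t ht
      apply mem_normalizer_fintype
      rintro y ⟨z, hz, rfl⟩
      exact ⟨(⟨t, ht⟩ * z * ⟨t, ht⟩⁻¹ :), hN.conj_mem z hz _, by simp only [_root_.Subgroup.subtype_apply, _root_.Subgroup.coe_mul, _root_.InvMemClass.coe_inv]⟩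
    · rintro _ ⟨a, ha, rfl⟩ _ ⟨b, hb, rfl⟩
      rw [← map_mul, hcomm a ha b hb, map_mul]
    · rw [card_map_of_injective H.subtype_injective]; exact hodd
    · intro p hp hpd
      have h1 : (N.map H.subtype).relIndex H = N.index := by
        show ((N.map H.subtype).subgroupOf H).index = N.index
        have h2 : (N.map H.subtype).subgroupOf H = N := comap_map_eq_self_of_injective H.subtype_injective N
        rw [h2]
      have h2 : N.index = 8 := by
        have h3 := hc.card_mul_card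
        have h4 := N.card_mul_index
        rw [← h4, hQ8] at h3
        exact (Nat.eq_of_mul_eq_mul_left Nat.card_pos h3).symm
      rw [h1, h2] at hpd
      exact (Nat.prime_dvd_prime_iff_eq hp Nat.prime_two).1 (hp.dvd_of_dvd_pow (n := 3) (by simpa using hpd))

/-- `V : 7` contains no involution normalising a subgroup of order 7 -/
theorem FS.false {S : Type u} [Group S] [Finite S] {H V : Subgroup S} (h : FS π H V) {x t : S} (hx : x ∈ H)
    (ht : t ∈ H) (hxo : orderOf x = 7) (hto : orderOf t = 2) (htx : t * x * t⁻¹ ∈ zpowers x) : False := by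
  have htt : t * t = 1 := by rw [← pow_two, ← hto, pow_orderOf_eq_one]
  have htV := h.mem t ht htt
  have hx7 : x ^ 7 = 1 := by rw [← hxo, pow_orderOf_eq_one]
  -- `t` and `x` commute
  have h1 : t * x * t⁻¹ * x⁻¹ = 1 := by
    have h2 : t * x * t⁻¹ * x⁻¹ ∈ V := by
      have h3 : t * x * t⁻¹ * x⁻¹ = t * (x * t⁻¹ * x⁻¹) := by group
      rw [h3]
      exact mul_mem htV ((mem_normalizer_iff.1 (h.nrm hx) _).1 (inv_mem htV))
    have h4 : t * x * t⁻¹ * x⁻¹ ∈ zpowers x := mul_mem htx (inv_mem (mem_zpowers x))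
    have h5 : (t * x * t⁻¹ * x⁻¹) ^ 8 = 1 := by
      have h6 : (⟨_, h2⟩ : V) ^ Nat.card V = 1 := pow_card_eq_one'
      rw [h.card] at h6
      exact congrArg Subtype.val h6
    have h7 : (t * x * t⁻¹ * x⁻¹) ^ 7 = 1 := by
      obtain ⟨k, hk⟩ := h4
      have hk : x ^ k = t * x * t⁻¹ * x⁻¹ := hk
      rw [← hk, ← zpow_natCast, ← zpow_mul, mul_comm, zpow_mul, zpow_natCast, hx7, one_zpow]
    rw [pow_succ, h7, one_mul] at h5
    exact h5
  have htc : t ∈ centralizer {x} := by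
    rw [mem_centralizer_singleton_iff]
    rw [mul_inv_eq_one] at h1
    exact mul_inv_eq_iff_eq_mul.1 h1
  have h2 := Cfsg.Agent.H555.PiBS.fix_card (by norm_num : Nat.Prime 7) hx7 V (h.nrm hx)
  rw [h.card] at h2
  have h3 : Nat.card (V ⊓ centralizer {x} : Subgroup S) ∣ 8 := by rw [← h.card]; exact card_dvd_of_le inf_le_left
  have h4 : Nat.card (V ⊓ centralizer {x} : Subgroup S) = 1 ∨ Nat.card (V ⊓ centralizer {x} : Subgroup S) = 8 := by
    have h5 := Nat.le_of_dvd (by norm_num) h3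
    have h6 : 8 % 7 = Nat.card (V ⊓ centralizer {x} : Subgroup S) % 7 := h2
    omega
  rcases h4 with h4 | h4
  · have h5 : t ∈ (V ⊓ centralizer {x} : Subgroup S) := ⟨htV, htc⟩
    rw [card_eq_one.1 h4, mem_bot] at h5
    rw [h5, orderOf_one] at hto
    omega
  · have h5 : (V ⊓ centralizer {x} : Subgroup S) = V := eq_of_le_of_card_ge inf_le_left (by rw [h4, h.card])
    have h6 : x ∈ centralizer (V : Set S) := by
      rw [mem_centralizer_iff]
      intro y hy
      have h7 : y ∈ (V ⊓ centralizer {x} : Subgroup S) := by rw [h5]; exact hy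
      exact mem_centralizer_singleton_iff.1 h7.2
    have h7 : orderOf (⟨x, h.cen h6⟩ : V) ∣ 8 := by rw [← h.card]; exact _root_.orderOf_dvd_natCard _
    rw [← orderOf_coe] at h7
    have h8 : orderOf x ∣ 8 := h7
    rw [hxo] at h8
    omega

/-- subgroups of order 7 of the Ree groups are normalised by involutions -/
theorem exists_seven {S : Type u} [Group S] [Finite S] (h : Lie.IsoRee S) (h7 : 7 ∣ Nat.card S) :
    ∃ x t : S, orderOf x = 7 ∧ orderOf t = 2 ∧ t * x * t⁻¹ ∈ zpowers x := by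
  obtain ⟨K, _, _, m, hm, hK, ⟨e⟩⟩ := h
  have hfin : Finite (Lie.twistedG2 K (3 ^ m)) := Finite.of_equiv S e.toEquiv
  have hf7 : Fact (Nat.Prime 7) := ⟨by norm_num⟩
  have hf2 : Fact (Nat.Prime 2) := ⟨Nat.prime_two⟩
  suffices hs : ∃ x t : Lie.twistedG2 K (3 ^ m), orderOf x = 7 ∧ orderOf t = 2 ∧ t * x * t⁻¹ ∈ zpowers x by
    obtain ⟨x, t, hx, ht, k, hk⟩ := hs
    refine ⟨e.symm x, e.symm t, by rw [MulEquiv.orderOf_eq, hx], by rw [MulEquiv.orderOf_eq, ht], k, ?_⟩
    have hk : x ^ k = t * x * t⁻¹ := hk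
    show e.symm x ^ k = e.symm t * e.symm x * (e.symm t)⁻¹
    rw [← map_zpow, hk, map_mul, map_mul, map_inv]
  obtain ⟨g, hg⟩ := exists_prime_orderOf_dvd_card' (G := S) 7 h7
  have hl := (Cfsg.Agent.S1159.result hm hK 7).1 ⟨e g, by rw [MulEquiv.orderOf_eq, hg]⟩
  have key : ∀ k n : ℕ, (k, n) ∈ ({((3 ^ (2 * m + 1) - 1) / 2, 2 * (3 ^ (2 * m + 1) - 1)), ((3 ^ (2 * m + 1) + 1) / 4, 6 * (3 ^ (2 * m + 1) + 1)),
        (3 ^ (2 * m + 1) - 3 ^ (m + 1) + 1, 6 * (3 ^ (2 * m + 1) - 3 ^ (m + 1) + 1)),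
        (3 ^ (2 * m + 1) + 3 ^ (m + 1) + 1, 6 * (3 ^ (2 * m + 1) + 3 ^ (m + 1) + 1))} : Set (ℕ × ℕ)) →
      7 ∣ k → 2 ∣ n → ∃ x t : Lie.twistedG2 K (3 ^ m), orderOf x = 7 ∧ orderOf t = 2 ∧ t * x * t⁻¹ ∈ zpowers x := by
    intro k n hkn h7k h2n
    obtain ⟨A, -, hA, hN, hall⟩ := Cfsg.Agent.S1158.result hm hK (k, n) hkn
    obtain ⟨a, ha⟩ := exists_prime_orderOf_dvd_card' (G := A) 7 (by rw [hA]; exact h7k)
    have ha' : orderOf (a : Lie.twistedG2 K (3 ^ m)) = 7 := by rw [Subgroup.orderOf_coe, ha]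
    have h1 := hall (zpowers (a : Lie.twistedG2 K (3 ^ m))) (zpowers_le.2 a.2) (by
      rw [Ne, zpowers_eq_bot]
      intro h5
      rw [h5, orderOf_one] at ha'
      omega)
    rw [← h1] at hN
    obtain ⟨t, ht⟩ := exists_prime_orderOf_dvd_card'
      (G := normalizer ((zpowers (a : Lie.twistedG2 K (3 ^ m)) : Subgroup _) : Set (Lie.twistedG2 K (3 ^ m)))) 2
      (by rw [hN]; exact h2n)
    refine ⟨a, t, ha', by rw [Subgroup.orderOf_coe, ht], ?_⟩
    exact (mem_normalizer_iff.1 t.2 _).1 (mem_zpowers _)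
  have hq8 : 3 ^ (2 * m + 1) % 8 = 3 := by
    have h1 : 3 ^ (2 * m + 1) = 9 ^ m * 3 := by rw [pow_succ, pow_mul]; norm_num
    rw [h1, Nat.mul_mod, Nat.pow_mod]
    norm_num
  rcases hl with hl | hl | hl | hl | hl | hl
  · norm_num at hl
  · norm_num at hl
  · refine key _ _ (Or.inl rfl) ?_ (Dvd.intro _ rfl)
    have h1 : 3 ^ (2 * m + 1) - 1 = 2 * ((3 ^ (2 * m + 1) - 1) / 2) := by (clear * - hq8; omega)
    rw [h1] at hl
    exact (Nat.Coprime.dvd_mul_left (by norm_num)).1 hl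
  · refine key _ _ (Or.inr (Or.inl rfl)) ?_ ((by norm_num : 2 ∣ 6).mul_right _)
    have h1 : (3 ^ (2 * m + 1) + 1) / 2 = 2 * ((3 ^ (2 * m + 1) + 1) / 4) := by (clear * - hq8; omega)
    rw [h1] at hl
    exact (Nat.Coprime.dvd_mul_left (by norm_num)).1 hl
  · exact key _ _ (Or.inr (Or.inr (Or.inl rfl))) hl ((by norm_num : 2 ∣ 6).mul_right _)
  · exact key _ _ (Or.inr (Or.inr (Or.inr rfl))) hl ((by norm_num : 2 ∣ 6).mul_right _)

/-- **Box R3, `²G₂(q)`.** -/
theorem ftwo_ree {S : Type u} [Group S] [Finite S] (h2 : 2 ∈ π) (h3 : 3 ∉ π) (h : Lie.IsoRee S) (hDB : DB π S) :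
    FTwo π S := by
  have h8 := eight_ree h
  obtain ⟨H, hH, -⟩ := hDB.dom ⊥ (by
    intro p hp hd
    rw [Subgroup.card_bot] at hd
    exact absurd (Nat.dvd_one.mp hd) hp.one_lt.ne')
  rcases two_or h2 h3 h8 hH with h4 | ⟨V, hV⟩
  · exact h4
  have h7π : 7 ∈ π := hH.1 7 (by norm_num) hV.seven
  obtain ⟨x, t, hx, ht, htx⟩ := exists_seven h (hV.seven.trans (card_subgroup_dvd_card H))
  have hK : PiN π (Nat.card (zpowers t ⊔ zpowers x : Subgroup S)) := by
    refine piN_sup (zpowers_le.2 ?_) ?_ ?_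
    · apply mem_normalizer_fintype
      rintro y ⟨k, rfl⟩
      show t * x ^ k * t⁻¹ ∈ zpowers x
      rw [← conj_zpow]
      exact zpow_mem htx k
    · intro p hp hpd
      rw [Nat.card_zpowers, ht] at hpd
      rw [(Nat.prime_dvd_prime_iff_eq hp Nat.prime_two).1 hpd]
      exact h2
    · intro p hp hpd
      rw [Nat.card_zpowers, hx] at hpd
      rw [(Nat.prime_dvd_prime_iff_eq hp (by norm_num)).1 hpd]
      exact h7π
  obtain ⟨H', hH', hle⟩ := hDB.dom _ hK
  rcases two_or h2 h3 h8 hH' with h4 | ⟨V', hV'⟩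
  · exact h4
  · exact (hV'.false (hle (mem_sup_right (mem_zpowers x))) (hle (mem_sup_left (mem_zpowers t))) hx ht htx).elim

end Cfsg.Agent.H555.RV.ReeRow
end
end

-- part: H171/RV/SzHall
section
set_option linter.all false
open scoped Cfsg.Agent.FastGrp

/-!
# TEAM RV, R6: nonsolvable groups of order prime to 3 without `Sz(q)`, `q > 8` (helper171)

`main`: let `H` be a finite group of order prime to 3 such that no order of a Suzuki group `Sz(q)`, `q > 8`, divides `|H|`
and `169 ∤ |H|`. Then `H` is solvable or `29120 ∣ |H|` and `H` has a Hall `{2,7}`-subgroup.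
-/

set_option autoImplicit false

namespace Cfsg.Agent.H171.RV.SzHall

open Subgroup Cfsg Cfsg.Agent.SignalizersComponents Cfsg.Agent.H507.SzCase

universe u

/-- order of `Sz(2^(2m+1))` -/
def szc (m : ℕ) : ℕ := (2 ^ (2 * m + 1)) ^ 2 * (2 ^ (2 * m + 1) - 1) * ((2 ^ (2 * m + 1)) ^ 2 + 1)

theorem exists_sylow {L : Type u} [Group L] [Finite L] [IsSimpleGroup L] (hna : ∃ a b : L, a * b ≠ b * a)
    (h3 : ¬ 3 ∣ Nat.card L) (hN : ∀ m, 1 ≤ m → szc m ∣ Nat.card L → m = 1) :
    Nat.card L = 29120 ∧ ∃ T : Sylow 2 L, Nat.card (normalizer ((T : Subgroup L) : Set L)) = 448 := by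
  have hF2 : Fact (Nat.Prime 2) := ⟨Nat.prime_two⟩
  obtain ⟨F, hF1, hF2', m, hm, hF, ⟨e⟩⟩ := ThreePrime.Main.isoSuzuki hna h3
  obtain ⟨hc, S, hS, -⟩ := S1163.result hm hF
  have hcL : Nat.card L = szc m := (Nat.card_congr e.toEquiv).trans hc
  have hm1 := hN m hm (dvd_of_eq hcL.symm)
  subst hm1
  refine ⟨hcL.trans (by norm_num [szc]), ?_⟩
  have hfin : Finite ↥(Cfsg.Lie.Sz F (2 ^ (1 + 1))) := Finite.of_equiv _ e.toEquiv
  have h1 : IsPGroup 2 ((S : Subgroup _).map e.symm.toMonoidHom) := S.isPGroup'.map _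
  have h2 : ¬ 2 ∣ ((S : Subgroup _).map e.symm.toMonoidHom).index := by
    rw [Subgroup.index_map_of_bijective e.symm.bijective]
    exact S.not_dvd_index
  refine ⟨h1.toSylow h2, ?_⟩
  rw [IsPGroup.toSylow_coe, ← Subgroup.map_equiv_normalizer_eq,
    Subgroup.card_map_of_injective e.symm.injective, hS]
  norm_num

theorem isPiHall_of {G : Type u} [Group G] [Finite G] {π : Set ℕ} {M : Subgroup G} {K : Subgroup M}
    (hK : IsPiHall π K) (hM : ∀ p : ℕ, p.Prime → p ∈ π → ¬ p ∣ M.index) : IsPiHall π (K.map M.subtype) := by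
  refine ⟨fun p hp hd => hK.1 p hp ?_, fun p hp hπ hd => ?_⟩
  · rwa [Subgroup.card_map_of_injective M.subtype_injective] at hd
  · have h1 : (K.map M.subtype).index = K.index * M.index := by
      have h2 := Subgroup.card_mul_index (K.map M.subtype)
      rw [Subgroup.card_map_of_injective M.subtype_injective, ← Subgroup.card_mul_index M, ← Subgroup.card_mul_index K,
        mul_assoc] at h2
      exact Nat.eq_of_mul_eq_mul_left Nat.card_pos h2
    rw [h1] at hd
    rcases hp.dvd_mul.1 hd with h | h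
    · exact hK.2 p hp hπ h
    · exact hM p hp hπ h

theorem exists_hall {M : Type u} [Group M] [Finite M] (hs : Group.IsSolvable M) (π : Set ℕ) :
    ∃ K : Subgroup M, IsPiHall π K := by
  obtain ⟨K, h1, h2, -⟩ := Cfsg.Agent.OddOrderLocal.HallPi.exists_hall_ge_top (G := M) π (X := ⊥) (by
    intro p hp hd
    rw [Subgroup.card_bot] at hd
    exact absurd (Nat.dvd_one.1 hd) hp.one_lt.ne')
  exact ⟨K, h1, h2⟩

/-- a `{2,7}`-group is solvable -/
theorem sol_of_card {K : Type u} [Group K] [Finite K] (h : ∀ p : ℕ, p.Prime → p ∣ Nat.card K → p ∈ ({2, 7} : Set ℕ)) :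
    Group.IsSolvable K := by
  obtain ⟨a, m, hm, ha⟩ := Nat.exists_eq_pow_mul_and_not_dvd (Nat.card_pos (α := K)).ne' 2 (by norm_num)
  have hm0 : m ≠ 0 := by rintro rfl; exact hm (dvd_zero 2)
  obtain ⟨b, c, hc, hb⟩ := Nat.exists_eq_pow_mul_and_not_dvd hm0 7 (by norm_num)
  have hc1 : c = 1 := by
    by_contra hne
    obtain ⟨p, hp, hd⟩ := Nat.exists_prime_and_dvd hne
    have h1 : p ∣ Nat.card K := by rw [ha, hb]; exact dvd_mul_of_dvd_right (dvd_mul_of_dvd_right hd _) _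
    rcases h p hp h1 with h2 | h2
    · rw [h2] at hd
      exact hm (by rw [hb]; exact dvd_mul_of_dvd_right hd _)
    · rw [Set.mem_singleton_iff] at h2
      rw [h2] at hd
      exact hc hd
  rw [hc1, mul_one] at hb
  exact S0144.result 2 7 a b Nat.prime_two (by norm_num) (by rw [ha, hb])

theorem main (n : ℕ) : ∀ (H : Type u) [Group H] [Finite H], Nat.card H = n → ¬ 3 ∣ n →
    (∀ m, 1 ≤ m → szc m ∣ n → m = 1) → ¬ 13 * 13 ∣ n →
    Group.IsSolvable H ∨ (29120 ∣ n ∧ ∃ K : Subgroup H, IsPiHall ({2, 7} : Set ℕ) K) := by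
  induction n using Nat.strong_induction_on with
  | _ n ih =>
  intro H _ _ hn h3 hN h13
  by_cases hsol : Group.IsSolvable H
  · exact Or.inl hsol
  right
  -- the quotient by a nontrivial normal subgroup
  have step : ∀ (N : Subgroup H) [N.Normal], N ≠ ⊥ → ¬ Group.IsSolvable (H ⧸ N) →
      29120 ∣ Nat.card (H ⧸ N) ∧ ∃ K : Subgroup (H ⧸ N), IsPiHall ({2, 7} : Set ℕ) K := by
    intro N hNn hne hns
    have hc := Subgroup.card_eq_card_quotient_mul_card_subgroup N
    rw [hn] at hc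
    have hd : Nat.card (H ⧸ N) ∣ n := ⟨_, hc⟩
    have hlt : Nat.card (H ⧸ N) < n := by
      have h1 : 1 < Nat.card N := by
        rw [Subgroup.one_lt_card_iff_ne_bot]; exact hne
      have h2 : 0 < Nat.card (H ⧸ N) := Nat.card_pos
      rw [hc]
      nlinarith
    rcases ih _ hlt (H ⧸ N) rfl (fun h => h3 (h.trans hd)) (fun m hm h => hN m hm (h.trans hd))
      (fun h => h13 (h.trans hd)) with h | h
    · exact absurd h hns
    · exact h
  by_cases hR : ∃ N : Subgroup H, N.Normal ∧ N ≠ ⊥ ∧ Group.IsSolvable N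
  · obtain ⟨N, hNn, hne, hNs⟩ := hR
    have hns : ¬ Group.IsSolvable (H ⧸ N) := by
      intro h
      exact hsol (Group.isSolvable_of_ker_le_range N.subtype (QuotientGroup.mk' N)
        (by rw [QuotientGroup.ker_mk', Subgroup.range_subtype]))
    obtain ⟨hd, K, hK⟩ := step N hne hns
    have hdn : Nat.card (H ⧸ N) ∣ n := by
      rw [← hn]; exact ⟨_, Subgroup.card_eq_card_quotient_mul_card_subgroup N⟩
    refine ⟨hd.trans hdn, ?_⟩
    have hKs : Group.IsSolvable K := sol_of_card hK.1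
    set M : Subgroup H := K.comap (QuotientGroup.mk' N) with hM
    have hMs : Group.IsSolvable M := by
      let f : M →* K := ((QuotientGroup.mk' N).comp M.subtype).codRestrict K (fun x => x.2)
      have hNM : N ≤ M := by
        intro x hx
        rw [hM, mem_comap]
        have h1 : QuotientGroup.mk' N x = 1 := (QuotientGroup.eq_one_iff x).2 hx
        rw [h1]; exact K.one_mem
      refine Group.isSolvable_of_ker_le_range (Subgroup.inclusion hNM) f ?_
      intro x hx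
      have h1 : f x = 1 := hx
      have h2 : QuotientGroup.mk' N (x : H) = 1 := congrArg Subtype.val h1
      have h3 : (x : H) ∈ N := (QuotientGroup.eq_one_iff _).1 h2
      exact ⟨⟨x, h3⟩, Subtype.ext rfl⟩
    obtain ⟨K', hK'⟩ := exists_hall hMs ({2, 7} : Set ℕ)
    refine ⟨K'.map M.subtype, isPiHall_of hK' fun p hp hπ hd => hK.2 p hp hπ ?_⟩
    rwa [hM, Subgroup.index_comap_of_surjective _ (QuotientGroup.mk'_surjective N)] at hd
  -- no solvable normal subgroup
  push Not at hR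
  have hfit : fittingSubgroup H = ⊥ := by
    refine fitting_eq_bot fun p hp N hNn hNp => ?_
    by_contra hne
    have hfp : Fact p.Prime := ⟨hp⟩
    have := hNp.isNilpotent
    exact hR N hNn hne inferInstance
  have hcomp : ∃ L : Subgroup H, IsComponent L := by
    by_contra hcon
    push Not at hcon
    have h1 : layer H = ⊥ := by
      rw [eq_bot_iff, Components.layer_le_iff]
      intro K hK
      exact absurd hK (hcon K)
    have h2 : generalizedFittingSubgroup H = ⊥ := by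
      rw [generalizedFittingSubgroup, h1, hfit, bot_sup_eq]
    have h3 := Cfsg.Agent.S1265.result (G := H)
    rw [h2] at h3
    apply hsol
    have h4 : ∀ x : H, x = 1 := by
      intro x
      have h5 : x ∈ centralizer ((⊥ : Subgroup H) : Set H) := by
        rw [mem_centralizer_iff]
        intro y hy
        rw [SetLike.mem_coe, mem_bot] at hy
        rw [hy, one_mul, mul_one]
      exact mem_bot.1 (h3 h5)
    have : Subsingleton H := ⟨fun a b => (h4 a).trans (h4 b).symm⟩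
    infer_instance
  obtain ⟨L, hL⟩ := hcomp
  have hcardL : ∀ {Y : Subgroup H}, IsComponent Y → Nat.card Y = 29120 ∧ ∃ T : Sylow 2 Y,
      Nat.card (normalizer ((T : Subgroup Y) : Set Y)) = 448 := by
    intro Y hY
    have hs := component_simple hfit hY
    have hd : Nat.card Y ∣ n := by rw [← hn]; exact card_subgroup_dvd_card Y
    refine exists_sylow ?_ (fun h => h3 (h.trans hd)) (fun m hm h => hN m hm (h.trans hd))
    by_contra hcon
    push Not at hcon
    exact Components.quasisimple_not_isMulCommutative hY.2 ⟨⟨hcon⟩⟩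
  -- unique component
  have huniq : ∀ Z : Subgroup H, IsComponent Z → Z = L := by
    intro Z hZ
    by_contra hZL
    have h1 := Components.component_le_centralizer_of_ne hZ hL hZL
    have hcomm : ∀ (z : Z) (l : L), Commute (Z.subtype z) (L.subtype l) := by
      intro z l
      exact ((mem_centralizer_iff.mp (h1 z.2)) l l.2).symm
    have hZLb : Z ⊓ L = ⊥ := by
      have hsL := component_simple hfit hL
      rw [eq_bot_iff]
      intro x hx
      have hxc : (⟨x, hx.2⟩ : L) ∈ center L := by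
        rw [mem_center_iff]
        intro y
        exact Subtype.ext ((mem_centralizer_iff.mp (h1 hx.1)) y y.2)
      have hcb : center L = ⊥ := by
        rcases hsL.eq_bot_or_eq_top_of_normal (center L) inferInstance with h | h
        · exact h
        · exfalso
          apply Components.quasisimple_not_isMulCommutative hL.2
          refine ⟨⟨fun a b => ?_⟩⟩
          have ha : a ∈ center L := by rw [h]; exact mem_top _
          exact (mem_center_iff.1 ha b).symm
      rw [hcb, mem_bot] at hxc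
      exact mem_bot.2 (congrArg Subtype.val hxc)
    let f : Z × L →* H := MonoidHom.noncommCoprod Z.subtype L.subtype hcomm
    have hf : Function.Injective f := by
      rw [injective_iff_map_eq_one]
      rintro ⟨z, l⟩ h
      have h2 : (z : H) * l = 1 := h
      have h4 : (z : H) = (l : H)⁻¹ := eq_inv_of_mul_eq_one_left h2
      have h5 : (z : H) ∈ Z ⊓ L := ⟨z.2, by rw [h4]; exact L.inv_mem l.2⟩
      rw [hZLb, mem_bot] at h5
      have h6 : (l : H) = 1 := by
        rw [h5, one_mul] at h2; exact h2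
      exact Prod.ext (Subtype.ext h5) (Subtype.ext h6)
    have h2 : Nat.card (Z × L) ∣ Nat.card H := Subgroup.card_dvd_of_injective f hf
    rw [Nat.card_prod, (hcardL hZ).1, (hcardL hL).1, hn] at h2
    exact h13 ((by norm_num : 13 * 13 ∣ 29120 * 29120).trans h2)
  have hlay : layer H = L := by
    apply le_antisymm
    · rw [Components.layer_le_iff]
      exact fun K hK => (huniq K hK).le
    · exact Components.component_le_layer hL
  have hLn : L.Normal := hlay ▸ Components.layer_normal H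
  obtain ⟨hcL, T, hT⟩ := hcardL hL
  have hLne : L ≠ ⊥ := by
    rintro rfl
    rw [Subgroup.card_bot] at hcL
    norm_num at hcL
  have hLd : 29120 ∣ n := by rw [← hcL, ← hn]; exact card_subgroup_dvd_card L
  refine ⟨hLd, ?_⟩
  have hqs : Group.IsSolvable (H ⧸ L) := by
    by_contra hns
    obtain ⟨hd, -⟩ := step L hLne hns
    have hc := Subgroup.card_eq_card_quotient_mul_card_subgroup L
    rw [hn, hcL] at hc
    exact h13 (by rw [hc]; exact mul_dvd_mul ((by norm_num : 13 ∣ 29120).trans hd) (by norm_num))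
  -- Frattini
  set Q : Subgroup H := (T : Subgroup L).map L.subtype with hQ
  have hfr : normalizer (Q : Set H) ⊔ L = ⊤ := Sylow.normalizer_sup_eq_top T
  have hNY : (normalizer (Q : Set H)).subgroupOf L = normalizer ((T : Subgroup L) : Set L) := by
    ext g
    rw [mem_subgroupOf, mem_normalizer_iff, mem_normalizer_iff]
    constructor
    · intro h x
      have := h x
      rw [hQ] at this
      constructor
      · intro hx
        obtain ⟨z, hz, hz'⟩ := (this.1 ⟨x, hx, rfl⟩)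
        have : z = g * x * g⁻¹ := Subtype.ext hz'
        rwa [← this]
      · intro hx
        obtain ⟨z, hz, hz'⟩ := (this.2 ⟨g * x * g⁻¹, hx, rfl⟩)
        have : z = x := Subtype.ext hz'
        rwa [← this]
    · intro h x
      rw [hQ]
      constructor
      · rintro ⟨z, hz, rfl⟩
        exact ⟨g * z * g⁻¹, (h z).1 hz, rfl⟩
      · rintro ⟨z, hz, hz'⟩
        refine ⟨g⁻¹ * z * g, ?_, ?_⟩
        · refine (h _).2 ?_
          rwa [show (g : L) * (g⁻¹ * z * g) * g⁻¹ = z by group]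
        · show (g : H)⁻¹ * (z : H) * g = x
          rw [show (z : H) = g * x * (g : H)⁻¹ from hz']
          group
  set N0 : Subgroup H := normalizer (Q : Set H) with hN0
  have hidx : N0.index = 65 := by
    have h1 := H988.CPi.relIndex_mul_sup_index N0 L
    rw [hfr, index_top, mul_one, relIndex, hNY] at h1
    have h2 := card_mul_index (normalizer ((T : Subgroup L) : Set L))
    rw [hT, hcL] at h2
    rw [← h1]
    omega
  have hN0s : Group.IsSolvable N0 := by
    have hk : Group.IsSolvable (N0.subgroupOf L) := by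
      apply S0144.result 2 7 6 1 Nat.prime_two (by norm_num)
      rw [hNY, hT]
      norm_num
    let f : N0 →* H ⧸ L := (QuotientGroup.mk' L).comp N0.subtype
    let g : (N0.subgroupOf L) →* N0 :=
      (L.subtype.comp (N0.subgroupOf L).subtype).codRestrict N0 (fun x => mem_subgroupOf.1 x.2)
    refine Group.isSolvable_of_ker_le_range g f ?_
    intro x hx
    have h2 : QuotientGroup.mk' L (x : H) = 1 := hx
    have h4 : (x : H) ∈ L := (QuotientGroup.eq_one_iff _).1 h2
    exact ⟨⟨⟨x, h4⟩, mem_subgroupOf.2 x.2⟩, Subtype.ext rfl⟩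
  obtain ⟨K', hK'⟩ := exists_hall hN0s ({2, 7} : Set ℕ)
  refine ⟨K'.map N0.subtype, isPiHall_of hK' fun p hp hπ hd => ?_⟩
  rw [hidx] at hd
  rcases hπ with rfl | h
  · norm_num at hd
  · rw [Set.mem_singleton_iff] at h
    subst h
    norm_num at hd

end Cfsg.Agent.H171.RV.SzHall

private theorem dce_c7a5e5edb286 : _root_.True := by
  try have : _root_.True := by simp only [_root_.Cfsg.Agent.H171.RV.SzHall.szc.eq_1]
  exact _root_.True.intro
end

-- part: H768/RV/Fac
section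
prune_inst 0x30005100452200000000001000001c42f2000500004b800191c00e060e8e7e4100060e21f8300e02112288a4603c0068124400290010000020000600411900a088ab7282b27cad00d6000780b887180c00000000000000000000000000041000000000000
set_option linter.all false
open scoped Cfsg.Agent.FastGrp

/-!
# Hall `{2,p}`-subgroups and Thompson factorization (helper768)

* `fac_of_solvable` : a solvable 3'-group `K` with `O(K) = 1` is Thompson factorizable;
* `exists_fac` : `T` a Sylow 2-subgroup of `S`, no `p`-subgroup is normalised by `T`, `D_{2,p}`: there is a Hall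
  `{2,p}`-subgroup `K ≥ T` with `K = C_K(Ω₁(Z(T))) N_K(J(T))`;
* `dvd_mul` : the subgroups `N ≤ N_S(J(T))`, `C ≤ C_S(z)`, `z` an involution in `Z(T)`, of orders `2 ^ a * p ^ j`, `2 ^ a * p ^ i`,
  `b ≤ j + i`;
* `no_dom` : so `p ^ b` divides `|N_S(J(T))| |C_S(z)|`.
-/

set_option autoImplicit false

namespace Cfsg.Agent.H768.RV

open Subgroup Cfsg Cfsg.Agent.H571.DExt Cfsg.Agent.H988.CPi Cfsg.Agent.H171.Odd
open scoped Pointwise

universe u

theorem card_sl : Nat.card (Matrix.SpecialLinearGroup (Fin 2) (ZMod 2)) = 6 := by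
  rw [Nat.card_eq_fintype_card]
  decide +kernel

/-- a solvable 3'-group with `O(K) = 1` is Thompson factorizable -/
theorem fac_of_solvable {K : Type*} [Group K] [Finite K] [Group.IsSolvable K] (h3 : ¬ 3 ∣ Nat.card K)
    (hO : pPrimeCore 2 K = ⊥) : IsThompsonFactorizable 2 K := by
  have : Fact (Nat.Prime 2) := ⟨Nat.prime_two⟩
  by_contra hnf
  obtain ⟨-, E, -, -, -, hn, ⟨e⟩⟩ := S0618.result (Lib.PSolvable.IsPSolvable_of_solvable 2) hO hnf
  apply h3
  have h1 := Nat.card_congr e.toEquiv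
  rw [card_sl] at h1
  have h2 := Subgroup.card_quotient_dvd_card ((centralizer ((⨆ S : Sylow 2 K, Cfsg.omegaOne 2 ((S : Subgroup K) ⊓
    Subgroup.centralizer ((S : Subgroup K) : Set K))) : Set K)).subgroupOf E)
  rw [h1] at h2
  exact (by norm_num : 3 ∣ 6).trans (h2.trans (card_subgroup_dvd_card E))

variable {S : Type u} [Group S]

/-- **the factorization of a Hall `{2,p}`-subgroup** -/
theorem exists_fac [Finite S] {p a b m : ℕ} (hp : p.Prime) (hp5 : 5 ≤ p) (hS : Nat.card S = 2 ^ a * p ^ b * m)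
    (h2 : ¬ 2 ∣ m) (hm : ¬ p ∣ m) (hI : Inv1 2 p S) (hD : Dom ({2, p} : Set ℕ) S) {T : Subgroup S}
    (hT2 : IsPGroup 2 T) (hTi : ¬ 2 ∣ T.index) :
    ∃ K : Subgroup S, Nat.card K = 2 ^ a * p ^ b ∧ IsPiHall ({2, p} : Set ℕ) K ∧ T ≤ K ∧
      (∀ X : Subgroup S, PiN ({2, p} : Set ℕ) (Nat.card X) → ∃ g : S, X ≤ MulAut.conj g • K) ∧
      ∀ g ∈ K, ∃ c ∈ K, ∃ n ∈ K, g = c * n ∧ n ∈ normalizer (thompsonSubgroupOf 2 T : Set S) ∧
        ∀ z ∈ T, z * z = 1 → (∀ t ∈ T, t * z = z * t) → c * z = z * c := by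
  have hp2 : p ≠ 2 := by omega
  obtain ⟨K0, hK0, hdom⟩ := hD
  have hfp : Fact p.Prime := ⟨hp⟩
  have hf2 : Fact (Nat.Prime 2) := ⟨Nat.prime_two⟩
  -- a conjugate containing `T`
  obtain ⟨g, hg⟩ := hdom T (by
    intro r hr hd
    obtain ⟨k, hk⟩ := hT2.exists_card_eq
    rw [hk] at hd
    left
    exact (Nat.prime_dvd_prime_iff_eq hr Nat.prime_two).1 (hr.dvd_of_dvd_pow hd))
  set K : Subgroup S := MulAut.conj g • K0 with hKdef
  have hK : IsPiHall ({2, p} : Set ℕ) K := isPiHall_smul hK0 g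
  have hcK := H555.RV.card_of_hall hp hp2 hS h2 hm hK
  have hdomK : ∀ X : Subgroup S, PiN ({2, p} : Set ℕ) (Nat.card X) → ∃ x : S, X ≤ MulAut.conj x • K := by
    intro X hX
    obtain ⟨x, hx⟩ := hdom X hX
    refine ⟨x * g⁻¹, ?_⟩
    rw [hKdef, ← mul_smul, ← map_mul, inv_mul_cancel_right]
    exact hx
  have hsol : Group.IsSolvable K := S0144.result 2 p a b Nat.prime_two hp hcK
  -- `O_p(K) = 1`
  have hOp : pCore p K = ⊥ := by
    obtain ⟨T⟩ : Nonempty (Sylow 2 K) := inferInstance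
    have h3 := hI ((T : Subgroup K).map K.subtype) (T.isPGroup'.map _)
      (not_dvd_index_map (by simp) hK T) ((pCore p K).map K.subtype)
      ((Lib.Cores.pCore_isPGroup p).map _) (by
        rintro x ⟨t, -, rfl⟩
        apply mem_normalizer_fintype
        rintro y ⟨z, hz, rfl⟩
        exact ⟨t * z * t⁻¹, (Lib.Cores.pCore_normal p).conj_mem z hz t, by simp⟩)
    rwa [map_eq_bot_iff_of_injective _ (subtype_injective _)] at h3
  have hO2 : pPrimeCore 2 K = ⊥ := by
    have h3 := Lib.Cores.pPrimeCore_coprime (G := K) 2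
    have h4 : Nat.card (pPrimeCore 2 K) ∣ p ^ b := by
      have h5 : Nat.card (pPrimeCore 2 K) ∣ 2 ^ a * p ^ b := by rw [← hcK]; exact card_subgroup_dvd_card _
      exact (Nat.Coprime.pow_right a h3).dvd_of_dvd_mul_left h5
    have h5 : IsPGroup p (pPrimeCore 2 K) := by
      obtain ⟨k, -, hk⟩ := (Nat.dvd_prime_pow hp).1 h4
      exact IsPGroup.of_card hk
    have h6 := Lib.Cores.le_pCore (Lib.Cores.pPrimeCore_normal 2) h5
    rw [hOp] at h6
    exact le_bot_iff.1 h6
  have h3K : ¬ 3 ∣ Nat.card K := by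
    rw [hcK]
    intro h
    rcases Nat.prime_three.dvd_mul.1 h with h | h
    · have := (Nat.prime_dvd_prime_iff_eq Nat.prime_three Nat.prime_two).1 (Nat.prime_three.dvd_of_dvd_pow h)
      omega
    · have := (Nat.prime_dvd_prime_iff_eq Nat.prime_three hp).1 (Nat.prime_three.dvd_of_dvd_pow h)
      omega
  have hfac := fac_of_solvable h3K hO2
  refine ⟨K, hcK, hK, hg, hdomK, fun x hx => ?_⟩
  have hle : ((hT2.toSylow hTi : Sylow 2 S) : Subgroup S) ≤ K := hg
  have hTS : (((hT2.toSylow hTi).subtype hle : Sylow 2 K) : Subgroup K) = T.subgroupOf K := rfl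
  obtain ⟨o, ho, c, hc, n, hn, e⟩ := hfac ((hT2.toSylow hTi).subtype hle) ⟨x, hx⟩
  rw [hTS] at hc hn
  rw [hO2, mem_bot] at ho
  rw [ho, one_mul] at e
  refine ⟨c, c.2, n, n.2, congrArg Subtype.val e, ?_, ?_⟩
  · have hJ : thompsonSubgroupOf 2 T = (thompsonSubgroupOf 2 (T.subgroupOf K)).map K.subtype := by
      rw [← PLocal.ThompsonJ.thompsonSubgroupOf_map 2 K.subtype_injective, subgroupOf_map_subtype, inf_eq_left.2 hg]
    rw [hJ]
    apply mem_normalizer_fintype
    rintro y ⟨z, hz, rfl⟩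
    exact ⟨n * z * n⁻¹, (mem_normalizer_iff.1 hn z).1 hz, by simp⟩
  · intro z hz hzz hzc
    have h1 : (⟨z, hg hz⟩ : K) ∈ omegaOne 2 (T.subgroupOf K ⊓ centralizer (T.subgroupOf K : Set K)) := by
      apply Subgroup.subset_closure
      refine ⟨⟨hz, ?_⟩, Subtype.ext (by rw [coe_pow, pow_two]; exact hzz)⟩
      show (⟨z, hg hz⟩ : K) ∈ centralizer (T.subgroupOf K : Set K)
      rw [mem_centralizer_iff]
      intro t ht
      exact Subtype.ext (hzc t ht)
    exact (congrArg Subtype.val (mem_centralizer_iff.1 hc _ h1)).symm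

/-- the `p`-part -/
theorem dvd_mul [Finite S] {p a b m : ℕ} (hp : p.Prime) (hp5 : 5 ≤ p) (hS : Nat.card S = 2 ^ a * p ^ b * m)
    (h2 : ¬ 2 ∣ m) (hm : ¬ p ∣ m) (hI : Inv1 2 p S) (hD : Dom ({2, p} : Set ℕ) S) {T : Subgroup S}
    (hT2 : IsPGroup 2 T) (hTi : ¬ 2 ∣ T.index) {z : S} (hz : z ∈ T) (hzz : z * z = 1) (hzc : ∀ t ∈ T, t * z = z * t) :
    ∃ N C : Subgroup S, ∃ j i : ℕ, Nat.card N = 2 ^ a * p ^ j ∧ Nat.card C = 2 ^ a * p ^ i ∧ b ≤ j + i ∧
      j ≤ b ∧ i ≤ b ∧ T ≤ N ∧ T ≤ C ∧ C ≤ centralizer {z} ∧ N ≤ normalizer (thompsonSubgroupOf 2 T : Set S) := by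
  have hfp : Fact p.Prime := ⟨hp⟩
  have hf2 : Fact (Nat.Prime 2) := ⟨Nat.prime_two⟩
  obtain ⟨K, hcK, hK, hTK, -, hf⟩ := exists_fac hp hp5 hS h2 hm hI hD hT2 hTi
  set N : Subgroup S := K ⊓ normalizer (thompsonSubgroupOf 2 T : Set S) with hN
  set C : Subgroup S := K ⊓ centralizer {z} with hC
  have hTN : T ≤ N := le_inf hTK (by
    intro t ht
    apply mem_normalizer_fintype
    rintro y ⟨w, hw, rfl⟩
    have h1 : (thompsonSubgroup 2 T).Characteristic := S0602.result.1
    have h2 : (thompsonSubgroup 2 T).Normal := inferInstance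
    exact ⟨(⟨t, ht⟩ * w * ⟨t, ht⟩⁻¹ :), h2.conj_mem w hw _, by simp⟩)
  have hTC : T ≤ C := le_inf hTK fun t ht => mem_centralizer_singleton_iff.2 (hzc t ht)
  have ha : Nat.card T = 2 ^ a := by
    obtain ⟨k, hk⟩ := hT2.exists_card_eq
    have h1 := card_mul_index T
    rw [hk, hS] at h1
    have h5 : ¬ 2 ∣ p ^ b * m := by
      intro h
      rcases Nat.prime_two.dvd_mul.1 h with h | h
      · have := (Nat.prime_dvd_prime_iff_eq Nat.prime_two hp).1 (Nat.prime_two.dvd_of_dvd_pow h)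
        omega
      · exact h2 h
    have h6 : Nat.Coprime (2 ^ k) (p ^ b * m) := (Nat.Prime.coprime_pow_of_not_dvd Nat.prime_two h5).symm
    have h7 : Nat.Coprime (2 ^ a) T.index := (Nat.Prime.coprime_pow_of_not_dvd Nat.prime_two hTi).symm
    rw [hk]
    apply Nat.dvd_antisymm
    · exact h6.dvd_of_dvd_mul_right (by rw [← mul_assoc, ← h1]; exact Nat.dvd_mul_right _ _)
    · exact h7.dvd_of_dvd_mul_right (by rw [h1, mul_assoc]; exact Nat.dvd_mul_right _ _)
  -- the orders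
  have key : ∀ X : Subgroup S, X ≤ K → T ≤ X → ∃ j, j ≤ b ∧ Nat.card X = 2 ^ a * p ^ j := by
    intro X hX hTX
    obtain ⟨r, hr⟩ := card_dvd_of_le hTX
    have h1 := card_dvd_of_le hX
    rw [hcK, hr, ha] at h1
    obtain ⟨j, hj, hj2⟩ := (Nat.dvd_prime_pow hp).1 (Nat.dvd_of_mul_dvd_mul_left (by positivity) h1)
    exact ⟨j, hj, by rw [hr, ha, hj2]⟩
  obtain ⟨j, hj, hjN⟩ := key N inf_le_left hTN
  obtain ⟨i, hi, hiC⟩ := key C inf_le_left hTC
  refine ⟨N, C, j, i, hjN, hiC, ?_, hj, hi, hTN, hTC, inf_le_right, inf_le_right⟩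
  have h1 : Nat.card K ≤ Nat.card ((↥C ⧸ T.subgroupOf C) × N) := by
    refine Nat.card_le_card_of_surjective
      (fun x : (↥C ⧸ T.subgroupOf C) × N => (⟨(x.1.out : S) * x.2, K.mul_mem x.1.out.2.1 x.2.2.1⟩ : K)) ?_
    rintro ⟨x, hx⟩
    obtain ⟨c, hc, n, hn, e, hnJ, hcz⟩ := hf x hx
    obtain ⟨t, ht⟩ := QuotientGroup.mk_out_eq_mul (T.subgroupOf C)
      (⟨c, hc, mem_centralizer_singleton_iff.2 (hcz z hz hzz hzc)⟩ : C)
    have htT : ((t : C) : S) ∈ T := t.2
    refine ⟨(QuotientGroup.mk ⟨c, hc, mem_centralizer_singleton_iff.2 (hcz z hz hzz hzc)⟩,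
      ⟨((t : C) : S)⁻¹ * n, mul_mem (inv_mem (hTN htT)) ⟨hn, hnJ⟩⟩), Subtype.ext ?_⟩
    have h3 := congrArg Subtype.val ht
    show ((QuotientGroup.mk (⟨c, hc, mem_centralizer_singleton_iff.2 (hcz z hz hzz hzc)⟩ : C) :
      ↥C ⧸ T.subgroupOf C).out : S) * (((t : C) : S)⁻¹ * n) = x
    rw [h3, e]
    show c * ((t : C) : S) * (((t : C) : S)⁻¹ * n) = c * n
    group
  have h3 : Nat.card (↥C ⧸ T.subgroupOf C) = p ^ i := by
    have h4 := card_mul_index (T.subgroupOf C)
    rw [Nat.card_congr (subgroupOfEquivOfLe hTC).toEquiv, ha, hiC] at h4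
    exact Nat.eq_of_mul_eq_mul_left (by positivity) h4
  rw [Nat.card_prod, h3, hjN, hcK] at h1
  have h4 : p ^ b ≤ p ^ (j + i) := by
    apply Nat.le_of_mul_le_mul_left (c := 2 ^ a) _ (by positivity)
    calc 2 ^ a * p ^ b ≤ p ^ i * (2 ^ a * p ^ j) := h1
      _ = 2 ^ a * p ^ (j + i) := by rw [pow_add]; ring
  exact (Nat.pow_le_pow_iff_right hp.one_lt).1 h4

/-- **numerical criterion** -/
theorem no_dom [Finite S] {p a b m : ℕ} (hp : p.Prime) (hp5 : 5 ≤ p) (hS : Nat.card S = 2 ^ a * p ^ b * m)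
    (h2 : ¬ 2 ∣ m) (hm : ¬ p ∣ m) (hI : Inv1 2 p S) {T : Subgroup S} (hT2 : IsPGroup 2 T) (hTi : ¬ 2 ∣ T.index) {z : S}
    (hz : z ∈ T) (hzz : z * z = 1) (hzc : ∀ t ∈ T, t * z = z * t)
    (h : ¬ p ^ b ∣ Nat.card (normalizer (thompsonSubgroupOf 2 T : Set S)) * Nat.card (centralizer ({z} : Set S))) :
    ¬ Dom ({2, p} : Set ℕ) S := by
  intro hD
  obtain ⟨N, C, j, i, hN, hC, hb, -, -, -, -, hCz, hNJ⟩ := dvd_mul hp hp5 hS h2 hm hI hD hT2 hTi hz hzz hzc
  apply h
  have h1 : p ^ j ∣ Nat.card (normalizer (thompsonSubgroupOf 2 T : Set S)) :=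
    (Dvd.intro_left _ hN.symm).trans (card_dvd_of_le hNJ)
  have h3 : p ^ i ∣ Nat.card (centralizer ({z} : Set S)) := (Dvd.intro_left _ hC.symm).trans (card_dvd_of_le hCz)
  exact (pow_dvd_pow p hb).trans (by rw [pow_add]; exact mul_dvd_mul h1 h3)

end Cfsg.Agent.H768.RV
end
end
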